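import Mathlib

set_option autoImplicit false

namespace Cfsg.Agent.H55

/-- Two non-conjugate involutions of a finite group commute with a common involution. -/
theorem exists_common_involution {G : Type*} [Group G] [Finite G] {x y : G} (hx : orderOf x = 2)
    (hy : orderOf y = 2) (h : ¬ IsConj x y) :
    ∃ u : G, orderOf u = 2 ∧ Commute u x ∧ Commute u y := by
  have hx2 : x * x = 1 := by rw [← pow_two, ← hx]; exact pow_orderOf_eq_one x
  have hy2 : y * y = 1 := by rw [← pow_two, ← hy]; exact pow_orderOf_eq_one y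
  have hxinv : x⁻¹ = x := inv_eq_of_mul_eq_one_left hx2
  have hyinv : y⁻¹ = y := inv_eq_of_mul_eq_one_left hy2
  set w := x * y with hw
  have hxw : ∀ j : ℕ, x * w ^ j * x = (w ^ j)⁻¹ := by
    intro j
    have h1 : x * w * x⁻¹ = w⁻¹ := by rw [hw, mul_inv_rev, hxinv, hyinv]; simp [← mul_assoc, hx2]
    calc x * w ^ j * x = x * w ^ j * x⁻¹ := by rw [hxinv]
      _ = (x * w * x⁻¹) ^ j := (conj_pow).symm
      _ = (w ^ j)⁻¹ := by rw [h1, inv_pow]
  rcases Nat.even_or_odd' (orderOf w) with ⟨m, hm | hm⟩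
  · have hpos : 0 < orderOf w := orderOf_pos w
    have hm0 : m ≠ 0 := by rintro rfl; omega
    refine ⟨w ^ m, ?_, ?_, ?_⟩
    · rw [orderOf_pow' w hm0, hm, Nat.gcd_eq_right (Dvd.intro_left 2 rfl)]
      exact Nat.mul_div_cancel _ (Nat.pos_of_ne_zero hm0)
    · have h2 : (w ^ m)⁻¹ = w ^ m := by
        apply inv_eq_of_mul_eq_one_left
        rw [← pow_add, ← two_mul, ← hm]; exact pow_orderOf_eq_one w
      have h3 := hxw m
      rw [h2] at h3
      show w ^ m * x = x * w ^ m
      calc w ^ m * x = (x * w ^ m * x) * x := by rw [h3]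
        _ = x * w ^ m := by rw [mul_assoc (x * w ^ m), hx2, mul_one]
    · have h2 : (w ^ m)⁻¹ = w ^ m := by
        apply inv_eq_of_mul_eq_one_left
        rw [← pow_add, ← two_mul, ← hm]; exact pow_orderOf_eq_one w
      have h3 := hxw m
      rw [h2] at h3
      have hy' : y = x * w := by rw [hw, ← mul_assoc, hx2, one_mul]
      have hcx : Commute (w ^ m) x := by
        show w ^ m * x = x * w ^ m
        calc w ^ m * x = (x * w ^ m * x) * x := by rw [h3]
          _ = x * w ^ m := by rw [mul_assoc (x * w ^ m), hx2, mul_one]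
      rw [hy']
      exact hcx.mul_right ((Commute.refl w).pow_left m)
  · exfalso
    apply h
    rw [isConj_iff]
    refine ⟨w ^ m, ?_⟩
    have hw1 : w ^ (2 * m + 1) = 1 := by rw [← hm]; exact pow_orderOf_eq_one w
    have h3 := hxw m
    -- w^m x w^-m = x w^{-2m} = x w = y
    have h4 : w ^ m * x = x * (w ^ m)⁻¹ := by
      rw [← h3]; simp [← mul_assoc, hx2]
    rw [h4, mul_assoc, ← mul_inv_rev, ← pow_add, ← two_mul]
    have h5 : (w ^ (2 * m))⁻¹ = w := by
      rw [inv_eq_iff_mul_eq_one, ← pow_succ]; exact hw1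
    rw [h5, hw, ← mul_assoc, hx2, one_mul]

end Cfsg.Agent.H55
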