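import Mathlib
import Cfsg.Agent.H55.Inv

set_option autoImplicit false

namespace Cfsg.Agent.H55

theorem two_group_center_involution {G : Type*} [Group G] [Finite G] (P : Subgroup G)
    (hP : IsPGroup 2 P) (hne : P ≠ ⊥) : ∃ z ∈ P, orderOf z = 2 ∧ ∀ s ∈ P, Commute s z := by
  haveI : Nontrivial P := (Subgroup.nontrivial_iff_ne_bot P).2 hne
  haveI : Fact (Nat.Prime 2) := ⟨Nat.prime_two⟩
  haveI := hP.center_nontrivial
  have hc : IsPGroup 2 (Subgroup.center P) := hP.to_subgroup _
  obtain ⟨n, hn0, hn⟩ := hc.nontrivial_iff_card.1 inferInstance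
  have hdvd : 2 ∣ Nat.card (Subgroup.center P) := by
    rw [hn]; exact dvd_pow_self 2 (Nat.pos_iff_ne_zero.1 hn0)
  obtain ⟨z, hz⟩ := exists_prime_orderOf_dvd_card' 2 hdvd
  refine ⟨((z : P) : G), (z : P).2, ?_, ?_⟩
  · rw [Subgroup.orderOf_coe, Subgroup.orderOf_coe]; exact hz
  · intro s hs
    have := Subgroup.mem_center_iff.1 z.2 ⟨s, hs⟩
    exact congrArg Subtype.val this

/-- In a simple group with two distinct commuting involutions the centre is trivial. -/
theorem center_trivial_of_simple {G : Type*} [Group G] [IsSimpleGroup G] {x y : G}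
    (hx : orderOf x = 2) (hy : orderOf y = 2) (hxy : x ≠ y) {c : G} (hc : ∀ g : G, Commute c g) :
    c = 1 := by
  have hcc : c ∈ Subgroup.center G := Subgroup.mem_center_iff.2 fun g => (hc g).symm
  rcases (inferInstance : (Subgroup.center G).Normal).eq_bot_or_eq_top with h | h
  · rw [h] at hcc; exact Subgroup.mem_bot.1 hcc
  · exfalso
    have hab : ∀ a b : G, a * b = b * a := by
      intro a b
      have : b ∈ Subgroup.center G := by rw [h]; trivial
      exact Subgroup.mem_center_iff.1 this a
    have hn : (Subgroup.zpowers x).Normal := by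
      constructor
      intro n hn g
      rw [hab g n, mul_assoc, mul_inv_cancel, mul_one]; exact hn
    rcases hn.eq_bot_or_eq_top with h | h
    · have : x ∈ Subgroup.zpowers x := Subgroup.mem_zpowers x
      rw [h, Subgroup.mem_bot] at this
      rw [this, orderOf_one] at hx; omega
    · have : y ∈ Subgroup.zpowers x := by rw [h]; trivial
      rw [Subgroup.mem_zpowers_iff] at this
      obtain ⟨k, hk⟩ := this
      have hx2 : x ^ 2 = 1 := by rw [← hx]; exact pow_orderOf_eq_one x
      rcases Int.even_or_odd' k with ⟨m, rfl | rfl⟩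
      · have : y = 1 := by rw [← hk, zpow_mul]; norm_cast; rw [hx2, one_zpow]
        rw [this, orderOf_one] at hy; omega
      · have : y = x := by
          rw [← hk, zpow_add, zpow_mul]; norm_cast; rw [hx2, one_zpow, one_mul, pow_one]
        exact hxy this.symm

/-- Simple group, involution `x` whose centralizer has the only involutions `x, y, xy`:
then `y` is conjugate to `x`. -/
theorem isConj_of_three_involutions {G : Type*} [Group G] [Finite G] [IsSimpleGroup G] {x y : G}
    (hx : orderOf x = 2) (hy : orderOf y = 2) (hxy : Commute x y) (hne : x ≠ y)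
    (hI : ∀ u : G, orderOf u = 2 → Commute u x → u = x ∨ u = y ∨ u = x * y) : IsConj x y := by
  by_contra hnc
  have hx1 : x ≠ 1 := by rintro rfl; rw [orderOf_one] at hx; omega
  have hy1 : y ≠ 1 := by rintro rfl; rw [orderOf_one] at hy; omega
  have hx2 : x * x = 1 := by rw [← pow_two, ← hx]; exact pow_orderOf_eq_one x
  have hy2 : y * y = 1 := by rw [← pow_two, ← hy]; exact pow_orderOf_eq_one y
  set p := x * y with hp
  have hpy : Commute p y := hxy.mul_left (Commute.refl y)
  have hpx : p * y = x := by rw [hp, mul_assoc, hy2, mul_one]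
  -- H
  have H0 : ∀ k : G, IsConj y k → Commute k y ∨ Commute k p := by
    intro k hk
    have hko : orderOf k = 2 := by
      obtain ⟨g, rfl⟩ := isConj_iff.1 hk
      rw [← hy]; exact (MulAut.conj g).orderOf_eq y
    have hn : ¬ IsConj x k := fun h => hnc (h.trans hk.symm)
    obtain ⟨u, hu, hux, huk⟩ := exists_common_involution hx hko hn
    rcases hI u hu hux with rfl | rfl | rfl
    · rcases hI k hko huk.symm with h | h | h
      · exact absurd (h ▸ IsConj.refl u) hn
      · left; rw [h]
      · left; rw [h]; exact hpy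
    · left; exact huk.symm
    · right; exact huk.symm
  have H20 : ∀ k : G, IsConj y k → Commute k y → Commute k p → k = y ∨ k = p := by
    intro k hk h1 h2
    have hko : orderOf k = 2 := by
      obtain ⟨g, rfl⟩ := isConj_iff.1 hk
      rw [← hy]; exact (MulAut.conj g).orderOf_eq y
    have hkx : Commute k x := by rw [← hpx]; exact h2.mul_right h1
    rcases hI k hko hkx with h | h | h
    · exact absurd (h ▸ hk.symm) hnc
    · left; exact h
    · right; exact h
  have conjc : ∀ (g a b : G), Commute (g⁻¹ * a * g) b ↔ Commute a (g * b * g⁻¹) := by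
    intro g a b
    constructor
    · intro h
      have := h.conj g
      have e : g * (g⁻¹ * a * g) * g⁻¹ = a := by group
      rwa [e] at this
    · intro h
      have := h.conj g⁻¹
      have e : g⁻¹ * (g * b * g⁻¹) * (g⁻¹)⁻¹ = b := by group
      have e' : g⁻¹ * a * (g⁻¹)⁻¹ = g⁻¹ * a * g := by group
      rwa [e, e'] at this
  have hcj : ∀ (g k : G), IsConj y k → IsConj y (g⁻¹ * k * g) := by
    intro g k hk
    exact hk.trans (isConj_iff.2 ⟨g⁻¹, by group⟩)
  have H : ∀ (g k : G), IsConj y k → Commute k (g * y * g⁻¹) ∨ Commute k (g * p * g⁻¹) := by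
    intro g k hk
    rcases H0 (g⁻¹ * k * g) (hcj g k hk) with h | h
    · left; exact (conjc g k y).1 h
    · right; exact (conjc g k p).1 h
  have H2 : ∀ (g k : G), IsConj y k → Commute k (g * y * g⁻¹) → Commute k (g * p * g⁻¹) →
      k = g * y * g⁻¹ ∨ k = g * p * g⁻¹ := by
    intro g k hk h1 h2
    rcases H20 (g⁻¹ * k * g) (hcj g k hk) ((conjc g k y).2 h1) ((conjc g k p).2 h2) with h | h
    · left; rw [← h]; group
    · right; rw [← h]; group
  let N : G → Set G := fun k => {k' | IsConj y k' ∧ k' ≠ k ∧ Commute k' k}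
  have H3 : ∀ (g : G), N (g * y * g⁻¹) =
      {k' | IsConj y k' ∧ (¬ Commute k' (g * p * g⁻¹) ∨ k' = g * p * g⁻¹)} := by
    intro g
    ext k'
    simp only [N, Set.mem_setOf_eq]
    constructor
    · rintro ⟨h1, h2, h3⟩
      refine ⟨h1, ?_⟩
      by_cases h4 : Commute k' (g * p * g⁻¹)
      · right
        rcases H2 g k' h1 h3 h4 with h | h
        · exact absurd h h2
        · exact h
      · left; exact h4
    · rintro ⟨h1, h2 | h2⟩
      · refine ⟨h1, ?_, ?_⟩
        · rintro rfl
          exact h2 (hpy.symm.conj g)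
        · rcases H g k' h1 with h | h
          · exact h
          · exact absurd h h2
      · refine ⟨h1, ?_, ?_⟩
        · rw [h2]
          intro h
          have : p = y := by simpa using h
          rw [hp] at this
          exact hx1 (by simpa using this)
        · rw [h2]; exact hpy.conj g
  have HN : ∀ (g h : G), g * p * g⁻¹ = h * p * h⁻¹ → N (g * y * g⁻¹) = N (h * y * h⁻¹) := by
    intro g h hgh
    rw [H3, H3, hgh]
  have Nconj : ∀ (h k k' : G), k' ∈ N (h * k * h⁻¹) ↔ h⁻¹ * k' * h ∈ N k := by
    intro h k k'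
    simp only [N, Set.mem_setOf_eq]
    constructor
    · rintro ⟨h1, h2, h3⟩
      refine ⟨hcj h k' h1, ?_, (conjc h k' k).2 h3⟩
      intro h4; apply h2; rw [← h4]; group
    · rintro ⟨h1, h2, h3⟩
      refine ⟨?_, ?_, (conjc h k' k).1 h3⟩
      · exact h1.trans (isConj_iff.2 ⟨h, by group⟩)
      · intro h4; apply h2; rw [h4]; group
  let A : Subgroup G :=
    { carrier := {a | ∀ g : G, N (a * g * y * (a * g)⁻¹) = N (g * y * g⁻¹)}
      mul_mem' := by
        intro a b ha hb g
        have h1 := ha (b * g)
        have h2 := hb g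
        rw [mul_assoc a b g, h1, h2]
      one_mem' := by intro g; simp
      inv_mem' := by
        intro a ha g
        have h1 := ha (a⁻¹ * g)
        rw [mul_inv_cancel_left] at h1
        exact h1.symm }
  have hA : A.Normal := by
    constructor
    intro a ha h g
    have h1 := ha (h⁻¹ * g)
    ext k'
    have e1 : h * a * h⁻¹ * g * y * (h * a * h⁻¹ * g)⁻¹ =
        h * (a * (h⁻¹ * g) * y * (a * (h⁻¹ * g))⁻¹) * h⁻¹ := by group
    have e2 : g * y * g⁻¹ = h * (h⁻¹ * g * y * (h⁻¹ * g)⁻¹) * h⁻¹ := by group
    rw [e1, e2, Nconj h (a * (h⁻¹ * g) * y * (a * (h⁻¹ * g))⁻¹) k',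
      Nconj h (h⁻¹ * g * y * (h⁻¹ * g)⁻¹) k', h1]
  have hyA : y ∈ A := by
    intro g
    by_cases hc : Commute y (g * y * g⁻¹)
    · have : y * g * y * (y * g)⁻¹ = g * y * g⁻¹ := by
        have e : y * g * y * (y * g)⁻¹ = y * (g * y * g⁻¹) * y⁻¹ := by group
        rw [e, hc.eq]; group
      rw [this]
    · have hc' : Commute y (g * p * g⁻¹) := by
        rcases H g y (IsConj.refl y) with h | h
        · exact absurd h hc
        · exact h
      apply HN
      have e : y * g * p * (y * g)⁻¹ = y * (g * p * g⁻¹) * y⁻¹ := by group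
      rw [e, hc'.eq]; group
  have hAtop : A = ⊤ := by
    rcases hA.eq_bot_or_eq_top with h | h
    · rw [h] at hyA; exact absurd (Subgroup.mem_bot.1 hyA) hy1
    · exact h
  have hNconst : ∀ g : G, N (g * y * g⁻¹) = N y := by
    intro g
    have hg : g ∈ A := by rw [hAtop]; trivial
    have := hg 1
    simpa using this
  have hcomm : ∀ g : G, Commute p (g * y * g⁻¹) := by
    intro g
    by_contra hc
    have h1 : g * y * g⁻¹ ∈ N (1 * y * 1⁻¹) := by
      rw [H3]
      refine ⟨isConj_iff.2 ⟨g, rfl⟩, Or.inl ?_⟩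
      intro h; apply hc; simpa using h.symm
    have h2 : g * y * g⁻¹ ∈ N (g * y * g⁻¹) := by
      rw [hNconst g]; simpa using h1
    exact h2.2.1 rfl
  have htop : Subgroup.normalClosure ({y} : Set G) = ⊤ := by
    rcases (Subgroup.normalClosure_normal (s := ({y} : Set G))).eq_bot_or_eq_top with h | h
    · have : y ∈ Subgroup.normalClosure ({y} : Set G) :=
        Subgroup.subset_normalClosure (Set.mem_singleton y)
      rw [h] at this; exact absurd (Subgroup.mem_bot.1 this) hy1
    · exact h
  have hcen : ∀ g : G, Commute p g := by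
    intro g
    have hg : g ∈ Subgroup.normalClosure ({y} : Set G) := by rw [htop]; trivial
    have hle : Subgroup.normalClosure ({y} : Set G) ≤ Subgroup.centralizer ({p} : Set G) := by
      unfold Subgroup.normalClosure
      rw [Subgroup.closure_le]
      intro a ha
      rw [Group.mem_conjugatesOfSet_iff] at ha
      obtain ⟨y1, h1, ha⟩ := ha
      rw [Set.mem_singleton_iff] at h1
      rw [h1, isConj_iff] at ha
      obtain ⟨g, rfl⟩ := ha
      rw [SetLike.mem_coe, Subgroup.mem_centralizer_singleton_iff]
      exact (hcomm g).symm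
    have := hle hg
    rw [Subgroup.mem_centralizer_singleton_iff] at this
    exact (show Commute g p from this).symm
  have hp1 := center_trivial_of_simple hx hy hne hcen
  apply hne
  have : x * y = 1 := hp1
  rw [mul_eq_one_iff_eq_inv] at this
  rw [this]
  exact (inv_eq_of_mul_eq_one_left hy2)

theorem three_involutions {G : Type*} [Group G] [Finite G] {x : G} (hx : orderOf x = 2)
    (h3 : Nat.card {u : ↥(Subgroup.centralizer ({x} : Set G)) // orderOf u = 2} ≤ 3)
    {y : G} (hy : orderOf y = 2) (hxy : Commute x y) (hne : x ≠ y) :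
    ∀ u : G, orderOf u = 2 → Commute u x → u = x ∨ u = y ∨ u = x * y := by
  intro u hu hux
  by_contra hcon
  push Not at hcon
  obtain ⟨h1, h2, h4⟩ := hcon
  have hx1 : x ≠ 1 := by rintro rfl; rw [orderOf_one] at hx; omega
  have hy1 : y ≠ 1 := by rintro rfl; rw [orderOf_one] at hy; omega
  have hx2 : x * x = 1 := by rw [← pow_two, ← hx]; exact pow_orderOf_eq_one x
  have hy2 : y * y = 1 := by rw [← pow_two, ← hy]; exact pow_orderOf_eq_one y
  have hxy1 : x * y ≠ 1 := by
    intro h; apply hne; rw [mul_eq_one_iff_eq_inv] at h; rw [h]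
    exact inv_eq_of_mul_eq_one_left hy2
  have ho : orderOf (x * y) = 2 := by
    apply orderOf_eq_prime _ hxy1
    rw [hxy.mul_pow, pow_two, pow_two, hx2, hy2, one_mul]
  have hmem : ∀ v : G, Commute v x → v ∈ Subgroup.centralizer ({x} : Set G) := fun v hv =>
    Subgroup.mem_centralizer_singleton_iff.2 hv
  have hxyx : Commute (x * y) x := (Commute.refl x).mul_left hxy.symm
  let f : Fin 4 → {u : ↥(Subgroup.centralizer ({x} : Set G)) // orderOf u = 2} :=
    ![⟨⟨x, hmem x (Commute.refl x)⟩, by rw [Subgroup.orderOf_mk]; exact hx⟩,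
      ⟨⟨y, hmem y hxy.symm⟩, by rw [Subgroup.orderOf_mk]; exact hy⟩,
      ⟨⟨x * y, hmem _ hxyx⟩, by rw [Subgroup.orderOf_mk]; exact ho⟩,
      ⟨⟨u, hmem u hux⟩, by rw [Subgroup.orderOf_mk]; exact hu⟩]
  have hf : Function.Injective f := by
    intro a b hab
    have hab' : ((f a).1 : G) = ((f b).1 : G) := by rw [hab]
    fin_cases a <;> fin_cases b <;> simp [f] at hab' ⊢ <;>
      first
        | exact absurd hab' hne
        | exact absurd hab' hne.symm
        | exact absurd hab' hy1
        | exact absurd hab' hx1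
        | exact absurd hab' h1
        | exact absurd hab' h2
        | exact absurd hab' h4
        | exact absurd hab'.symm h1
        | exact absurd hab'.symm h2
        | exact absurd hab'.symm h4
  have := Nat.card_le_card_of_injective f hf
  simp at this
  omega

end Cfsg.Agent.H55
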