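import Mathlib
import Cfsg.Agent.H55.Inv

set_option autoImplicit false
open Pointwise

namespace Cfsg.Agent.H55

theorem mul_self_of_orderOf {G : Type*} [Monoid G] {t : G} (h : orderOf t = 2) : t * t = 1 := by
  rw [← pow_two, ← h]; exact pow_orderOf_eq_one t

/-- A group of order 60 with a faithful action on five points is `A₅`. -/
theorem alt5_of_injective {G : Type*} [Group G] [Finite G] (hG : Nat.card G = 60)
    {X : Type*} (hX : Nat.card X = 5) (f : G →* Equiv.Perm X) (hf : Function.Injective f) :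
    Nonempty (G ≃* ↥(alternatingGroup (Fin 5))) := by
  classical
  haveI : Finite X := Nat.finite_of_card_ne_zero (by omega)
  have e : X ≃ Fin 5 := (Finite.equivFin X).trans (finCongr hX)
  let g : G →* Equiv.Perm (Fin 5) := (e.permCongrHom.toMonoidHom).comp f
  have hg : Function.Injective g := (e.permCongrHom.injective).comp hf
  have h1 : Nat.card g.range = 60 := by
    rw [← hG]; exact (Nat.card_congr (MonoidHom.ofInjective hg).toEquiv).symm
  have h2 : g.range.index = 2 := by
    have := g.range.card_mul_index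
    rw [h1, Nat.card_eq_fintype_card, Fintype.card_perm, Fintype.card_fin] at this
    have h3 : Nat.factorial 5 = 120 := rfl
    omega
  have h3 := Equiv.Perm.eq_alternatingGroup_of_index_eq_two h2
  exact ⟨(MonoidHom.ofInjective hg).trans (MulEquiv.subgroupCongr h3)⟩

section core

variable {G : Type*} [Group G] [Finite G]

theorem inv_mem_of_smul_eq {P : Sylow 2 G} {t : G} (ht : orderOf t = 2) (h : t • P = P) :
    t ∈ (P : Subgroup G) := by
  haveI : Fact (Nat.Prime 2) := ⟨Nat.prime_two⟩
  have h2 : IsPGroup 2 (Subgroup.zpowers t) := by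
    apply IsPGroup.of_card (n := 1)
    rw [Nat.card_zpowers, ht, pow_one]
  have h3 := h2.inf_normalizer_sylow P
  have h4 : t ∈ Subgroup.zpowers t ⊓ Subgroup.normalizer (P : Set G) :=
    ⟨Subgroup.mem_zpowers t, Sylow.smul_eq_iff_mem_normalizer.1 h⟩
  rw [h3] at h4
  exact h4.2

theorem smul_eq_of_mem {P : Sylow 2 G} {t : G} (h : t ∈ (P : Subgroup G)) : t • P = P :=
  Sylow.smul_eq_iff_mem_normalizer.2 (Subgroup.le_normalizer h)

theorem exists_sylow_mem {t : G} (ht : orderOf t = 2) : ∃ P : Sylow 2 G, t ∈ (P : Subgroup G) := by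
  have h2 : IsPGroup 2 (Subgroup.zpowers t) := by
    apply IsPGroup.of_card (n := 1)
    rw [Nat.card_zpowers, ht, pow_one]
  obtain ⟨Q, hQ⟩ := h2.exists_le_sylow
  exact ⟨Q, hQ (Subgroup.mem_zpowers t)⟩

theorem sylow_conj_mem {P : Sylow 2 G} {g a : G} :
    g * a * g⁻¹ ∈ ((g • P : Sylow 2 G) : Subgroup G) ↔ a ∈ (P : Subgroup G) := by
  constructor
  · intro h
    have h' : g * a * g⁻¹ ∈ MulAut.conj g • (P : Subgroup G) := h
    rw [Subgroup.mem_pointwise_smul_iff_inv_smul_mem] at h'
    have e : (MulAut.conj g)⁻¹ • (g * a * g⁻¹) = a := by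
      show (MulAut.conj g)⁻¹ (g * a * g⁻¹) = a
      rw [MulAut.conj_inv_apply]; group
    rwa [e] at h'
  · intro h
    exact Subgroup.smul_mem_pointwise_smul a (MulAut.conj g) _ h

/-- The standing hypotheses: Klein four Sylow 2-subgroups, self-centralising elementwise, with
stabilisers of order 12. -/
structure KS (G : Type*) [Group G] : Prop where
  sq : ∀ P : Sylow 2 G, ∀ v ∈ (P : Subgroup G), v * v = 1
  card : ∀ P : Sylow 2 G, Nat.card P = 4
  cen : ∀ P : Sylow 2 G, ∀ v ∈ (P : Subgroup G), v ≠ 1 → ∀ g : G, Commute g v →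
    g ∈ (P : Subgroup G)
  stab : ∀ P : Sylow 2 G, Nat.card (MulAction.stabilizer G P) = 12

variable (hG : KS G)

include hG

omit [Finite G] in
theorem KS.comm (P : Sylow 2 G) {a b : G} (ha : a ∈ (P : Subgroup G)) (hb : b ∈ (P : Subgroup G)) :
    Commute a b := by
  have h1 := hG.sq P a ha
  have h2 := hG.sq P b hb
  have h3 := hG.sq P (a * b) ((P : Subgroup G).mul_mem ha hb)
  have e1 : a⁻¹ = a := inv_eq_of_mul_eq_one_left h1
  have e2 : b⁻¹ = b := inv_eq_of_mul_eq_one_left h2
  have e3 : (a * b)⁻¹ = a * b := inv_eq_of_mul_eq_one_left h3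
  rw [mul_inv_rev, e1, e2] at e3
  exact e3.symm

omit [Finite G] in
theorem KS.eq_of_mem {P Q : Sylow 2 G} {v : G} (hv : v ≠ 1) (hP : v ∈ (P : Subgroup G))
    (hQ : v ∈ (Q : Subgroup G)) : P = Q := by
  have h1 : (P : Subgroup G) ≤ Q := fun g hg => hG.cen Q v hQ hv g (hG.comm P hg hP)
  exact Sylow.ext (P.3 Q.isPGroup' h1).symm

omit [Finite G] in
theorem KS.orderOf_mem {P : Sylow 2 G} {v : G} (hv : v ≠ 1) (hP : v ∈ (P : Subgroup G)) :
    orderOf v = 2 :=
  orderOf_eq_prime (by rw [pow_two]; exact hG.sq P v hP) hv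

/-- No element of order three commutes with an involution; more generally subgroups fixing two
Sylow subgroups contain no involution. -/
theorem KS.odd_of_two {P Q : Sylow 2 G} (hPQ : P ≠ Q) {t : G} (ht : orderOf t = 2)
    (h1 : t • P = P) (h2 : t • Q = Q) : False := by
  have ht1 : t ≠ 1 := by rintro rfl; rw [orderOf_one] at ht; omega
  exact hPQ (hG.eq_of_mem ht1 (inv_mem_of_smul_eq ht h1) (inv_mem_of_smul_eq ht h2))

/-- A subgroup of a point stabiliser without involutions has order 1 or 3. -/
theorem KS.card_le_three {P : Sylow 2 G} (D : Subgroup G) (hD : ∀ d ∈ D, d • P = P)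
    (hodd : ∀ d ∈ D, orderOf d ≠ 2) : Nat.card D = 1 ∨ Nat.card D = 3 := by
  haveI : Fact (Nat.Prime 2) := ⟨Nat.prime_two⟩
  have hle : D ≤ MulAction.stabilizer G P := fun d hd => hD d hd
  have h1 : Nat.card D ∣ 12 := by rw [← hG.stab P]; exact Subgroup.card_dvd_of_le hle
  have h2 : ¬ 2 ∣ Nat.card D := by
    intro h
    obtain ⟨t, ht⟩ := exists_prime_orderOf_dvd_card' (G := D) 2 h
    exact hodd t t.2 (by rw [Subgroup.orderOf_coe]; exact ht)
  have h3 : Nat.card D ≤ 12 := Nat.le_of_dvd (by norm_num) h1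
  interval_cases Nat.card D <;> omega

/-- Counting: exactly three involutions map `P` to `Q`. -/
theorem KS.three_inv {P Q : Sylow 2 G} (hPQ : P ≠ Q) :
    Nat.card {t : G // orderOf t = 2 ∧ t • P = Q} = 3 := by
  classical
  haveI : Fact (Nat.Prime 2) := ⟨Nat.prime_two⟩
  haveI : Fintype G := Fintype.ofFinite G
  haveI : Fintype (Sylow 2 G) := Fintype.ofFinite _
  let I : Finset G := Finset.univ.filter (fun t => orderOf t = 2)
  let I' : Finset G := I.filter (fun t => t ∉ (P : Subgroup G))
  let syl : G → Sylow 2 G := fun t => if h : ∃ R : Sylow 2 G, t ∈ (R : Subgroup G) then h.choose else P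
  have hsyl : ∀ t, orderOf t = 2 → t ∈ (syl t : Subgroup G) := by
    intro t ht
    have h := exists_sylow_mem ht
    simp only [syl, dif_pos h]; exact h.choose_spec
  have hne1 : ∀ t : G, orderOf t = 2 → t ≠ 1 := by rintro t ht rfl; rw [orderOf_one] at ht; omega
  have hsyl2 : ∀ t, orderOf t = 2 → ∀ R : Sylow 2 G, syl t = R ↔ t ∈ (R : Subgroup G) := by
    intro t ht R
    constructor
    · rintro rfl; exact hsyl t ht
    · intro h; exact hG.eq_of_mem (hne1 t ht) (hsyl t ht) h
  have hRcard : ∀ R : Sylow 2 G, (Finset.univ.filter (fun t => orderOf t = 2 ∧ t ∈ (R : Subgroup G))).card = 3 := by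
    intro R
    have h1 : (Finset.univ.filter (fun t => t ∈ (R : Subgroup G))).card = 4 := by
      rw [← hG.card R, Nat.card_eq_fintype_card, Fintype.card_subtype]
    have h2 : Finset.univ.filter (fun t => orderOf t = 2 ∧ t ∈ (R : Subgroup G)) =
        (Finset.univ.filter (fun t => t ∈ (R : Subgroup G))).erase 1 := by
      ext t
      simp only [Finset.mem_filter, Finset.mem_univ, true_and, Finset.mem_erase]
      constructor
      · rintro ⟨h1, h2⟩; exact ⟨hne1 t h1, h2⟩
      · rintro ⟨h1, h2⟩; exact ⟨hG.orderOf_mem h1 h2, h2⟩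
    rw [h2, Finset.card_erase_of_mem (by simp [(R : Subgroup G).one_mem]), h1]
  have hI' : I'.card = ∑ R ∈ Finset.univ.erase P, 3 := by
    rw [Finset.card_eq_sum_card_fiberwise (f := syl) (t := Finset.univ.erase P)]
    · apply Finset.sum_congr rfl
      intro R hR
      rw [← hRcard R]
      congr 1
      ext t
      simp only [I', I, Finset.mem_filter, Finset.mem_univ, true_and]
      constructor
      · rintro ⟨⟨h1, h2⟩, h3⟩; exact ⟨h1, (hsyl2 t h1 R).1 h3⟩
      · rintro ⟨h1, h2⟩
        refine ⟨⟨h1, ?_⟩, (hsyl2 t h1 R).2 h2⟩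
        intro h3
        exact (Finset.ne_of_mem_erase hR) (hG.eq_of_mem (hne1 t h1) h2 h3)
    · intro t ht
      simp only [I', I, Finset.coe_filter, Finset.mem_filter, Finset.mem_univ, true_and,
        Set.mem_setOf_eq] at ht
      simp only [Finset.coe_erase, Finset.coe_univ, Set.mem_diff, Set.mem_univ, true_and,
        Set.mem_singleton_iff]
      intro h
      exact ht.2 ((hsyl2 t ht.1 P).1 h)
  have hI'2 : I'.card = ∑ R ∈ Finset.univ.erase P, (I'.filter (fun t => t • P = R)).card := by
    apply Finset.card_eq_sum_card_fiberwise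
    intro t ht
    simp only [I', I, Finset.coe_filter, Finset.mem_filter, Finset.mem_univ, true_and,
      Set.mem_setOf_eq] at ht
    simp only [Finset.coe_erase, Finset.coe_univ, Set.mem_diff, Set.mem_univ, true_and,
      Set.mem_singleton_iff]
    intro h
    exact ht.2 (inv_mem_of_smul_eq ht.1 h)
  have hfib : ∀ R ∈ Finset.univ.erase P, (I'.filter (fun t => t • P = R)).card ≤ 3 := by
    intro R hR
    have hRP : R ≠ P := Finset.ne_of_mem_erase hR
    rcases (I'.filter (fun t => t • P = R)).eq_empty_or_nonempty with h | ⟨t0, ht0⟩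
    · rw [h]; simp
    · simp only [I', I, Finset.mem_filter, Finset.mem_univ, true_and] at ht0
      let D : Subgroup G := MulAction.stabilizer G P ⊓ MulAction.stabilizer G R
      have hD : Nat.card D = 1 ∨ Nat.card D = 3 := by
        apply hG.card_le_three D (P := P) (fun d hd => hd.1)
        intro d hd ho
        exact hG.odd_of_two (Ne.symm hRP) ho hd.1 hd.2
      have hDle : Nat.card D ≤ 3 := by omega
      refine le_trans ?_ hDle
      rw [← Fintype.card_coe, ← Nat.card_eq_fintype_card]
      have hback : ∀ t : G, orderOf t = 2 → t • P = R → t • R = P := by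
        intro t ht h
        rw [← h, ← mul_smul]
        have : t * t = 1 := by rw [← pow_two, ← ht]; exact pow_orderOf_eq_one t
        rw [this, one_smul]
      apply Nat.card_le_card_of_injective (fun t : (I'.filter (fun t => t • P = R)) =>
        (⟨t0 * t, by
          have ht := t.2
          simp only [I', I, Finset.mem_filter, Finset.mem_univ, true_and] at ht
          refine ⟨?_, ?_⟩
          · show (t0 * t) • P = P
            rw [mul_smul, ht.2, hback t0 ht0.1.1 ht0.2]
          · show (t0 * t) • R = R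
            rw [mul_smul, hback t ht.1.1 ht.2, ht0.2]⟩ : D))
      intro a b hab
      have hab' : t0 * (a : G) = t0 * (b : G) := congrArg Subtype.val hab
      exact Subtype.ext (mul_left_cancel hab')
  have heq : ∑ R ∈ Finset.univ.erase P, (I'.filter (fun t => t • P = R)).card =
      ∑ R ∈ Finset.univ.erase P, 3 := by rw [← hI'2, hI']
  have := (Finset.sum_eq_sum_iff_of_le hfib).1 heq Q (by simp [Ne.symm hPQ])
  rw [← this, Nat.card_eq_fintype_card, Fintype.card_subtype]
  congr 1
  ext t
  simp only [I', I, Finset.mem_filter, Finset.mem_univ, true_and]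
  constructor
  · rintro ⟨h1, h2⟩
    refine ⟨⟨h1, ?_⟩, h2⟩
    intro h3
    apply hPQ
    rw [← h2]; exact (smul_eq_of_mem h3).symm
  · rintro ⟨⟨h1, h2⟩, h3⟩; exact ⟨h1, h3⟩

theorem KS.card_inf {P Q : Sylow 2 G} (hPQ : P ≠ Q) :
    Nat.card ↥(MulAction.stabilizer G P ⊓ MulAction.stabilizer G Q) = 3 := by
  have hD := hG.card_le_three (P := P) (MulAction.stabilizer G P ⊓ MulAction.stabilizer G Q)
    (fun d hd => hd.1) (fun d hd ho => hG.odd_of_two hPQ ho hd.1 hd.2)
  rcases hD with h | h
  · exfalso
    have h3 := hG.three_inv hPQ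
    haveI : Nontrivial {t : G // orderOf t = 2 ∧ t • P = Q} := by
      rw [← Finite.one_lt_card_iff_nontrivial, h3]; norm_num
    obtain ⟨a, b, hab⟩ := exists_pair_ne {t : G // orderOf t = 2 ∧ t • P = Q}
    apply hab
    have hback : ∀ t : G, orderOf t = 2 → t • P = Q → t • Q = P := by
      intro t ht h
      rw [← h, ← mul_smul]
      have : t * t = 1 := by rw [← pow_two, ← ht]; exact pow_orderOf_eq_one t
      rw [this, one_smul]
    have h1 : (a : G) * b ∈ (MulAction.stabilizer G P ⊓ MulAction.stabilizer G Q) := by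
      refine ⟨?_, ?_⟩
      · show ((a : G) * b) • P = P
        rw [mul_smul, b.2.2, hback a a.2.1 a.2.2]
      · show ((a : G) * b) • Q = Q
        rw [mul_smul, hback b b.2.1 b.2.2, a.2.2]
    rw [Subgroup.card_eq_one.1 h, Subgroup.mem_bot] at h1
    have h2 : (b : G) * b = 1 := mul_self_of_orderOf b.2.1
    exact Subtype.ext (mul_right_cancel (h1.trans h2.symm))
  · exact h

/-- Involutions swapping `P` and `Q` invert the elements fixing both. -/
theorem KS.inverts {P Q : Sylow 2 G} (hPQ : P ≠ Q) {t d : G} (ht : orderOf t = 2) (htP : t • P = Q)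
    (hd1 : d • P = P) (hd2 : d • Q = Q) : t * d * t⁻¹ = d⁻¹ := by
  classical
  let D := MulAction.stabilizer G P ⊓ MulAction.stabilizer G Q
  have hback : ∀ t : G, orderOf t = 2 → t • P = Q → t • Q = P := by
    intro t ht h
    rw [← h, ← mul_smul]
    have : t * t = 1 := by rw [← pow_two, ← ht]; exact pow_orderOf_eq_one t
    rw [this, one_smul]
  let f : {t : G // orderOf t = 2 ∧ t • P = Q} → D := fun s => ⟨t * s, by
    refine ⟨?_, ?_⟩
    · show (t * (s : G)) • P = P
      rw [mul_smul, s.2.2, hback t ht htP]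
    · show (t * (s : G)) • Q = Q
      rw [mul_smul, hback s s.2.1 s.2.2, htP]⟩
  have hf : Function.Injective f := by
    intro a b hab
    have hab' : t * (a : G) = t * (b : G) := congrArg Subtype.val hab
    exact Subtype.ext (mul_left_cancel hab')
  have hcard : Nat.card {t : G // orderOf t = 2 ∧ t • P = Q} = Nat.card D := by
    rw [hG.three_inv hPQ, hG.card_inf hPQ]
  have hbij : Function.Bijective f :=
    (Nat.bijective_iff_injective_and_card f).2 ⟨hf, hcard⟩
  obtain ⟨s, hs⟩ := hbij.2 ⟨d, ⟨hd1, hd2⟩⟩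
  have hs' : t * (s : G) = d := congrArg Subtype.val hs
  have h2 : (s : G) * s = 1 := mul_self_of_orderOf s.2.1
  have h3 : t * t = 1 := mul_self_of_orderOf ht
  rw [← hs', mul_inv_rev, inv_eq_of_mul_eq_one_left h2, inv_eq_of_mul_eq_one_left h3,
    ← mul_assoc, h3, one_mul]

/-- an involution never commutes with an element of order three -/
theorem KS.cen_odd {d : G} (hd : orderOf d = 3) {c : G} (hc : Commute c d) : orderOf c ≠ 2 := by
  intro h
  obtain ⟨R, hR⟩ := exists_sylow_mem h
  have hc1 : c ≠ 1 := by rintro rfl; rw [orderOf_one] at h; omega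
  have h1 := hG.cen R c hR hc1 d hc.symm
  have h2 := hG.sq R d h1
  have h3 : orderOf d ∣ 2 := orderOf_dvd_of_pow_eq_one (by rw [pow_two]; exact h2)
  rw [hd] at h3; omega

theorem KS.order_three {P Q : Sylow 2 G} (hPQ : P ≠ Q) {d : G} (hd : d ≠ 1)
    (hd1 : d • P = P) (hd2 : d • Q = Q) : orderOf d = 3 := by
  have h1 : orderOf d ∣ 3 := by
    rw [← hG.card_inf hPQ]
    exact Subgroup.orderOf_dvd_natCard _ ⟨hd1, hd2⟩
  exact ((Nat.dvd_prime Nat.prime_three).1 h1).resolve_left (fun h => hd (orderOf_eq_one_iff.1 h))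

/-- An element of order three fixes at most two Sylow 2-subgroups. -/
theorem KS.card_fixed {P Q : Sylow 2 G} (hPQ : P ≠ Q) {d : G} (hd : d ≠ 1)
    (hd1 : d • P = P) (hd2 : d • Q = Q) (R : Sylow 2 G) (hdR : d • R = R) : R = P ∨ R = Q := by
  classical
  haveI : Fintype G := Fintype.ofFinite G
  haveI : Fintype (Sylow 2 G) := Fintype.ofFinite _
  have hd3 := hG.order_three hPQ hd hd1 hd2
  let F : Finset (Sylow 2 G) := Finset.univ.filter (fun R => d • R = R)
  let J : Finset G := Finset.univ.filter (fun t => orderOf t = 2 ∧ t * d * t⁻¹ = d⁻¹)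
  have hmem : ∀ S T : Sylow 2 G, S ≠ T → d • S = S → d • T = T → ∀ t : G, orderOf t = 2 →
      t • S = T → t * d * t⁻¹ = d⁻¹ := fun S T h h1 h2 t ht hS => hG.inverts h ht hS h1 h2
  have hJmem : ∀ t ∈ J, ∀ S : Sylow 2 G, d • S = S → t • S ≠ S ∧ d • (t • S) = t • S := by
    intro t ht S hS
    simp only [J, Finset.mem_filter, Finset.mem_univ, true_and] at ht
    constructor
    · intro h
      have h1 := inv_mem_of_smul_eq ht.1 h
      have h2 : d⁻¹ * t * d ∈ (S : Subgroup G) := by
        have h3 : d⁻¹ • S = S := by rw [inv_smul_eq_iff]; exact hS.symm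
        have h4 : d⁻¹ * t * (d⁻¹)⁻¹ ∈ ((d⁻¹ • S : Sylow 2 G) : Subgroup G) :=
          sylow_conj_mem.2 h1
        rw [h3, inv_inv] at h4; exact h4
      have h3 : t * (d⁻¹ * t * d) = d * d := by
        have h5 : t * t = 1 := mul_self_of_orderOf ht.1
        have h6 : t⁻¹ = t := inv_eq_of_mul_eq_one_left h5
        have h7 : t * d⁻¹ * t = d := by
          have := congrArg (fun z => z⁻¹) ht.2
          simp only [mul_inv_rev, inv_inv] at this
          rw [h6] at this
          rw [mul_assoc]; exact this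
        calc t * (d⁻¹ * t * d) = (t * d⁻¹ * t) * d := by group
          _ = d * d := by rw [h7]
      have h4 : d * d ∈ (S : Subgroup G) := by
        rw [← h3]; exact (S : Subgroup G).mul_mem h1 h2
      have h5 := hG.sq S _ h4
      have h6 : d ^ 3 = 1 := by rw [← hd3]; exact pow_orderOf_eq_one d
      apply hd
      calc d = (d * d * (d * d)) * (d ^ 3)⁻¹ := by group
        _ = 1 := by rw [h5, h6]; simp
    · rw [← mul_smul]
      have : d * t = t * d⁻¹ := by
        have := ht.2
        rw [mul_inv_eq_iff_eq_mul] at this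
        -- t d = d⁻¹ t
        calc d * t = d * t * d * d⁻¹ := by group
          _ = d * (t * d) * d⁻¹ := by group
          _ = d * (d⁻¹ * t) * d⁻¹ := by rw [this]
          _ = t * d⁻¹ := by group
      rw [this, mul_smul]
      congr 1
      rw [inv_smul_eq_iff]; exact hS.symm
  have hJcard : J.card = 3 * (F.card - 1) := by
    have h1 : J.card = ∑ T ∈ F.erase P, (J.filter (fun t => t • P = T)).card := by
      apply Finset.card_eq_sum_card_fiberwise
      intro t ht
      have := hJmem t ht P hd1
      simp only [F, Finset.coe_erase, Finset.coe_filter, Finset.mem_univ, true_and]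
      exact ⟨this.2, this.1⟩
    have h2 : ∀ T ∈ F.erase P, (J.filter (fun t => t • P = T)).card = 3 := by
      intro T hT
      rw [Finset.mem_erase] at hT
      simp only [F, Finset.mem_filter, Finset.mem_univ, true_and] at hT
      rw [← hG.three_inv (Ne.symm hT.1), Nat.card_eq_fintype_card, Fintype.card_subtype]
      congr 1
      ext t
      simp only [J, Finset.mem_filter, Finset.mem_univ, true_and]
      constructor
      · rintro ⟨⟨h1, h2⟩, h3⟩; exact ⟨h1, h3⟩
      · rintro ⟨h1, h3⟩; exact ⟨⟨h1, hmem P T (Ne.symm hT.1) hd1 hT.2 t h1 h3⟩, h3⟩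
    rw [h1, Finset.sum_congr rfl h2, Finset.sum_const, smul_eq_mul, mul_comm,
      Finset.card_erase_of_mem (by simp [F, hd1])]
  -- centraliser
  let C : Subgroup G := Subgroup.centralizer ({d} : Set G)
  have hCmem : ∀ c : G, c ∈ C ↔ c * d = d * c := fun c => Subgroup.mem_centralizer_singleton_iff
  -- J has as many elements as C
  have hFQ : Q ∈ F.erase P := by simp [F, hd2, Ne.symm hPQ]
  have hJne : 0 < J.card := by
    rw [hJcard]
    have : 1 ≤ (F.erase P).card := Finset.card_pos.2 ⟨Q, hFQ⟩
    rw [Finset.card_erase_of_mem (by simp [F, hd1])] at this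
    omega
  obtain ⟨t0, ht0⟩ := Finset.card_pos.1 hJne
  have ht0' := ht0
  simp only [J, Finset.mem_filter, Finset.mem_univ, true_and] at ht0'
  have ht02 : t0 * t0 = 1 := mul_self_of_orderOf ht0'.1
  have ht0i : t0⁻¹ = t0 := inv_eq_of_mul_eq_one_left ht02
  have hCt0 : ∀ c ∈ C, t0 * c * t0⁻¹ ∈ C := by
    intro c hc
    rw [hCmem] at hc ⊢
    have h1 : t0 * d⁻¹ * t0⁻¹ = d := by
      have := congrArg (fun z => z⁻¹) ht0'.2
      simp only [mul_inv_rev, inv_inv] at this
      rw [mul_assoc]; exact this
    have h2 : c * d⁻¹ = d⁻¹ * c := by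
      rw [mul_inv_eq_iff_eq_mul, mul_assoc, hc]; group
    calc t0 * c * t0⁻¹ * d = t0 * c * t0⁻¹ * (t0 * d⁻¹ * t0⁻¹) := by rw [h1]
      _ = t0 * (c * d⁻¹) * t0⁻¹ := by group
      _ = t0 * (d⁻¹ * c) * t0⁻¹ := by rw [h2]
      _ = (t0 * d⁻¹ * t0⁻¹) * (t0 * c * t0⁻¹) := by group
      _ = d * (t0 * c * t0⁻¹) := by rw [h1]
  have hCinv : ∀ c ∈ C, t0 * c * t0⁻¹ = c⁻¹ := by
    let φ : C → C := fun c => ⟨(c : G)⁻¹ * (t0 * c * t0⁻¹), C.mul_mem (C.inv_mem c.2) (hCt0 c c.2)⟩
    have hφ : Function.Injective φ := by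
      intro a b hab
      have hab' : (a : G)⁻¹ * (t0 * a * t0⁻¹) = (b : G)⁻¹ * (t0 * b * t0⁻¹) :=
        congrArg Subtype.val hab
      have h1 : t0 * ((a : G) * (b : G)⁻¹) * t0⁻¹ = (a : G) * (b : G)⁻¹ := by
        calc t0 * ((a : G) * (b : G)⁻¹) * t0⁻¹
            = a * ((a : G)⁻¹ * (t0 * a * t0⁻¹)) * (t0 * (b : G)⁻¹ * t0⁻¹) := by group
          _ = a * ((b : G)⁻¹ * (t0 * b * t0⁻¹)) * (t0 * (b : G)⁻¹ * t0⁻¹) := by rw [hab']
          _ = _ := by group
      have h2 : Commute ((a : G) * (b : G)⁻¹) t0 := by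
        show (a : G) * (b : G)⁻¹ * t0 = t0 * ((a : G) * (b : G)⁻¹)
        rw [mul_inv_eq_iff_eq_mul] at h1
        exact h1.symm
      obtain ⟨R', hR'⟩ := exists_sylow_mem ht0'.1
      have ht01 : t0 ≠ 1 := by
        rintro rfl; have := ht0'.1; rw [orderOf_one] at this; omega
      have h3 := hG.cen R' t0 hR' ht01 _ h2
      by_contra hne
      have h4 : (a : G) * (b : G)⁻¹ ≠ 1 := by
        intro h; apply hne; apply Subtype.ext; exact mul_inv_eq_one.1 h
      have h5 := hG.orderOf_mem h4 h3
      have h6 : (a : G) * (b : G)⁻¹ ∈ C := C.mul_mem a.2 (C.inv_mem b.2)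
      rw [hCmem] at h6
      exact hG.cen_odd hd3 h6 h5
    have hφs : Function.Surjective φ := Finite.surjective_of_injective hφ
    intro c hc
    obtain ⟨b, hb⟩ := hφs ⟨c, hc⟩
    have hb' : (b : G)⁻¹ * (t0 * b * t0⁻¹) = c := congrArg Subtype.val hb
    rw [← hb', ht0i]
    calc t0 * ((b : G)⁻¹ * (t0 * b * t0)) * t0
        = t0 * (b : G)⁻¹ * t0 * b * (t0 * t0) := by group
      _ = t0 * (b : G)⁻¹ * t0 * b := by rw [ht02, mul_one]
      _ = ((b : G)⁻¹ * (t0⁻¹ * b * t0⁻¹))⁻¹ := by group
      _ = _ := by rw [ht0i]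
  have hJC : J.card = Nat.card C := by
    rw [← Fintype.card_coe, ← Nat.card_eq_fintype_card]
    apply Nat.card_congr
    refine ⟨fun t => ⟨t0 * t, ?_⟩, fun c => ⟨t0 * c, ?_⟩, ?_, ?_⟩
    · have ht := t.2
      simp only [J, Finset.mem_filter, Finset.mem_univ, true_and] at ht
      rw [hCmem]
      have h1 := ht.2
      have h2 := ht0'.2
      rw [mul_inv_eq_iff_eq_mul] at h1 h2
      have h3 : t0 * d⁻¹ = d * t0 := by
        calc t0 * d⁻¹ = d * (d⁻¹ * t0) * d⁻¹ := by group
          _ = d * (t0 * d) * d⁻¹ := by rw [h2]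
          _ = d * t0 := by group
      calc t0 * (t : G) * d = t0 * ((t : G) * d) := by group
        _ = t0 * (d⁻¹ * t) := by rw [h1]
        _ = (t0 * d⁻¹) * t := by group
        _ = d * t0 * t := by rw [h3]
        _ = d * (t0 * t) := by group
    · have hc := c.2
      simp only [J, Finset.mem_filter, Finset.mem_univ, true_and]
      have h1 := hCinv c hc
      rw [hCmem] at hc
      have h2 : t0 * (c : G) * (t0 * c) = 1 := by
        calc t0 * (c : G) * (t0 * c) = (t0 * (c : G) * t0⁻¹) * (t0 * t0) * c := by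
              rw [ht0i]; simp only [mul_assoc]; rw [← mul_assoc t0 t0 (t0 * c), ht02, one_mul]
          _ = 1 := by rw [h1, ht02]; simp
      have h3 : t0 * (c : G) ≠ 1 := by
        intro h
        have h4 : (c : G) = t0 := by
          rw [← ht0i]; exact (inv_eq_of_mul_eq_one_right h).symm
        rw [h4] at hc
        exact hG.cen_odd hd3 (show Commute t0 d from hc) ht0'.1
      refine ⟨orderOf_eq_prime (by rw [pow_two]; exact h2) h3, ?_⟩
      have h4 := ht0'.2
      calc t0 * (c : G) * d * (t0 * c)⁻¹ = t0 * ((c : G) * d) * (c : G)⁻¹ * t0⁻¹ := by group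
        _ = t0 * (d * c) * (c : G)⁻¹ * t0⁻¹ := by rw [hc]
        _ = t0 * d * t0⁻¹ := by group
        _ = d⁻¹ := h4
    · intro t; apply Subtype.ext; show t0 * (t0 * (t : G)) = t
      rw [← mul_assoc, ht02, one_mul]
    · intro c; apply Subtype.ext; show t0 * (t0 * (c : G)) = c
      rw [← mul_assoc, ht02, one_mul]
  -- orbits
  have hdC : d ∈ C := by rw [hCmem]
  have horb : ∀ S : Sylow 2 G, d • S = S → 
      Nat.card (MulAction.orbit C S) = F.card - 1 := by
    intro S hS
    have h1 : Nat.card (MulAction.stabilizer C S) = 3 := by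
      let D : Subgroup G := (MulAction.stabilizer C S).map C.subtype
      have hD : Nat.card D = Nat.card (MulAction.stabilizer C S) :=
        Nat.card_congr ((MulAction.stabilizer C S).equivMapOfInjective C.subtype
          C.subtype_injective).symm.toEquiv
      have h2 := hG.card_le_three (P := S) D (by
        rintro _ ⟨c, hc, rfl⟩; exact hc) (by
        rintro _ ⟨c, hc, rfl⟩
        have := c.2
        rw [hCmem] at this
        exact hG.cen_odd hd3 (show Commute (c : G) d from this))
      rw [hD] at h2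
      rcases h2 with h2 | h2
      · exfalso
        have h3 : (⟨d, hdC⟩ : C) ∈ MulAction.stabilizer C S := hS
        rw [Subgroup.card_eq_one.1 h2, Subgroup.mem_bot] at h3
        exact hd (congrArg Subtype.val h3)
      · exact h2
    haveI : Fintype (MulAction.orbit C S) := Fintype.ofFinite _
    haveI : Fintype (MulAction.stabilizer C S) := Fintype.ofFinite _
    haveI : Fintype C := Fintype.ofFinite _
    have h2 := MulAction.card_orbit_mul_card_stabilizer_eq_card_group C S
    rw [← Nat.card_eq_fintype_card, ← Nat.card_eq_fintype_card, ← Nat.card_eq_fintype_card,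
      h1, ← hJC, hJcard] at h2
    omega
  -- conclude
  have horbF : ∀ S : Sylow 2 G, d • S = S → ∀ T ∈ MulAction.orbit C S, T ∈ F := by
    rintro S hS _ ⟨c, rfl⟩
    simp only [F, Finset.mem_filter, Finset.mem_univ, true_and]
    have hc := c.2
    rw [hCmem] at hc
    show d • ((c : G) • S) = (c : G) • S
    rw [← mul_smul, ← hc, mul_smul, hS]
  have hF2 : F.card ≤ 2 := by
    by_contra hcon
    push Not at hcon
    let O1 : Finset (Sylow 2 G) := (Set.toFinite (MulAction.orbit C P)).toFinset
    have hO1 : O1.card = F.card - 1 := by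
      rw [← horb P hd1]
      exact (Nat.card_eq_card_finite_toFinset (Set.toFinite (MulAction.orbit C P))).symm
    have hO1F : O1 ⊆ F := by
      intro T hT
      exact horbF P hd1 T (by simpa [O1] using hT)
    have hlt : O1.card < F.card := by rw [hO1]; omega
    obtain ⟨S, hSF, hSO⟩ := Finset.exists_mem_notMem_of_card_lt_card hlt
    have hS : d • S = S := by simpa [F] using hSF
    let O2 : Finset (Sylow 2 G) := (Set.toFinite (MulAction.orbit C S)).toFinset
    have hO2 : O2.card = F.card - 1 := by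
      rw [← horb S hS]
      exact (Nat.card_eq_card_finite_toFinset (Set.toFinite (MulAction.orbit C S))).symm
    have hO2F : O2 ⊆ F := by
      intro T hT
      exact horbF S hS T (by simpa [O2] using hT)
    have hdisj : Disjoint O1 O2 := by
      rw [Finset.disjoint_left]
      intro T h1 h2
      have h1' : T ∈ MulAction.orbit C P := by simpa [O1] using h1
      have h2' : T ∈ MulAction.orbit C S := by simpa [O2] using h2
      apply hSO
      have : S ∈ MulAction.orbit C P := by
        rw [← MulAction.orbit_eq_iff.2 h1', MulAction.orbit_eq_iff.2 h2']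
        exact MulAction.mem_orbit_self S
      simpa [O1] using this
    have h3 := Finset.card_le_card (Finset.union_subset hO1F hO2F)
    rw [Finset.card_union_of_disjoint hdisj, hO1, hO2] at h3
    omega
  by_contra hcon
  push Not at hcon
  have h1 : ({P, Q, R} : Finset (Sylow 2 G)) ⊆ F := by
    intro T hT
    simp only [Finset.mem_insert, Finset.mem_singleton] at hT
    simp only [F, Finset.mem_filter, Finset.mem_univ, true_and]
    rcases hT with rfl | rfl | rfl
    · exact hd1
    · exact hd2
    · exact hdR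
  have h2 := Finset.card_le_card h1
  rw [Finset.card_insert_of_notMem (by simp [hPQ, Ne.symm hcon.1]),
    Finset.card_insert_of_notMem (by simp [Ne.symm hcon.2]), Finset.card_singleton] at h2
  omega

theorem KS.card_sylow (hne : ∃ P Q : Sylow 2 G, P ≠ Q) : Nat.card (Sylow 2 G) = 5 := by
  classical
  haveI : Fintype G := Fintype.ofFinite G
  haveI : Fintype (Sylow 2 G) := Fintype.ofFinite _
  obtain ⟨P, Q, hPQ⟩ := hne
  -- lower bound
  have hlow : 4 ≤ (Finset.univ.erase P : Finset (Sylow 2 G)).card := by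
    rw [← hG.card P, ← Fintype.card_coe, ← Nat.card_eq_fintype_card]
    apply Nat.card_le_card_of_injective (fun v : P => (⟨(v : G) • Q, by
      rw [Finset.mem_erase]
      refine ⟨?_, Finset.mem_univ _⟩
      intro h
      apply hPQ
      have h1 : (v : G)⁻¹ • P = P := by
        rw [inv_smul_eq_iff]; exact (smul_eq_of_mem v.2).symm
      exact h1.symm.trans (inv_smul_eq_iff.2 h.symm)⟩ : (Finset.univ.erase P : Finset (Sylow 2 G))))
    intro a b hab
    have hab' : (a : G) • Q = (b : G) • Q := congrArg Subtype.val hab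
    have h1 : ((b : G)⁻¹ * a) • Q = Q := by rw [mul_smul, hab', inv_smul_smul]
    have h2 : (b : G)⁻¹ * a ∈ (P : Subgroup G) := (P : Subgroup G).mul_mem
      ((P : Subgroup G).inv_mem b.2) a.2
    by_contra hne
    have h3 : (b : G)⁻¹ * a ≠ 1 := by
      intro h; apply hne; apply Subtype.ext
      rw [inv_mul_eq_one] at h; exact h.symm
    exact hG.odd_of_two hPQ (hG.orderOf_mem h3 h2) (smul_eq_of_mem h2) h1
  -- upper bound
  let E : Finset G := Finset.univ.filter (fun g => g • P = P ∧ g ∉ (P : Subgroup G))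
  have hE : E.card = 8 := by
    have h1 : (Finset.univ.filter (fun g : G => g • P = P)).card = 12 := by
      rw [← hG.stab P, Nat.card_eq_fintype_card, Fintype.card_subtype]
      congr 1
    have h2 : (Finset.univ.filter (fun g : G => g ∈ (P : Subgroup G))).card = 4 := by
      rw [← hG.card P, Nat.card_eq_fintype_card, Fintype.card_subtype]
    have h3 : E = (Finset.univ.filter (fun g : G => g • P = P)) \
        (Finset.univ.filter (fun g : G => g ∈ (P : Subgroup G))) := by
      ext g; simp [E]
    rw [h3, Finset.card_sdiff_of_subset, h1, h2]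
    intro g hg
    simp only [Finset.mem_filter, Finset.mem_univ, true_and] at hg ⊢
    exact smul_eq_of_mem hg
  have hex : ∀ R : Sylow 2 G, P ≠ R → ∃ d : G, d ≠ 1 ∧ d • P = P ∧ d • R = R := by
    intro R hR
    have h1 := hG.card_inf hR
    haveI : Nontrivial ↥(MulAction.stabilizer G P ⊓ MulAction.stabilizer G R) := by
      rw [← Finite.one_lt_card_iff_nontrivial, h1]; norm_num
    obtain ⟨d, hd⟩ := exists_ne (1 : ↥(MulAction.stabilizer G P ⊓ MulAction.stabilizer G R))
    exact ⟨d, fun h => hd (Subtype.ext h), d.2.1, d.2.2⟩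
  choose! δ hδ1 hδP hδR using hex
  have hup : 2 * (Finset.univ.erase P : Finset (Sylow 2 G)).card ≤ 8 := by
    rw [← hE, mul_comm]
    have : (Finset.univ.erase P : Finset (Sylow 2 G)).card * 2 =
        ((Finset.univ.erase P : Finset (Sylow 2 G)) ×ˢ (Finset.univ : Finset Bool)).card := by
      rw [Finset.card_product]; rfl
    rw [this]
    have key : ∀ R : Sylow 2 G, P ≠ R → ∀ e : G, e = δ R ∨ e = (δ R)⁻¹ →
        e ≠ 1 ∧ e • P = P ∧ e • R = R := by
      intro R hR e he
      rcases he with rfl | rfl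
      · exact ⟨hδ1 R hR, hδP R hR, hδR R hR⟩
      · refine ⟨inv_ne_one.2 (hδ1 R hR), ?_, ?_⟩
        · rw [inv_smul_eq_iff]; exact (hδP R hR).symm
        · rw [inv_smul_eq_iff]; exact (hδR R hR).symm
    apply Finset.card_le_card_of_injOn (fun x => if x.2 then δ x.1 else (δ x.1)⁻¹)
    · rintro ⟨R, b⟩ hR
      simp only [Finset.coe_product, Set.mem_prod, Finset.mem_coe, Finset.mem_erase,
        Finset.mem_univ, and_true] at hR
      have h1 := key R (Ne.symm hR) (if b then δ R else (δ R)⁻¹) (by cases b <;> simp)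
      simp only [E, Finset.mem_coe, Finset.mem_filter, Finset.mem_univ, true_and]
      refine ⟨h1.2.1, ?_⟩
      intro h2
      exact hG.odd_of_two (Ne.symm hR) (hG.orderOf_mem h1.1 h2) h1.2.1 h1.2.2
    · rintro ⟨R, b⟩ hR ⟨S, c⟩ hS hRS
      simp only [Finset.coe_product, Set.mem_prod, Finset.mem_coe, Finset.mem_erase,
        Finset.mem_univ, and_true] at hR hS
      simp only at hRS
      have h1 := key R (Ne.symm hR) (if b then δ R else (δ R)⁻¹) (by cases b <;> simp)
      have h2 := key S (Ne.symm hS) (if c then δ S else (δ S)⁻¹) (by cases c <;> simp)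
      rw [← hRS] at h2
      have h3 := hG.card_fixed (Ne.symm hR) h1.1 h1.2.1 h1.2.2 S h2.2.2
      have h4 : S = R := h3.resolve_left (fun h => hS h)
      subst h4
      have h5 : δ S ≠ (δ S)⁻¹ := by
        intro h
        have h6 : δ S * δ S = 1 := by
          nth_rewrite 2 [h]; exact mul_inv_cancel _
        have h7 := orderOf_eq_prime (by rw [pow_two]; exact h6) (hδ1 S (Ne.symm hS)) (p := 2)
        rw [hG.order_three (Ne.symm hS) (hδ1 S (Ne.symm hS)) (hδP S (Ne.symm hS))
          (hδR S (Ne.symm hS))] at h7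
        omega
      cases b <;> cases c
      · rfl
      · simp at hRS; exact absurd hRS.symm h5
      · simp at hRS; exact absurd hRS h5
      · rfl
  have h1 : (Finset.univ.erase P : Finset (Sylow 2 G)).card = 4 := by omega
  rw [Finset.card_erase_of_mem (Finset.mem_univ P)] at h1
  rw [Nat.card_eq_fintype_card, ← Finset.card_univ]
  omega

theorem KS.alt5 (hne : ∃ P Q : Sylow 2 G, P ≠ Q) :
    Nonempty (G ≃* ↥(alternatingGroup (Fin 5))) := by
  classical
  haveI : Fact (Nat.Prime 2) := ⟨Nat.prime_two⟩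
  haveI : Fintype G := Fintype.ofFinite G
  haveI : Fintype (Sylow 2 G) := Fintype.ofFinite _
  have h5 := hG.card_sylow hne
  obtain ⟨P, Q, hPQ⟩ := hne
  have hcard : Nat.card G = 60 := by
    have h2 := MulAction.card_orbit_mul_card_stabilizer_eq_card_group G P
    have h3 : Fintype.card (MulAction.orbit G P) = 5 := by
      rw [← h5, Nat.card_eq_fintype_card]
      apply Fintype.card_congr
      rw [Sylow.orbit_eq_top]
      exact Equiv.Set.univ _
    rw [h3, ← Nat.card_eq_fintype_card, hG.stab P, ← Nat.card_eq_fintype_card] at h2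
    omega
  refine alt5_of_injective hcard h5 (MulAction.toPermHom G (Sylow 2 G)) ?_
  rw [injective_iff_map_eq_one]
  intro g hg
  by_contra hg1
  have hfix : ∀ R : Sylow 2 G, g • R = R := by
    intro R
    have := congrArg (fun σ : Equiv.Perm (Sylow 2 G) => σ R) hg
    simpa using this
  have h6 : ∀ R : Sylow 2 G, R ∈ ({P, Q} : Finset (Sylow 2 G)) := by
    intro R
    have := hG.card_fixed hPQ hg1 (hfix P) (hfix Q) R (hfix R)
    simpa using this
  have h7 : (Finset.univ : Finset (Sylow 2 G)).card ≤ ({P, Q} : Finset (Sylow 2 G)).card :=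
    Finset.card_le_card (fun R _ => h6 R)
  rw [Finset.card_univ, ← Nat.card_eq_fintype_card, h5] at h7
  have h8 := Finset.card_le_two (a := P) (b := Q)
  omega

end core

end Cfsg.Agent.H55
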