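import Mathlib

set_option autoImplicit false
set_option linter.style.haveILetI false
set_option linter.unusedSectionVars false

/-!
# Integer matrices with orthogonal rows of norm 4 (the arithmetic of Klein four Sylow subgroups)
-/

namespace Cfsg.Agent.H55.FourMat

open Finset

variable {X Y : Type*} [Fintype X] [Fintype Y] [DecidableEq X] [DecidableEq Y]

/-- `B x = ∑ a(y,x) n(y)`. -/
def B (a : Y → X → ℤ) (n : Y → ℤ) (x : X) : ℤ := ∑ y, a y x * n y

structure Hyp (a : Y → X → ℤ) (D : X → ℤ) (n : Y → ℤ) (κ : ℤ) (x0 : X) (y0 : Y)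
    (bx : X → X) (bY : Y → Y) : Prop where
  bx_bx : ∀ x, bx (bx x) = x
  bY_bY : ∀ y, bY (bY y) = y
  a_bar : ∀ y x, a (bY y) (bx x) = a y x
  bY_ne : ∀ y, y ≠ y0 → bY y ≠ y
  bY0 : bY y0 = y0
  bx0 : bx x0 = x0
  ortho : ∀ y y', ∑ x, a y x * a y' x = if y = y' then 4 else 0
  deg : ∀ y, ∑ x, a y x * D x = 0
  Dpos : ∀ x, 0 < D x
  Dbar : ∀ x, D (bx x) = D x
  nbar : ∀ y, n (bY y) = n y
  npos : ∀ y, 0 < n y
  n0 : n y0 = 1
  D0 : D x0 = 1
  a0 : ∀ y, a y x0 = if y = y0 then 1 else 0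
  κpos : 0 < κ
  κodd : κ % 2 = 1
  quad : ∀ y, (κ : ℚ) * ∑ x, (a y x : ℚ) * ((B a n x : ℚ) ^ 2 / (D x : ℚ)) = 8 * (n y : ℚ)
  dvd : ∀ x, D x ∣ κ * B a n x
  lin : ∀ x, x ≠ x0 → 1 < D x

namespace Hyp

variable {a : Y → X → ℤ} {D : X → ℤ} {n : Y → ℤ} {κ : ℤ} {x0 : X} {y0 : Y}
  {bx : X → X} {bY : Y → Y} (h : Hyp a D n κ x0 y0 bx bY)

include h

theorem col_le (x : X) : ∑ y, (a y x) ^ 2 ≤ 3 := by
  by_contra hcon
  push Not at hcon
  set N : ℤ := ∑ y, (a y x) ^ 2 with hN
  let v : X → ℤ := fun x' => ∑ y, a y x * a y x'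
  have hvx : v x = N := by
    rw [hN]; exact Finset.sum_congr rfl (fun y _ => (sq _).symm)
  have hv2 : ∑ x', (v x') ^ 2 = 4 * N := by
    have e1 : ∀ x', (v x') ^ 2 = ∑ y, ∑ z, (a y x * a z x) * (a y x' * a z x') := by
      intro x'
      rw [sq]
      show (∑ y, a y x * a y x') * (∑ z, a z x * a z x') = _
      rw [Finset.sum_mul_sum]
      refine Finset.sum_congr rfl (fun y _ => Finset.sum_congr rfl (fun z _ => by ring))
    rw [Finset.sum_congr rfl (fun x' _ => e1 x')]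
    rw [Finset.sum_comm]
    have e2 : ∀ y, ∑ x', ∑ z, (a y x * a z x) * (a y x' * a z x') = 4 * (a y x) ^ 2 := by
      intro y
      rw [Finset.sum_comm]
      have e3 : ∀ z, ∑ x', (a y x * a z x) * (a y x' * a z x') =
          if y = z then 4 * (a y x * a z x) else 0 := by
        intro z
        rw [← Finset.mul_sum, h.ortho y z]
        split_ifs <;> ring
      rw [Finset.sum_congr rfl (fun z _ => e3 z)]
      simp only [Finset.sum_ite_eq, Finset.mem_univ, if_true]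
      ring
    rw [Finset.sum_congr rfl (fun y _ => e2 y), ← Finset.mul_sum]
  have hvD : ∑ x', v x' * D x' = 0 := by
    have e1 : ∀ x', v x' * D x' = ∑ y, a y x * (a y x' * D x') := by
      intro x'
      show (∑ y, a y x * a y x') * D x' = _
      rw [Finset.sum_mul]
      exact Finset.sum_congr rfl (fun y _ => by ring)
    rw [Finset.sum_congr rfl (fun x' _ => e1 x'), Finset.sum_comm]
    apply Finset.sum_eq_zero
    intro y _
    rw [← Finset.mul_sum, h.deg y, mul_zero]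
  have hsplit : ∑ x', (v x') ^ 2 = (v x) ^ 2 + ∑ x' ∈ univ.erase x, (v x') ^ 2 := by
    exact (Finset.add_sum_erase univ (fun x' => (v x') ^ 2) (Finset.mem_univ x)).symm
  have hnn : 0 ≤ ∑ x' ∈ univ.erase x, (v x') ^ 2 := Finset.sum_nonneg (fun _ _ => sq_nonneg _)
  have hN4 : N = 4 := by
    rw [hsplit, hvx] at hv2
    nlinarith
  have hz : ∑ x' ∈ univ.erase x, (v x') ^ 2 = 0 := by
    rw [hsplit, hvx, hN4] at hv2
    linarith
  have hz' : ∀ x' ∈ univ.erase x, v x' = 0 := by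
    intro x' hx'
    have := (Finset.sum_eq_zero_iff_of_nonneg (fun _ _ => sq_nonneg _)).1 hz x' hx'
    exact pow_eq_zero_iff (two_ne_zero) |>.1 this
  have hD' : ∑ x', v x' * D x' = v x * D x := by
    rw [← Finset.add_sum_erase _ _ (Finset.mem_univ x)]
    rw [Finset.sum_eq_zero (s := univ.erase x), add_zero]
    intro x' hx'
    rw [hz' x' hx', zero_mul]
  rw [hD', hvx, hN4] at hvD
  have := h.Dpos x
  linarith

theorem B_bar (x : X) : B a n (bx x) = B a n x := by
  unfold B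
  have hinj : Function.Bijective bY := by
    constructor
    · intro y y' hyy
      rw [← h.bY_bY y, hyy, h.bY_bY]
    · intro y; exact ⟨bY y, h.bY_bY y⟩
  rw [← (Equiv.ofBijective bY hinj).sum_comp]
  refine Finset.sum_congr rfl (fun y _ => ?_)
  show a (bY y) (bx x) * n (bY y) = _
  rw [h.a_bar, h.nbar]

theorem a_bY (y : Y) (x : X) : a (bY y) x = a y (bx x) := by
  rw [← h.a_bar y (bx x), h.bx_bx]

theorem B_x0 : B a n x0 = 1 := by
  unfold B
  simp only [h.a0]
  simp [h.n0]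

/-- `∑_x a(y,x) B(x) = 4 n(y)`. -/
theorem sum_a_B (y : Y) : ∑ x, a y x * B a n x = 4 * n y := by
  unfold B
  have e1 : ∀ x, a y x * ∑ z, a z x * n z = ∑ z, n z * (a y x * a z x) := by
    intro x
    rw [Finset.mul_sum]
    exact Finset.sum_congr rfl (fun z _ => by ring)
  rw [Finset.sum_congr rfl (fun x _ => e1 x), Finset.sum_comm]
  have e2 : ∀ z, ∑ x, n z * (a y x * a z x) = if y = z then 4 * n z else 0 := by
    intro z
    rw [← Finset.mul_sum, h.ortho y z]
    split_ifs <;> ring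
  rw [Finset.sum_congr rfl (fun z _ => e2 z)]
  simp

theorem a_bx0 (x : X) : a y0 (bx x) = a y0 x := by
  rw [← h.a_bY, h.bY0]

/-- The support of the first row. -/
def Trip (a : Y → X → ℤ) (x0 : X) (y0 : Y) (x1 x2 x3 : X) : Prop :=
  x1 ≠ x2 ∧ x1 ≠ x3 ∧ x2 ≠ x3 ∧ x1 ≠ x0 ∧ x2 ≠ x0 ∧ x3 ≠ x0 ∧
    ∀ x, a y0 x ≠ 0 ↔ (x = x0 ∨ x = x1 ∨ x = x2 ∨ x = x3)

theorem sq_le (y : Y) (x : X) : (a y x) ^ 2 ≤ 3 :=
  le_trans (Finset.single_le_sum (f := fun y => (a y x) ^ 2) (fun _ _ => sq_nonneg _)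
    (Finset.mem_univ y)) (h.col_le x)

theorem abs_le_one (y : Y) (x : X) : a y x = 0 ∨ a y x = 1 ∨ a y x = -1 := by
  have h1 := h.sq_le y x
  have h2 : a y x ≤ 1 := by nlinarith
  have h3 : -1 ≤ a y x := by nlinarith
  omega

theorem exists_trip : ∃ x1 x2 x3, Trip a x0 y0 x1 x2 x3 := by
  let S : Finset X := univ.filter (fun x => a y0 x ≠ 0)
  have h1 : ∑ x, (a y0 x) ^ 2 = 4 := by
    have := h.ortho y0 y0
    rw [if_pos rfl] at this
    rw [← this]
    exact Finset.sum_congr rfl (fun x _ => sq _)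
  have h2 : ∑ x, (a y0 x) ^ 2 = ∑ x ∈ S, (a y0 x) ^ 2 := by
    symm
    apply Finset.sum_subset (Finset.subset_univ _)
    intro x _ hx
    have : a y0 x = 0 := by
      by_contra hne
      exact hx (Finset.mem_filter.2 ⟨Finset.mem_univ _, hne⟩)
    rw [this]; rfl
  have h3 : ∑ x ∈ S, (a y0 x) ^ 2 = (S.card : ℤ) := by
    rw [Finset.card_eq_sum_ones, Nat.cast_sum]
    refine Finset.sum_congr rfl (fun x hx => ?_)
    have hne : a y0 x ≠ 0 := (Finset.mem_filter.1 hx).2
    rcases h.abs_le_one y0 x with h0 | h0 | h0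
    · exact absurd h0 hne
    · rw [h0]; rfl
    · rw [h0]; rfl
  have hS : S.card = 4 := by
    have : (S.card : ℤ) = 4 := by rw [← h3, ← h2, h1]
    exact_mod_cast this
  have hx0 : x0 ∈ S := by
    refine Finset.mem_filter.2 ⟨Finset.mem_univ _, ?_⟩
    rw [h.a0, if_pos rfl]; norm_num
  have hS' : (S.erase x0).card = 3 := by
    rw [Finset.card_erase_of_mem hx0, hS]
  obtain ⟨x1, x2, x3, h12, h13, h23, hE⟩ := Finset.card_eq_three.1 hS'
  have hm : ∀ x, x ∈ S.erase x0 ↔ x = x1 ∨ x = x2 ∨ x = x3 := by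
    intro x; rw [hE]; simp
  refine ⟨x1, x2, x3, h12, h13, h23, ?_, ?_, ?_, ?_⟩
  · exact Finset.ne_of_mem_erase ((hm x1).2 (Or.inl rfl))
  · exact Finset.ne_of_mem_erase ((hm x2).2 (Or.inr (Or.inl rfl)))
  · exact Finset.ne_of_mem_erase ((hm x3).2 (Or.inr (Or.inr rfl)))
  · intro x
    constructor
    · intro hx
      have hxS : x ∈ S := Finset.mem_filter.2 ⟨Finset.mem_univ _, hx⟩
      by_cases hx0' : x = x0
      · exact Or.inl hx0'
      · exact Or.inr ((hm x).1 (Finset.mem_erase.2 ⟨hx0', hxS⟩))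
    · intro hx
      have hxS : x ∈ S := by
        rcases hx with rfl | hx
        · exact hx0
        · exact Finset.mem_of_mem_erase ((hm x).2 hx)
      exact (Finset.mem_filter.1 hxS).2

end Hyp

theorem sum_four {R : Type*} [AddCommMonoid R] (F : X → R) {p q r s : X} (hpq : p ≠ q)
    (hpr : p ≠ r) (hps : p ≠ s) (hqr : q ≠ r) (hqs : q ≠ s) (hrs : r ≠ s)
    (hF : ∀ x, x ≠ p → x ≠ q → x ≠ r → x ≠ s → F x = 0) :
    ∑ x, F x = F p + (F q + (F r + F s)) := by
  have h1 : ∑ x, F x = ∑ x ∈ ({p, q, r, s} : Finset X), F x := by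
    symm
    apply Finset.sum_subset (Finset.subset_univ _)
    intro x _ hx
    simp only [Finset.mem_insert, Finset.mem_singleton, not_or] at hx
    exact hF x hx.1 hx.2.1 hx.2.2.1 hx.2.2.2
  rw [h1, Finset.sum_insert (by simp [hpq, hpr, hps]), Finset.sum_insert (by simp [hqr, hqs]),
    Finset.sum_insert (by simp [hrs]), Finset.sum_singleton]

namespace Hyp

variable {a : Y → X → ℤ} {D : X → ℤ} {n : Y → ℤ} {κ : ℤ} {x0 : X} {y0 : Y}
  {bx : X → X} {bY : Y → Y}

theorem mul_self_one {v : ℤ} (h : v = 0 ∨ v = 1 ∨ v = -1) (h0 : v ≠ 0) : v * v = 1 := by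
  rcases h with h | h | h
  · exact absurd h h0
  · rw [h]; rfl
  · rw [h]; rfl

/-- sum over the support of the first row -/
theorem sum_trip (h : Hyp a D n κ x0 y0 bx bY) {x1 x2 x3 : X} (ht : Trip a x0 y0 x1 x2 x3)
    {R : Type*} [CommRing R] (F : X → R) :
    ∑ x, (a y0 x : R) * F x = F x0 + (a y0 x1 : R) * F x1 + (a y0 x2 : R) * F x2 +
      (a y0 x3 : R) * F x3 := by
  obtain ⟨h12, h13, h23, h10, h20, h30, hs⟩ := ht
  rw [sum_four (fun x => (a y0 x : R) * F x) h10.symm h20.symm h30.symm h12 h13 h23]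
  · have : a y0 x0 = 1 := by rw [h.a0, if_pos rfl]
    simp only [this, Int.cast_one, one_mul]
    ring
  · intro x q0 q1 q2 q3
    have : a y0 x = 0 := by
      by_contra hne
      rcases (hs x).1 hne with e | e | e | e
      · exact q0 e
      · exact q1 e
      · exact q2 e
      · exact q3 e
    simp only [this, Int.cast_zero, zero_mul]

theorem Trip.swap23 {x1 x2 x3 : X} (ht : Trip a x0 y0 x1 x2 x3) : Trip a x0 y0 x1 x3 x2 := by
  obtain ⟨h12, h13, h23, h10, h20, h30, hs⟩ := ht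
  exact ⟨h13, h12, h23.symm, h10, h30, h20, fun x => by rw [hs x]; tauto⟩

theorem Trip.swap12 {x1 x2 x3 : X} (ht : Trip a x0 y0 x1 x2 x3) : Trip a x0 y0 x2 x1 x3 := by
  obtain ⟨h12, h13, h23, h10, h20, h30, hs⟩ := ht
  exact ⟨h12.symm, h23, h13, h20, h10, h30, fun x => by rw [hs x]; tauto⟩

theorem row_sum (h : Hyp a D n κ x0 y0 bx bY) {x1 x2 x3 : X} (ht : Trip a x0 y0 x1 x2 x3)
    {y : Y} (hy : y ≠ y0) :
    a y0 x1 * a y x1 + a y0 x2 * a y x2 + a y0 x3 * a y x3 = 0 := by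
  have h1 := h.ortho y0 y
  rw [if_neg (Ne.symm hy)] at h1
  have h2 := sum_trip h ht (fun x => a y x)
  simp only [Int.cast_id] at h2
  rw [h1] at h2
  have h3 : a y x0 = 0 := by rw [h.a0, if_neg hy]
  rw [h3] at h2
  linarith

theorem bx_inj (h : Hyp a D n κ x0 y0 bx bY) {x x' : X} (hx : bx x = bx x') : x = x' := by
  rw [← h.bx_bx x, hx, h.bx_bx]

/-- The key lemma: a real entry of the first row. -/
theorem real_aux (h : Hyp a D n κ x0 y0 bx bY) {x1 x2 x3 : X} (ht : Trip a x0 y0 x1 x2 x3)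
    {y : Y} (hy : y ≠ y0) (hb1 : bx x1 = x1) (ha1 : a y x1 ≠ 0) (ha3 : a y x3 = 0) : False := by
  have hsum := row_sum h ht hy
  have ht' := ht
  obtain ⟨h12, h13, h23, h10, h20, h30, hs⟩ := ht
  have hax0 : a y x0 = 0 := by rw [h.a0, if_neg hy]
  -- values
  have e1 := h.abs_le_one y0 x1
  have e2 := h.abs_le_one y0 x2
  have e3 := h.abs_le_one y0 x3
  have e1' : a y0 x1 ≠ 0 := (hs x1).2 (by tauto)
  have e2' : a y0 x2 ≠ 0 := (hs x2).2 (by tauto)
  have e3' : a y0 x3 ≠ 0 := (hs x3).2 (by tauto)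
  have p1 := h.abs_le_one y x1
  have p2 := h.abs_le_one y x2
  have ha2 : a y x2 ≠ 0 := by
    intro h0
    rw [h0, ha3] at hsum
    simp only [mul_zero, add_zero] at hsum
    rcases mul_eq_zero.1 hsum with h1 | h1
    · exact e1' h1
    · exact ha1 h1
  -- bar on the support
  have hbs : ∀ x, a y0 x ≠ 0 → a y0 (bx x) ≠ 0 := by
    intro x hx; rw [h.a_bx0]; exact hx
  have hb2 : bx x2 = x2 ∨ bx x2 = x3 := by
    rcases (hs _).1 (hbs x2 e2') with e | e | e | e
    · exfalso; apply h20; apply bx_inj h; rw [e, h.bx0]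
    · exfalso; apply h12; apply bx_inj h; rw [e, hb1]
    · exact Or.inl e
    · exact Or.inr e
  -- the outer support of row y
  let U : Finset X := univ.filter (fun x => a y x ≠ 0 ∧ x ≠ x1 ∧ x ≠ x2)
  have hnorm : ∑ x, (a y x) ^ 2 = 4 := by
    have := h.ortho y y
    rw [if_pos rfl] at this
    rw [← this]
    exact Finset.sum_congr rfl (fun x _ => sq _)
  have hU : ∑ x, (a y x) ^ 2 = (a y x1) ^ 2 + ((a y x2) ^ 2 + ∑ x ∈ U, (a y x) ^ 2) := by
    have f1 : x1 ∉ insert x2 U := by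
      simp only [Finset.mem_insert, not_or]
      refine ⟨h12, ?_⟩
      simp [U]
    have f2 : x2 ∉ U := by simp [U]
    have g1 : ∑ x ∈ insert x1 (insert x2 U), (a y x) ^ 2 =
        (a y x1) ^ 2 + ((a y x2) ^ 2 + ∑ x ∈ U, (a y x) ^ 2) := by
      rw [Finset.sum_insert f1, Finset.sum_insert f2]
    rw [← g1]
    symm
    apply Finset.sum_subset (Finset.subset_univ _)
    intro x _ hx
    simp only [Finset.mem_insert, not_or] at hx
    have : a y x = 0 := by
      by_contra hne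
      exact hx.2.2 (Finset.mem_filter.2 ⟨Finset.mem_univ _, hne, hx.1, hx.2.1⟩)
    rw [this]; rfl
  have hUc : ∑ x ∈ U, (a y x) ^ 2 = (U.card : ℤ) := by
    rw [Finset.card_eq_sum_ones, Nat.cast_sum]
    refine Finset.sum_congr rfl (fun x hx => ?_)
    have hne : a y x ≠ 0 := (Finset.mem_filter.1 hx).2.1
    rcases h.abs_le_one y x with h0 | h0 | h0
    · exact absurd h0 hne
    · rw [h0]; rfl
    · rw [h0]; rfl
  have hU2 : U.card = 2 := by
    have : (U.card : ℤ) = 2 := by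
      rw [← hUc]
      rw [hnorm] at hU
      have s1 : (a y x1) ^ 2 = 1 := by rw [sq]; exact mul_self_one p1 ha1
      have s2 : (a y x2) ^ 2 = 1 := by rw [sq]; exact mul_self_one p2 ha2
      rw [s1, s2] at hU
      linarith
    exact_mod_cast this
  obtain ⟨p, q, hpq, hUpq⟩ := Finset.card_eq_two.1 hU2
  have hmU : ∀ x, x ∈ U ↔ x = p ∨ x = q := by intro x; rw [hUpq]; simp
  have hpU := Finset.mem_filter.1 ((hmU p).2 (Or.inl rfl))
  have hqU := Finset.mem_filter.1 ((hmU q).2 (Or.inr rfl))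
  have hout : ∀ x, x ≠ x1 → x ≠ x2 → x ≠ p → x ≠ q → a y x = 0 := by
    intro x q1 q2 q3 q4
    by_contra hne
    rcases (hmU x).1 (Finset.mem_filter.2 ⟨Finset.mem_univ _, hne, q1, q2⟩) with e | e
    · exact q3 e
    · exact q4 e
  have hp0 : a y0 p = 0 := by
    by_contra hne
    rcases (hs _).1 hne with e | e | e | e
    · exact hpU.2.1 (by rw [e]; exact hax0)
    · exact hpU.2.2.1 e
    · exact hpU.2.2.2 e
    · exact hpU.2.1 (by rw [e]; exact ha3)
  have hq0 : a y0 q = 0 := by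
    by_contra hne
    rcases (hs _).1 hne with e | e | e | e
    · exact hqU.2.1 (by rw [e]; exact hax0)
    · exact hqU.2.2.1 e
    · exact hqU.2.2.2 e
    · exact hqU.2.1 (by rw [e]; exact ha3)
  have hsum4 : ∀ {R : Type} [CommRing R] (F : X → R), ∑ x, (a y x : R) * F x =
      (a y x1 : R) * F x1 + ((a y x2 : R) * F x2 + ((a y p : R) * F p + (a y q : R) * F q)) := by
    intro R _ F
    apply sum_four (fun x => (a y x : R) * F x) h12 (Ne.symm hpU.2.2.1) (Ne.symm hqU.2.2.1)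
      (Ne.symm hpU.2.2.2) (Ne.symm hqU.2.2.2) hpq
    intro x q1 q2 q3 q4
    rw [hout x q1 q2 q3 q4, Int.cast_zero, zero_mul]
  -- orthogonality with the conjugate row
  have hP : a y x1 * a y (bx x1) + (a y x2 * a y (bx x2) + (a y p * a y (bx p) + a y q * a y (bx q))) = 0 := by
    have h1 := h.ortho y (bY y)
    rw [if_neg (Ne.symm (h.bY_ne y hy))] at h1
    have h2 := hsum4 (fun x => a y (bx x))
    simp only [Int.cast_id] at h2
    rw [← h2, ← h1]
    exact Finset.sum_congr rfl (fun x _ => by rw [h.a_bY])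
  have hbp : ∀ r, a y0 r = 0 → bx r ≠ x1 ∧ bx r ≠ x2 := by
    intro r hr
    have h1 : a y0 (bx r) = 0 := by rw [h.a_bx0]; exact hr
    constructor
    · intro e; rw [e] at h1; exact e1' h1
    · intro e; rw [e] at h1; exact e2' h1
  have ap := h.abs_le_one y p
  have aq := h.abs_le_one y q
  have hkey : bx x2 = x2 ∧ bx p = q ∧ a y q = - a y p := by
    rw [hb1] at hP
    have s1 : a y x1 * a y x1 = 1 := mul_self_one p1 ha1
    rw [s1] at hP
    have t2 : (bx x2 = x2 ∧ a y x2 * a y (bx x2) = 1) ∨ (a y x2 * a y (bx x2) = 0) := by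
      rcases hb2 with e | e
      · left
        refine ⟨e, ?_⟩
        rw [e]
        exact mul_self_one p2 ha2
      · right
        rw [e, ha3, mul_zero]
    have hap : a y p ≠ 0 := hpU.2.1
    have haq : a y q ≠ 0 := hqU.2.1
    by_cases c1 : bx p = p
    · exfalso
      have tp : a y p * a y (bx p) = 1 := by
        rw [c1]; exact mul_self_one ap hap
      have tq : a y q * a y (bx q) = 1 ∨ a y q * a y (bx q) = 0 := by
        by_cases c2 : bx q = q
        · left; rw [c2]; exact mul_self_one aq haq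
        · right
          have c3 : bx q ≠ p := by
            intro e
            have : bx (bx q) = bx p := by rw [e]
            rw [h.bx_bx, c1] at this
            exact hpq this.symm
          rw [hout (bx q) (hbp q hq0).1 (hbp q hq0).2 c3 c2, mul_zero]
      rcases t2 with ⟨-, t2⟩ | t2 <;> rcases tq with tq | tq <;> rw [t2, tp, tq] at hP <;>
        norm_num at hP
    · by_cases c2 : bx p = q
      · have c3 : bx q = p := by rw [← c2, h.bx_bx]
        rw [c2, c3] at hP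
        rcases t2 with ⟨u2, t2⟩ | t2
        · refine ⟨u2, c2, ?_⟩
          rw [t2] at hP
          rcases ap with h0 | h0 | h0 <;> rcases aq with h1 | h1 | h1 <;>
            first | exact absurd h0 hap | exact absurd h1 haq |
              (rw [h0, h1] at hP
               first
                 | (rw [h0, h1]; done)
                 | (rw [h0, h1]; norm_num; done)
                 | (exfalso; norm_num at hP; done))
        · exfalso
          rw [t2] at hP
          rcases ap with h0 | h0 | h0 <;> rcases aq with h1 | h1 | h1 <;>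
            first | exact absurd h0 hap | exact absurd h1 haq |
              (rw [h0, h1] at hP; norm_num at hP)
      · exfalso
        have tp : a y p * a y (bx p) = 0 := by
          rw [hout (bx p) (hbp p hp0).1 (hbp p hp0).2 c1 c2, mul_zero]
        have tq : a y q * a y (bx q) = 1 ∨ a y q * a y (bx q) = 0 := by
          by_cases c3 : bx q = q
          · left; rw [c3]; exact mul_self_one aq haq
          · right
            have c4 : bx q ≠ p := by
              intro e; apply c2; rw [← e, h.bx_bx]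
            rw [hout (bx q) (hbp q hq0).1 (hbp q hq0).2 c4 c3, mul_zero]
        rcases t2 with ⟨-, t2⟩ | t2 <;> rcases tq with tq | tq <;> rw [t2, tp, tq] at hP <;>
          norm_num at hP
  obtain ⟨hb2', hbpq, haq⟩ := hkey
  have hb3 : bx x3 = x3 := by
    rcases (hs _).1 (hbs x3 e3') with e | e | e | e
    · exfalso; apply h30; apply bx_inj h; rw [e, h.bx0]
    · exfalso; apply h13; symm; apply bx_inj h; rw [e, hb1]
    · exfalso; apply h23; symm; apply bx_inj h; rw [e, hb2']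
    · exact e
  -- sums of real functions along row y
  have hreal : ∀ {R : Type} [CommRing R] (F : X → R), (∀ x, F (bx x) = F x) →
      ∑ x, (a y x : R) * F x = (a y x1 : R) * F x1 + (a y x2 : R) * F x2 := by
    intro R _ F hF
    rw [hsum4 F, ← hbpq, hF p, hbpq, haq]
    push_cast; ring
  have hD := hreal D h.Dbar
  simp only [Int.cast_id] at hD
  rw [h.deg y] at hD
  have hDp1 := h.Dpos x1
  have hDp2 := h.Dpos x2
  have hDeq : D x1 = D x2 ∧ a y x2 = - a y x1 := by
    rcases p1 with h0 | h0 | h0 <;> rcases p2 with h1 | h1 | h1 <;> rw [h0, h1] at hD ⊢ <;>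
      first | exact absurd h0 ha1 | exact absurd h1 ha2 | (constructor <;> linarith) |
        (exfalso; linarith)
  obtain ⟨hDe, ha21⟩ := hDeq
  have hε : a y0 x1 = a y0 x2 := by
    rw [ha3, ha21] at hsum
    have h2 : a y x1 * (a y0 x1 - a y0 x2) = 0 := by linarith
    rcases mul_eq_zero.1 h2 with h3 | h3
    · exact absurd h3 ha1
    · linarith
  have hB := hreal (B a n) h.B_bar
  simp only [Int.cast_id] at hB
  rw [h.sum_a_B y, ha21] at hB
  have hQ := hreal (R := ℚ) (fun x => (B a n x : ℚ) ^ 2 / (D x : ℚ))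
    (fun x => by simp only [h.B_bar, h.Dbar])
  have hQ' := h.quad y
  rw [hQ, ha21, ← hDe] at hQ'
  -- third column
  have hcol3 : ∀ y', y' ≠ y0 → a y' x3 = 0 := by
    intro y' hy'
    by_contra hne
    have hyy : y' ≠ y := by rintro rfl; exact hne ha3
    have hyb : y' ≠ bY y := by
      rintro rfl; apply hne; rw [h.a_bY, hb3]; exact ha3
    have hby0 : bY y ≠ y0 := by
      intro e; apply hy; rw [← h.bY_bY y, e, h.bY0]
    have hrow := row_sum h ht' hy'
    have hor : a y' x1 ≠ 0 ∨ a y' x2 ≠ 0 := by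
      by_contra hcon
      push Not at hcon
      rw [hcon.1, hcon.2] at hrow
      simp only [mul_zero, zero_add] at hrow
      rcases mul_eq_zero.1 hrow with h3 | h3
      · exact e3' h3
      · exact hne h3
    have hcol : ∀ xl, bx xl = xl → a y0 xl ≠ 0 → a y xl ≠ 0 → a y' xl ≠ 0 → False := by
      intro xl hbl g0 g1 g2
      have hc := h.col_le xl
      have h4 : ∑ z ∈ ({y0, y, bY y, y'} : Finset Y), (a z xl) ^ 2 ≤ ∑ z, (a z xl) ^ 2 :=
        Finset.sum_le_sum_of_subset_of_nonneg (Finset.subset_univ _) (fun _ _ _ => sq_nonneg _)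
      rw [Finset.sum_insert (by simp [hy.symm, hby0.symm, hy'.symm]),
        Finset.sum_insert (by simp [(h.bY_ne y hy).symm, hyy.symm]),
        Finset.sum_insert (by simp [hyb.symm]), Finset.sum_singleton] at h4
      have g3 : a (bY y) xl ≠ 0 := by rw [h.a_bY, hbl]; exact g1
      have k0 : 1 ≤ (a y0 xl) ^ 2 := by have := sq_pos_of_ne_zero g0 |> Int.add_one_le_iff.2; linarith
      have k1 : 1 ≤ (a y xl) ^ 2 := by have := sq_pos_of_ne_zero g1 |> Int.add_one_le_iff.2; linarith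
      have k2 : 1 ≤ (a y' xl) ^ 2 := by have := sq_pos_of_ne_zero g2 |> Int.add_one_le_iff.2; linarith
      have k3 : 1 ≤ (a (bY y) xl) ^ 2 := by
        have := sq_pos_of_ne_zero g3 |> Int.add_one_le_iff.2; linarith
      linarith
    rcases hor with g | g
    · exact hcol x1 hb1 e1' ha1 g
    · exact hcol x2 hb2' e2' ha2 g
  have hB3 : B a n x3 = a y0 x3 := by
    unfold B
    rw [Finset.sum_eq_single y0]
    · rw [h.n0, mul_one]
    · intro b _ hb; rw [hcol3 b hb, zero_mul]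
    · intro h0; exact absurd (Finset.mem_univ _) h0
  have hS0 := h.sum_a_B y0
  have hS0' := sum_trip h ht' (B a n)
  simp only [Int.cast_id] at hS0'
  rw [hS0', h.B_x0, hB3, ← hε, h.n0] at hS0
  have hdeg := h.deg y0
  have hdeg' := sum_trip h ht' D
  simp only [Int.cast_id] at hdeg'
  rw [hdeg', h.D0, ← hε, ← hDe] at hdeg
  have s3 : a y0 x3 * a y0 x3 = 1 := mul_self_one e3 e3'
  rw [s3] at hS0
  have hκ := h.κpos
  have hn := h.npos y
  -- quadratic relation
  have hq : κ * (a y x1 * ((B a n x1) ^ 2 - (B a n x2) ^ 2)) = 8 * n y * D x1 := by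
    have hD1 : (D x1 : ℚ) ≠ 0 := by exact_mod_cast hDp1.ne'
    have : (κ : ℚ) * ((a y x1 : ℚ) * ((B a n x1 : ℚ) ^ 2 - (B a n x2 : ℚ) ^ 2)) =
        8 * (n y : ℚ) * (D x1 : ℚ) := by
      rw [← hQ']
      push_cast
      field_simp
      ring
    exact_mod_cast this
  have hdvd := h.dvd x3
  rw [hB3] at hdvd
  have hD3 := h.Dpos x3
  have hS1 : a y0 x1 * (B a n x1 + B a n x2) = 2 := by linarith
  have hB1 : a y x1 * (B a n x1 - B a n x2) = 4 * n y := by linarith
  have hq2 : κ * (4 * n y * (B a n x1 + B a n x2)) = 8 * n y * D x1 := by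
    rw [← hq, ← hB1]; ring
  have hε1 : a y0 x1 = 1 := by
    rcases e1 with h0 | h0 | h0
    · exact absurd h0 e1'
    · exact h0
    · exfalso
      rw [h0] at hS1
      have : B a n x1 + B a n x2 = -2 := by linarith
      rw [this] at hq2
      have h5 : 0 < 8 * n y * D x1 := by positivity
      have h6 : κ * (4 * n y * (-2)) < 0 := by nlinarith [mul_pos hκ hn]
      linarith
  rw [hε1] at hS1 hdeg
  have hBB : B a n x1 + B a n x2 = 2 := by linarith
  rw [hBB] at hq2
  have hDκ : D x1 = κ := by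
    have : 8 * n y * (κ - D x1) = 0 := by linarith
    rcases mul_eq_zero.1 this with h5 | h5
    · exfalso; linarith
    · linarith
  rw [hDκ] at hdeg
  have hD3κ : D x3 = 2 * κ + 1 := by
    rcases e3 with h0 | h0 | h0
    · exact absurd h0 e3'
    · exfalso; rw [h0] at hdeg; linarith
    · rw [h0] at hdeg; linarith
  have h7 : D x3 ∣ κ := by
    rcases e3 with h0 | h0 | h0
    · exact absurd h0 e3'
    · rw [h0, mul_one] at hdvd; exact hdvd
    · rw [h0, mul_neg, mul_one, dvd_neg] at hdvd; exact hdvd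
  have h8 := Int.le_of_dvd hκ h7
  linarith

theorem real_zero (h : Hyp a D n κ x0 y0 bx bY) {x1 x2 x3 : X} (ht : Trip a x0 y0 x1 x2 x3)
    (hb1 : bx x1 = x1) (y : Y) (hy : y ≠ y0) : a y x1 = 0 := by
  by_contra ha1
  have hsum := row_sum h ht hy
  have e1 := h.abs_le_one y0 x1
  have e2 := h.abs_le_one y0 x2
  have e3 := h.abs_le_one y0 x3
  have e1' : a y0 x1 ≠ 0 := (ht.2.2.2.2.2.2 x1).2 (by tauto)
  have e2' : a y0 x2 ≠ 0 := (ht.2.2.2.2.2.2 x2).2 (by tauto)
  have e3' : a y0 x3 ≠ 0 := (ht.2.2.2.2.2.2 x3).2 (by tauto)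
  have p1 := h.abs_le_one y x1
  have p2 := h.abs_le_one y x2
  have p3 := h.abs_le_one y x3
  by_cases h3 : a y x3 = 0
  · exact real_aux h ht hy hb1 ha1 h3
  by_cases h2 : a y x2 = 0
  · exact real_aux h ht.swap23 hy hb1 ha1 h2
  rcases e1 with e1 | e1 | e1 <;> rcases e2 with e2 | e2 | e2 <;> rcases e3 with e3 | e3 | e3 <;>
    first | exact e1' e1 | exact e2' e2 | exact e3' e3 |
    (rw [e1, e2, e3] at hsum
     omega)

theorem real_B (h : Hyp a D n κ x0 y0 bx bY) {x1 x2 x3 : X} (ht : Trip a x0 y0 x1 x2 x3)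
    (hb1 : bx x1 = x1) : B a n x1 = a y0 x1 := by
  unfold B
  rw [Finset.sum_eq_single y0]
  · rw [h.n0, mul_one]
  · intro b _ hb; rw [real_zero h ht hb1 b hb, zero_mul]
  · intro h0; exact absurd (Finset.mem_univ _) h0

/-- All entries of the first row have `ε B = 1`. -/
theorem all_B (h : Hyp a D n κ x0 y0 bx bY) {x1 x2 x3 : X} (ht : Trip a x0 y0 x1 x2 x3) :
    a y0 x1 * B a n x1 = 1 := by
  have e1 := h.abs_le_one y0 x1
  have e2 := h.abs_le_one y0 x2
  have e3 := h.abs_le_one y0 x3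
  have e1' : a y0 x1 ≠ 0 := (ht.2.2.2.2.2.2 x1).2 (by tauto)
  have e2' : a y0 x2 ≠ 0 := (ht.2.2.2.2.2.2 x2).2 (by tauto)
  have e3' : a y0 x3 ≠ 0 := (ht.2.2.2.2.2.2 x3).2 (by tauto)
  have hbs : ∀ x, a y0 x ≠ 0 → a y0 (bx x) ≠ 0 := by
    intro x hx; rw [h.a_bx0]; exact hx
  have hS0 := h.sum_a_B y0
  have hS0' := sum_trip h ht (B a n)
  simp only [Int.cast_id] at hS0'
  rw [hS0', h.B_x0, h.n0] at hS0
  -- if `x1` and `x2` are swapped
  have haux : ∀ {x1 x2 x3 : X}, Trip a x0 y0 x1 x2 x3 → bx x1 = x2 →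
      a y0 x2 * B a n x2 = a y0 x1 * B a n x1 ∧ a y0 x3 * B a n x3 = 1 := by
    intro x1 x2 x3 ht' h12
    constructor
    · rw [← h12, h.a_bx0, h.B_bar]
    · have h3' : a y0 x3 ≠ 0 := (ht'.2.2.2.2.2.2 x3).2 (by tauto)
      have hb3 : bx x3 = x3 := by
        rcases (ht'.2.2.2.2.2.2 _).1 (hbs x3 h3') with e | e | e | e
        · exfalso; apply ht'.2.2.2.2.2.1; apply bx_inj h; rw [e, h.bx0]
        · exfalso; apply ht'.2.2.1; symm; apply bx_inj h; rw [e, ← h12, h.bx_bx]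
        · exfalso; apply ht'.2.1; symm; apply bx_inj h; rw [e, h12]
        · exact e
      rw [real_B h ht'.swap23.swap12 hb3]
      exact mul_self_one (h.abs_le_one y0 x3) h3'
  rcases (ht.2.2.2.2.2.2 _).1 (hbs x1 e1') with e | e | e | e
  · exfalso; apply ht.2.2.2.1; apply bx_inj h; rw [e, h.bx0]
  · rw [real_B h ht e]; exact mul_self_one e1 e1'
  · obtain ⟨q1, q2⟩ := haux ht e
    linarith
  · obtain ⟨q1, q2⟩ := haux ht.swap23 e
    linarith

end Hyp

theorem arith_check : ∀ k ∈ Finset.range 24, k % 2 = 1 →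
    ∀ b ∈ Finset.Icc (-23 : ℤ) 23, b ∣ (k : ℤ) → b ≠ 1 → b ≠ -1 →
    ∀ c ∈ Finset.Icc (-23 : ℤ) 23, c ∣ (k : ℤ) → c ≠ 1 → c ≠ -1 →
    (-1 - b - c) ∣ (k : ℤ) → (-1 - b - c) ≠ 1 → (-1 - b - c) ≠ -1 → 
    (k : ℤ) * ((-1 - b - c) * b * c + b * c + (-1 - b - c) * c + (-1 - b - c) * b) =
      8 * ((-1 - b - c) * b * c) → k = 15 := by
  decide +kernel

/-- lower bound for `1/d` when `d` is odd and `|d| > 1` -/
theorem inv_bound {d κ : ℤ} (hd : d ∣ κ) (hodd : κ % 2 = 1) (h1 : d ≠ 1) (h2 : d ≠ -1) :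
    3 ≤ d ∨ d ≤ -3 := by
  have h3 : ¬ (2 ∣ d) := by
    intro h
    have := h.trans hd
    omega
  have h4 : d ≠ 0 := by rintro rfl; exact h3 (dvd_zero 2)
  omega

theorem arith {κ a b c : ℤ} (hκ : 0 < κ) (hodd : κ % 2 = 1) (ha : a ∣ κ) (hb : b ∣ κ) (hc : c ∣ κ)
    (a1 : a ≠ 1) (a2 : a ≠ -1) (b1 : b ≠ 1) (b2 : b ≠ -1) (c1 : c ≠ 1) (c2 : c ≠ -1)
    (hs : 1 + a + b + c = 0)
    (hf : κ * (a * b * c + b * c + a * c + a * b) = 8 * (a * b * c)) : κ = 15 := by
  have ia := inv_bound ha hodd a1 a2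
  have ib := inv_bound hb hodd b1 b2
  have ic := inv_bound hc hodd c1 c2
  have a0 : (a : ℚ) ≠ 0 := by
    have : a ≠ 0 := by omega
    exact_mod_cast this
  have b0 : (b : ℚ) ≠ 0 := by
    have : b ≠ 0 := by omega
    exact_mod_cast this
  have c0 : (c : ℚ) ≠ 0 := by
    have : c ≠ 0 := by omega
    exact_mod_cast this
  have hf' : (κ : ℚ) * (1 + 1 / a + 1 / b + 1 / c) = 8 := by
    have h1 : (κ : ℚ) * (a * b * c + b * c + a * c + a * b) = 8 * (a * b * c) := by
      exact_mod_cast hf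
    have h2 : (1 + 1 / a + 1 / b + 1 / c : ℚ) = (a * b * c + b * c + a * c + a * b) / (a * b * c) := by
      field_simp
    rw [h2, ← mul_div_assoc, h1]
    field_simp
  have lb : ∀ d : ℤ, (3 ≤ d ∨ d ≤ -3) → (-1 / 3 : ℚ) ≤ 1 / d := by
    intro d hd
    rcases hd with hd | hd
    · have : (3 : ℚ) ≤ d := by exact_mod_cast hd
      have : (0 : ℚ) ≤ 1 / d := by positivity
      linarith
    · have h1 : (d : ℚ) ≤ -3 := by exact_mod_cast hd
      rw [le_div_iff_of_neg (by linarith)]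
      linarith
  have lbp : ∀ d : ℤ, 3 ≤ d → (0 : ℚ) < 1 / d := by
    intro d hd
    have : (3 : ℚ) ≤ d := by exact_mod_cast hd
    positivity
  have hκ' : (0 : ℚ) < κ := by exact_mod_cast hκ
  have hbound : κ < 24 := by
    by_contra hcon
    push Not at hcon
    have hcon' : (24 : ℚ) ≤ κ := by exact_mod_cast hcon
    have hgt : (1 / 3 : ℚ) < 1 + 1 / a + 1 / b + 1 / c := by
      have l1 := lb a ia
      have l2 := lb b ib
      have l3 := lb c ic
      have : 3 ≤ a ∨ 3 ≤ b ∨ 3 ≤ c := by omega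
      rcases this with h | h | h
      · have := lbp a h; linarith
      · have := lbp b h; linarith
      · have := lbp c h; linarith
    have : (8 : ℚ) < 8 := by
      calc (8 : ℚ) = 24 * (1 / 3) := by norm_num
        _ ≤ κ * (1 / 3) := by nlinarith
        _ < κ * (1 + 1 / a + 1 / b + 1 / c) := by nlinarith
        _ = 8 := hf'
    exact absurd this (lt_irrefl _)
  obtain ⟨k, rfl⟩ := Int.eq_ofNat_of_zero_le hκ.le
  have hle : ∀ d : ℤ, d ∣ (k : ℤ) → -23 ≤ d ∧ d ≤ 23 := by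
    intro d hd
    have h1 := Int.le_of_dvd hκ hd
    have h2 := Int.le_of_dvd hκ (neg_dvd.2 hd)
    omega
  have ha' : a = -1 - b - c := by omega
  have := arith_check k (Finset.mem_range.2 (by omega)) (by omega) b
    (Finset.mem_Icc.2 (hle b hb)) hb b1 b2 c (Finset.mem_Icc.2 (hle c hc)) hc c1 c2
    (ha' ▸ ha) (ha' ▸ a1) (ha' ▸ a2) (by rw [← ha']; exact hf)
  rw [this]; rfl

namespace Hyp

variable {a : Y → X → ℤ} {D : X → ℤ} {n : Y → ℤ} {κ : ℤ} {x0 : X} {y0 : Y}
  {bx : X → X} {bY : Y → Y}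

theorem kappa_eq (h : Hyp a D n κ x0 y0 bx bY) : κ = 15 := by
  obtain ⟨x1, x2, x3, ht⟩ := h.exists_trip
  have B1 := all_B h ht
  have B2 := all_B h ht.swap12
  have B3 := all_B h ht.swap23.swap12
  have e1 := h.abs_le_one y0 x1
  have e2 := h.abs_le_one y0 x2
  have e3 := h.abs_le_one y0 x3
  have e1' : a y0 x1 ≠ 0 := (ht.2.2.2.2.2.2 x1).2 (by tauto)
  have e2' : a y0 x2 ≠ 0 := (ht.2.2.2.2.2.2 x2).2 (by tauto)
  have e3' : a y0 x3 ≠ 0 := (ht.2.2.2.2.2.2 x3).2 (by tauto)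
  have hdeg := h.deg y0
  have hdeg' := sum_trip h ht D
  simp only [Int.cast_id] at hdeg'
  rw [hdeg', h.D0] at hdeg
  have hQ := h.quad y0
  rw [sum_trip h ht, h.B_x0, h.D0, h.n0] at hQ
  have hval : ∀ x, (a y0 x = 0 ∨ a y0 x = 1 ∨ a y0 x = -1) → a y0 x ≠ 0 → a y0 x * B a n x = 1 →
      1 < D x →
      (B a n x) ^ 2 = 1 ∧ (a y0 x * D x) ∣ κ ∧ a y0 x * D x ≠ 1 ∧ a y0 x * D x ≠ -1 ∧
        (a y0 x : ℚ) * ((B a n x : ℚ) ^ 2 / (D x : ℚ)) = 1 / ((a y0 x * D x : ℤ) : ℚ) := by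
    intro x hx hx0 hB hD
    have hd := h.dvd x
    rcases hx with e | e | e
    · exact absurd e hx0
    · rw [e, one_mul] at hB
      rw [hB] at hd ⊢
      rw [e]
      refine ⟨by norm_num, by simpa using hd, by rw [one_mul]; omega, by rw [one_mul]; omega, ?_⟩
      push_cast; norm_num
    · rw [e] at hB
      have hB' : B a n x = -1 := by linarith
      rw [hB'] at hd ⊢
      rw [e]
      refine ⟨by norm_num, by simpa using hd, by omega, by omega, ?_⟩
      push_cast
      rw [neg_one_mul, neg_one_mul, div_neg]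
      norm_num
  obtain ⟨-, g1, g2, g3, g4⟩ := hval x1 e1 e1' B1 (h.lin x1 ht.2.2.2.1)
  obtain ⟨-, k1, k2, k3, k4⟩ := hval x2 e2 e2' B2 (h.lin x2 ht.2.2.2.2.1)
  obtain ⟨-, l1, l2, l3, l4⟩ := hval x3 e3 e3' B3 (h.lin x3 ht.2.2.2.2.2.1)
  rw [g4, k4, l4] at hQ
  refine arith h.κpos h.κodd g1 k1 l1 g2 g3 k2 k3 l2 l3 hdeg ?_
  have n1 : ((a y0 x1 * D x1 : ℤ) : ℚ) ≠ 0 := by
    have := mul_ne_zero e1' (h.Dpos x1).ne'
    exact_mod_cast this
  have n2 : ((a y0 x2 * D x2 : ℤ) : ℚ) ≠ 0 := by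
    have := mul_ne_zero e2' (h.Dpos x2).ne'
    exact_mod_cast this
  have n3 : ((a y0 x3 * D x3 : ℤ) : ℚ) ≠ 0 := by
    have := mul_ne_zero e3' (h.Dpos x3).ne'
    exact_mod_cast this
  set p := a y0 x1 * D x1
  set q := a y0 x2 * D x2
  set r := a y0 x3 * D x3
  have : (κ : ℚ) * (p * q * r + q * r + p * r + p * q) = 8 * (p * q * r) := by
    have h1 : (κ : ℚ) * (1 + 1 / p + 1 / q + 1 / r) = 8 := by
      rw [← mul_one (8 : ℚ)]
      have : (8 : ℚ) * ((1 : ℤ) : ℚ) = 8 * 1 := by norm_num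
      rw [← this, ← hQ]
      norm_num
    have h2 : (p * q * r + q * r + p * r + p * q : ℚ) = (1 + 1 / p + 1 / q + 1 / r) * (p * q * r) := by
      field_simp
    rw [h2, ← mul_assoc, h1]
  exact_mod_cast this

end Hyp

end Cfsg.Agent.H55.FourMat
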