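import Mathlib
import Cfsg.Agent.H55.FourMat

set_option autoImplicit false
set_option linter.style.haveILetI false
set_option linter.unusedSectionVars false

/-!
# The arithmetic of the Brauer–Suzuki–Wall theorem
-/

namespace Cfsg.Agent.H55.BswMat

open Finset

variable {X A : Type*} [Fintype X] [Fintype A] [DecidableEq X] [DecidableEq A]

/-- value at the involution -/
def B (r : A → X → ℤ) (τ : A → ℤ) (x : X) : ℤ := -∑ α, r α x * τ α

structure Hyp (r : A → X → ℤ) (D : X → ℤ) (τ : A → ℤ) (k κ : ℤ) (x0 : X) (bar : A → A) (ρ : A) :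
    Prop where
  bar_bar : ∀ α, bar (bar α) = α
  bar_ρ : bar ρ = ρ
  bar_ne : ∀ α, α ≠ ρ → bar α ≠ α
  r_bar : ∀ α x, r (bar α) x = r α x
  ortho : ∀ α β, ∑ x, r α x * r β x =
    2 + (if α = β then 1 else 0) + (if bar α = β then 1 else 0)
  r0 : ∀ α, r α x0 = 1
  deg : ∀ α, ∑ x, r α x * D x = 0
  Dpos : ∀ x, 0 < D x
  D0 : D x0 = 1
  τ_bar : ∀ α, τ (bar α) = τ α
  τ_sq : ∀ α, τ α = 1 ∨ τ α = -1
  τ_sum : ∑ α, τ α = -1
  card : (Fintype.card A : ℤ) = k - 1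
  kpos : 2 ≤ k
  κpos : 0 < κ
  κodd : κ % 2 = 1
  quad : ∀ α, ∑ x, (r α x : ℚ) * ((B r τ x : ℚ) ^ 2 / (D x : ℚ)) = 2 * (k : ℚ) ^ 2 / κ
  int : ∀ x, 2 * k ∣ D x + ∑ α, r α x + k * B r τ x
  dvd : ∀ x, D x ∣ κ * B r τ x

/-- The conclusion. -/
structure Out (r : A → X → ℤ) (D : X → ℤ) (τ : A → ℤ) (k κ : ℤ) (x0 : X) (δ : ℤ) (θ : X) :
    Prop where
  δ1 : δ = 1 ∨ δ = -1
  Dθ : D θ = 2 * k + δ
  rθ : ∀ α, r α θ = δ
  θne : θ ≠ x0
  κeq : κ = (2 * k + δ) * (k + δ)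
  ident : ∀ x, (B r τ x : ℚ) ^ 2 / (D x : ℚ) =
    (if x = x0 then 1 + (δ : ℚ) / (k + δ) * (k - 1) else 0) +
    (if x = θ then 1 / (2 * (k : ℚ) + δ) + ((k : ℚ) - 1) / (k + δ) else 0) -
      (δ : ℚ) / (k + δ) * ∑ α, (r α x : ℚ)

/-- small norm integer vectors -/
theorem small_norm (v : X → ℤ) (N : ℕ) (hN : N ≤ 3) (hv : ∑ x, v x ^ 2 = N) :
    (∀ x, v x = 0 ∨ v x = 1 ∨ v x = -1) ∧ (univ.filter (fun x => v x ≠ 0)).card = N := by
  have h1 : ∀ x, v x = 0 ∨ v x = 1 ∨ v x = -1 := by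
    intro x
    have h2 : (v x) ^ 2 ≤ 3 := by
      have h3 : (v x) ^ 2 ≤ ∑ x, v x ^ 2 :=
        Finset.single_le_sum (f := fun x => v x ^ 2) (fun _ _ => sq_nonneg _) (Finset.mem_univ x)
      rw [hv] at h3
      have h4 : (N : ℤ) ≤ 3 := by exact_mod_cast hN
      linarith
    have h3 : v x ≤ 1 := by nlinarith
    have h4 : -1 ≤ v x := by nlinarith
    omega
  refine ⟨h1, ?_⟩
  have h2 : ∑ x, v x ^ 2 = ∑ x ∈ univ.filter (fun x => v x ≠ 0), v x ^ 2 := by
    symm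
    apply Finset.sum_subset (Finset.subset_univ _)
    intro x _ hx
    have : v x = 0 := by
      by_contra hne
      exact hx (Finset.mem_filter.2 ⟨Finset.mem_univ _, hne⟩)
    rw [this]; rfl
  have h3 : ∑ x ∈ univ.filter (fun x => v x ≠ 0), v x ^ 2 =
      ((univ.filter (fun x => v x ≠ 0)).card : ℤ) := by
    rw [Finset.card_eq_sum_ones, Nat.cast_sum]
    refine Finset.sum_congr rfl (fun x hx => ?_)
    have hne := (Finset.mem_filter.1 hx).2
    rcases h1 x with h0 | h0 | h0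
    · exact absurd h0 hne
    · rw [h0]; rfl
    · rw [h0]; rfl
  rw [h2, h3] at hv
  exact_mod_cast hv

theorem sum_two {X : Type*} [Fintype X] [DecidableEq X] {R : Type*} [AddCommMonoid R] (F : X → R)
    {p q : X} (hpq : p ≠ q) (hF : ∀ x, x ≠ p → x ≠ q → F x = 0) : ∑ x, F x = F p + F q := by
  have h1 : ∑ x, F x = ∑ x ∈ ({p, q} : Finset X), F x := by
    symm
    apply Finset.sum_subset (Finset.subset_univ _)
    intro x _ hx
    simp only [Finset.mem_insert, Finset.mem_singleton, not_or] at hx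
    exact hF x hx.1 hx.2
  rw [h1, Finset.sum_pair hpq]

theorem sum_three {X : Type*} [Fintype X] [DecidableEq X] {R : Type*} [AddCommMonoid R]
    (F : X → R) {p q s : X} (hpq : p ≠ q) (hps : p ≠ s) (hqs : q ≠ s)
    (hF : ∀ x, x ≠ p → x ≠ q → x ≠ s → F x = 0) : ∑ x, F x = F p + (F q + F s) := by
  have h1 : ∑ x, F x = ∑ x ∈ ({p, q, s} : Finset X), F x := by
    symm
    apply Finset.sum_subset (Finset.subset_univ _)
    intro x _ hx
    simp only [Finset.mem_insert, Finset.mem_singleton, not_or] at hx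
    exact hF x hx.1 hx.2.1 hx.2.2
  rw [h1, Finset.sum_insert (by simp [hpq, hps]), Finset.sum_pair hqs]

namespace Hyp

variable {r : A → X → ℤ} {D : X → ℤ} {τ : A → ℤ} {k κ : ℤ} {x0 : X} {bar : A → A} {ρ : A}

/-- the row without the trivial character -/
def v (r : A → X → ℤ) (x0 : X) (α : A) (x : X) : ℤ := r α x - if x = x0 then 1 else 0

variable (h : Hyp r D τ k κ x0 bar ρ)

include h

theorem v_x0 (α : A) : v r x0 α x0 = 0 := by unfold v; rw [h.r0, if_pos rfl]; ring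

omit h in
theorem v_ne {x : X} (hx : x ≠ x0) (α : A) : v r x0 α x = r α x := by
  unfold v; rw [if_neg hx]; ring

theorem v_bar (α : A) (x : X) : v r x0 (bar α) x = v r x0 α x := by unfold v; rw [h.r_bar]

theorem sum_v_mul {R : Type*} [CommRing R] (α : A) (F : X → R) :
    ∑ x, (r α x : R) * F x = F x0 + ∑ x, (v r x0 α x : R) * F x := by
  have e1 : ∀ x, (v r x0 α x : R) * F x = (r α x : R) * F x - if x = x0 then F x else 0 := by
    intro x
    unfold v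
    push_cast
    split_ifs <;> ring
  rw [Finset.sum_congr rfl (fun x _ => e1 x), Finset.sum_sub_distrib]
  simp

theorem vdot (α β : A) : ∑ x, v r x0 α x * v r x0 β x =
    1 + (if α = β then 1 else 0) + (if bar α = β then 1 else 0) := by
  have h1 := sum_v_mul h (R := ℤ) α (fun x => v r x0 β x)
  simp only [Int.cast_id] at h1
  rw [h.v_x0, zero_add] at h1
  rw [← h1]
  have h2 := sum_v_mul h (R := ℤ) β (fun x => r α x)
  simp only [Int.cast_id] at h2
  have h3 := h.ortho α β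
  rw [h.r0] at h2
  have h4 : ∑ x, r α x * v r x0 β x = ∑ x, v r x0 β x * r α x :=
    Finset.sum_congr rfl (fun x _ => mul_comm _ _)
  have h5 : ∑ x, r α x * r β x = ∑ x, r β x * r α x :=
    Finset.sum_congr rfl (fun x _ => mul_comm _ _)
  rw [h4]
  rw [h5, h2] at h3
  linarith

theorem vdeg (α : A) : ∑ x, v r x0 α x * D x = -1 := by
  have h1 := sum_v_mul h (R := ℤ) α D
  simp only [Int.cast_id] at h1
  rw [h.deg, h.D0] at h1
  linarith

theorem v_small (α : A) (x : X) : v r x0 α x = 0 ∨ v r x0 α x = 1 ∨ v r x0 α x = -1 := by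
  have h1 := vdot h α α
  rw [if_pos rfl] at h1
  have h2 : ∑ x, v r x0 α x ^ 2 = ∑ x, v r x0 α x * v r x0 α x :=
    Finset.sum_congr rfl (fun x _ => sq _)
  rw [h1] at h2
  by_cases c : bar α = α
  · rw [if_pos c] at h2
    exact (small_norm _ 3 le_rfl (by rw [h2]; rfl)).1 x
  · rw [if_neg c] at h2
    exact (small_norm _ 2 (by norm_num) (by rw [h2]; rfl)).1 x

end Hyp

/-- A row with exactly two entries. -/
def Pair (r : A → X → ℤ) (x0 : X) (α : A) (a b : X) (δ : ℤ) : Prop :=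
  (δ = 1 ∨ δ = -1) ∧ a ≠ b ∧ Hyp.v r x0 α a = δ ∧ Hyp.v r x0 α b = -δ ∧
    ∀ x, x ≠ a → x ≠ b → Hyp.v r x0 α x = 0

theorem Pair.symm {r : A → X → ℤ} {x0 : X} {α : A} {a b : X} {δ : ℤ} (hp : Pair r x0 α a b δ) :
    Pair r x0 α b a (-δ) := by
  obtain ⟨h1, h2, h3, h4, h5⟩ := hp
  refine ⟨by omega, h2.symm, h4, by rw [neg_neg]; exact h3, fun x ha hb => h5 x hb ha⟩

theorem Pair.sum {r : A → X → ℤ} {x0 : X} {α : A} {a b : X} {δ : ℤ} (hp : Pair r x0 α a b δ)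
    {R : Type*} [CommRing R] (F : X → R) :
    ∑ x, (Hyp.v r x0 α x : R) * F x = (δ : R) * F a - (δ : R) * F b := by
  obtain ⟨h1, h2, h3, h4, h5⟩ := hp
  rw [sum_two (fun x => (Hyp.v r x0 α x : R) * F x) h2]
  · simp only [h3, h4]; push_cast; ring
  · intro x ha hb
    simp only [h5 x ha hb, Int.cast_zero, zero_mul]

namespace Hyp

variable {r : A → X → ℤ} {D : X → ℤ} {τ : A → ℤ} {k κ : ℤ} {x0 : X} {bar : A → A} {ρ : A}
variable (h : Hyp r D τ k κ x0 bar ρ)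

include h

theorem Pair_bar {α : A} {a b : X} {δ : ℤ} (hp : Pair r x0 α a b δ) :
    Pair r x0 (bar α) a b δ := by
  obtain ⟨h1, h2, h3, h4, h5⟩ := hp
  exact ⟨h1, h2, by rw [h.v_bar]; exact h3, by rw [h.v_bar]; exact h4,
    fun x ha hb => by rw [h.v_bar]; exact h5 x ha hb⟩

theorem exists_pair {α : A} (hα : α ≠ ρ) : ∃ a b δ, Pair r x0 α a b δ := by
  have h1 := vdot h α α
  rw [if_pos rfl, if_neg (h.bar_ne α hα)] at h1
  have h2 : ∑ x, v r x0 α x ^ 2 = ((2 : ℕ) : ℤ) := by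
    rw [Finset.sum_congr rfl (fun x _ => sq (v r x0 α x)), h1]; rfl
  obtain ⟨h3, h4⟩ := small_norm _ 2 (by norm_num) h2
  obtain ⟨a, b, hab, hS⟩ := Finset.card_eq_two.1 h4
  have hm : ∀ x, v r x0 α x ≠ 0 ↔ x = a ∨ x = b := by
    intro x
    have : x ∈ univ.filter (fun x => v r x0 α x ≠ 0) ↔ x = a ∨ x = b := by rw [hS]; simp
    rw [← this]; simp
  have ha : v r x0 α a ≠ 0 := (hm a).2 (Or.inl rfl)
  have hb : v r x0 α b ≠ 0 := (hm b).2 (Or.inr rfl)
  have hz : ∀ x, x ≠ a → x ≠ b → v r x0 α x = 0 := by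
    intro x hxa hxb
    by_contra hne
    rcases (hm x).1 hne with e | e
    · exact hxa e
    · exact hxb e
  have hd := h.vdeg α
  rw [sum_two (fun x => v r x0 α x * D x) hab (fun x hxa hxb => by
    simp only [hz x hxa hxb, zero_mul])] at hd
  have hDa := h.Dpos a
  have hDb := h.Dpos b
  refine ⟨a, b, v r x0 α a, ?_, hab, rfl, ?_, hz⟩
  · rcases h3 a with e | e | e
    · exact absurd e ha
    · exact Or.inl e
    · exact Or.inr e
  · rcases h3 a with e | e | e <;> rcases h3 b with e' | e' | e' <;>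
      first
      | exact absurd e ha
      | exact absurd e' hb
      | (rw [e, e']; done)
      | (rw [e, e']; norm_num; done)
      | (rw [e, e'] at hd; exfalso; linarith)

theorem Pair.D_eq {α : A} {a b : X} {δ : ℤ} (hp : Pair r x0 α a b δ) : D b = D a + δ := by
  have h1 := hp.sum (R := ℤ) D
  simp only [Int.cast_id] at h1
  rw [h.vdeg] at h1
  rcases hp.1 with e | e <;> rw [e] at h1 ⊢ <;> linarith

theorem Pair.ne_x0 {α : A} {a b : X} {δ : ℤ} (hp : Pair r x0 α a b δ) : a ≠ x0 ∧ b ≠ x0 := by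
  obtain ⟨h1, h2, h3, h4, h5⟩ := hp
  constructor
  · rintro rfl; rw [h.v_x0] at h3; omega
  · rintro rfl; rw [h.v_x0] at h4; omega

/-- types of the other rows -/
theorem type_of {α β : A} {a b : X} {δ : ℤ} (hp : Pair r x0 α a b δ) (h1 : α ≠ β)
    (h2 : bar α ≠ β) :
    (v r x0 β a = δ ∧ v r x0 β b = 0) ∨ (v r x0 β b = -δ ∧ v r x0 β a = 0) := by
  have h3 := hp.sum (R := ℤ) (fun x => v r x0 β x)
  simp only [Int.cast_id] at h3
  rw [vdot h, if_neg h1, if_neg h2] at h3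
  have ha := h.v_small β a
  have hb := h.v_small β b
  rcases hp.1 with e | e <;> rw [e] at h3 ⊢ <;>
    rcases ha with ha | ha | ha <;> rcases hb with hb | hb | hb <;> rw [ha, hb] at h3 <;>
    first | (exfalso; omega) | (rw [ha, hb]; simp)

theorem pair_of_mem {β : A} (hβ : β ≠ ρ) {a : X} {δ : ℤ} (hδ : δ = 1 ∨ δ = -1)
    (ha : v r x0 β a = δ) : ∃ c, Pair r x0 β a c δ := by
  obtain ⟨p, q, ε, hp⟩ := exists_pair h hβ
  have hp' := hp
  obtain ⟨h1, h2, h3, h4, h5⟩ := hp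
  by_cases e1 : a = p
  · subst e1
    rw [h3] at ha; subst ha
    exact ⟨q, hp'⟩
  · by_cases e2 : a = q
    · subst e2
      rw [h4] at ha; subst ha
      exact ⟨p, hp'.symm⟩
    · have := h5 a e1 e2
      rw [this] at ha; omega

/-- no mixing of types among complex rows -/
theorem no_mix {α β β' : A} {a b : X} {δ : ℤ} (hp : Pair r x0 α a b δ) (hβ : β ≠ ρ)
    (hβ' : β' ≠ ρ) (hne : β ≠ β') (hne' : bar β ≠ β')
    (t1 : v r x0 β a = δ) (t1' : v r x0 β b = 0) (t2 : v r x0 β' b = -δ) (t2' : v r x0 β' a = 0) :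
    False := by
  obtain ⟨c, hc⟩ := pair_of_mem h hβ hp.1 t1
  have hδ' : -δ = 1 ∨ -δ = -1 := by rcases hp.1 with e | e <;> omega
  obtain ⟨d, hd⟩ := pair_of_mem h hβ' hδ' t2
  have h3 := hc.sum (R := ℤ) (fun x => v r x0 β' x)
  simp only [Int.cast_id] at h3
  rw [vdot h, if_neg hne, if_neg hne', t2'] at h3
  have h4 : v r x0 β' c = -δ := by
    rcases hp.1 with e | e <;> rw [e] at h3 ⊢ <;> linarith
  by_cases e1 : c = b
  · rw [e1] at hc
    have := hc.2.2.2.1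
    rw [t1'] at this
    rcases hp.1 with e | e <;> omega
  · by_cases e2 : c = d
    · rw [e2, hd.2.2.2.1] at h4
      rcases hp.1 with e | e <;> omega
    · rw [hd.2.2.2.2 c e1 e2] at h4
      rcases hp.1 with e | e <;> omega

theorem bar_inj {α β : A} (e : bar α = bar β) : α = β := by
  rw [← h.bar_bar α, e, h.bar_bar]

theorem B_x0 : B r τ x0 = 1 := by
  unfold B
  simp only [h.r0, one_mul]
  rw [h.τ_sum]; rfl

/-- the exceptional configuration does not occur -/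
theorem no_exotic {α β : A} {a b : X} {δ : ℤ} (hp : Pair r x0 α a b δ) (hα : α ≠ ρ)
    (hβ : β ≠ ρ) (hne : α ≠ β) (hne' : bar α ≠ β)
    (t1 : v r x0 ρ a = δ) (t1' : v r x0 ρ b = 0) (t2 : v r x0 β b = -δ) (t2' : v r x0 β a = 0) :
    False := by
  have hδ' : -δ = 1 ∨ -δ = -1 := by rcases hp.1 with e | e <;> omega
  obtain ⟨d, hd⟩ := pair_of_mem h hβ hδ' t2
  have hDb := Pair.D_eq h hp
  have hDd := Pair.D_eq h hd
  have hDda : D d = D a := by rw [hDd, hDb]; ring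
  have hda : d ≠ a := by
    rintro rfl
    have := hd.2.2.2.1
    rw [t2'] at this
    rcases hp.1 with e | e <;> omega
  have hdb : d ≠ b := hd.2.1.symm
  have hbβ : bar β ≠ ρ := by
    intro e; apply hβ; rw [← h.bar_bar β, e, h.bar_ρ]
  have hρd : v r x0 ρ d = δ := by
    have h3 := hd.sum (R := ℤ) (fun x => v r x0 ρ x)
    simp only [Int.cast_id] at h3
    rw [vdot h, if_neg hβ, if_neg hbβ, t1'] at h3
    rcases hp.1 with e | e <;> rw [e] at h3 ⊢ <;> linarith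
  -- norm of row ρ
  have hρn : ∑ x, v r x0 ρ x ^ 2 = ((3 : ℕ) : ℤ) := by
    rw [Finset.sum_congr rfl (fun x _ => sq (v r x0 ρ x)), vdot h, if_pos rfl, if_pos h.bar_ρ]; rfl
  obtain ⟨hρv, hρc⟩ := small_norm _ 3 le_rfl hρn
  have hδ0 : δ ≠ 0 := by rcases hp.1 with e | e <;> omega
  -- all complex rows are α, β or their conjugates
  have hall : ∀ γ : A, γ = α ∨ γ = bar α ∨ γ = β ∨ γ = bar β ∨ γ = ρ := by
    intro γ
    by_contra hcon
    push Not at hcon
    obtain ⟨c1, c2, c3, c4, c5⟩ := hcon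
    rcases type_of h hp (Ne.symm c1) (Ne.symm c2) with ⟨s1, s2⟩ | ⟨s1, s2⟩
    · exact no_mix h hp c5 hβ c3 (by
        intro e; apply c4; rw [← e, h.bar_bar]) s1 s2 t2 t2'
    · obtain ⟨d', hd'⟩ := pair_of_mem h c5 hδ' s1
      have hDb' := Pair.D_eq h hd'
      have hd'a : d' ≠ a := by
        rintro rfl
        have := hd'.2.2.2.1
        rw [s2] at this
        rcases hp.1 with e | e <;> omega
      have hbγ : bar γ ≠ ρ := by
        intro e; apply c5; rw [← h.bar_bar γ, e, h.bar_ρ]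
      have hρd' : v r x0 ρ d' = δ := by
        have h3 := hd'.sum (R := ℤ) (fun x => v r x0 ρ x)
        simp only [Int.cast_id] at h3
        rw [vdot h, if_neg c5, if_neg hbγ, t1'] at h3
        rcases hp.1 with e | e <;> rw [e] at h3 ⊢ <;> linarith
      have hdd' : d ≠ d' := by
        rintro rfl
        have h3 := hd.sum (R := ℤ) (fun x => v r x0 γ x)
        simp only [Int.cast_id] at h3
        rw [vdot h, if_neg (Ne.symm c3), if_neg (Ne.symm c4), s1, hd'.2.2.2.1] at h3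
        rcases hp.1 with e | e <;> rw [e] at h3 <;> omega
      -- row ρ is δ(a + d + d')
      have hsub : ({a, d, d'} : Finset X) ⊆ univ.filter (fun x => v r x0 ρ x ≠ 0) := by
        intro x hx
        simp only [Finset.mem_insert, Finset.mem_singleton] at hx
        refine Finset.mem_filter.2 ⟨Finset.mem_univ _, ?_⟩
        rcases hx with rfl | rfl | rfl
        · rw [t1]; exact hδ0
        · rw [hρd]; exact hδ0
        · rw [hρd']; exact hδ0
      have hcard : ({a, d, d'} : Finset X).card = 3 :=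
        Finset.card_eq_three.2 ⟨a, d, d', hda.symm, hd'a.symm, hdd', rfl⟩
      have heq := Finset.eq_of_subset_of_card_le hsub (by rw [hcard, hρc])
      have hz : ∀ x, x ≠ a → x ≠ d → x ≠ d' → v r x0 ρ x = 0 := by
        intro x q1 q2 q3
        by_contra hne
        have : x ∈ univ.filter (fun x => v r x0 ρ x ≠ 0) :=
          Finset.mem_filter.2 ⟨Finset.mem_univ _, hne⟩
        rw [← heq] at this
        simp only [Finset.mem_insert, Finset.mem_singleton] at this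
        rcases this with e | e | e
        · exact q1 e
        · exact q2 e
        · exact q3 e
      have hdeg := h.vdeg ρ
      rw [sum_three (fun x => v r x0 ρ x * D x) hda.symm hd'a.symm hdd'
        (fun x q1 q2 q3 => by simp only [hz x q1 q2 q3, zero_mul]), t1, hρd, hρd', hDda] at hdeg
      have hDd' : D d' = D a := by rw [hDb', hDb]; ring
      rw [hDd'] at hdeg
      have h3 : δ * D a * 3 = -1 := by linarith
      omega
  -- enumeration of A
  have hnab : α ≠ bar α := (h.bar_ne α hα).symm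
  have hnbb : β ≠ bar β := (h.bar_ne β hβ).symm
  have n1 : α ≠ bar β := by
    intro e; apply hne'; rw [e, h.bar_bar]
  have n2 : bar α ≠ bar β := fun e => hne (bar_inj h e)
  have hbα : bar α ≠ ρ := by
    intro e; apply hα; rw [← h.bar_bar α, e, h.bar_ρ]
  have hsumA : ∀ F : A → ℤ, ∑ γ, F γ = F α + (F (bar α) + (F β + (F (bar β) + F ρ))) := by
    intro F
    have hu : (univ : Finset A) = {α, bar α, β, bar β, ρ} := by
      ext γ
      simp only [Finset.mem_univ, Finset.mem_insert, Finset.mem_singleton, true_iff]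
      exact hall γ
    rw [hu, Finset.sum_insert (by simp [hnab, hne, n1, hα]),
      Finset.sum_insert (by simp [hne', n2, hbα]), Finset.sum_insert (by simp [hnbb, hβ]),
      Finset.sum_insert (by simp [hbβ]), Finset.sum_singleton]
  have hax := Pair.ne_x0 h hp
  have hdx := Pair.ne_x0 h hd
  have hrv : ∀ γ x, x ≠ x0 → r γ x = v r x0 γ x := fun γ x hx => (v_ne hx γ).symm
  have hBa : B r τ a = -(2 * δ * τ α + δ * τ ρ) := by
    unfold B
    rw [hsumA, h.r_bar, h.r_bar, hrv α a hax.1, hrv β a hax.1, hrv ρ a hax.1, hp.2.2.1, t2', t1,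
      h.τ_bar]
    ring
  have hαd : v r x0 α d = 0 := hp.2.2.2.2 d hda hdb
  have hBd : B r τ d = -(2 * δ * τ β + δ * τ ρ) := by
    unfold B
    rw [hsumA, h.r_bar, h.r_bar, hrv α d hdx.2, hrv β d hdx.2, hrv ρ d hdx.2, hαd, hd.2.2.2.1, hρd,
      h.τ_bar, h.τ_bar]
    ring
  have hτ := h.τ_sum
  rw [hsumA, h.τ_bar, h.τ_bar] at hτ
  have q1 := h.quad α
  have q2 := h.quad β
  rw [sum_v_mul h, hp.sum] at q1
  rw [sum_v_mul h, hd.sum, hDda] at q2
  have hDa0 : (D a : ℚ) ≠ 0 := by exact_mod_cast (h.Dpos a).ne'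
  have hδq : (δ : ℚ) ≠ 0 := by exact_mod_cast hδ0
  have q3 : (δ : ℚ) * ((B r τ a : ℚ) ^ 2 / (D a : ℚ)) = (δ : ℚ) * ((B r τ d : ℚ) ^ 2 / (D a : ℚ)) := by
    push_cast at q2
    linarith
  have q4 : (B r τ a : ℚ) ^ 2 = (B r τ d : ℚ) ^ 2 := by
    have := mul_left_cancel₀ hδq q3
    field_simp at this
    exact this
  have q5 : (B r τ a) ^ 2 = (B r τ d) ^ 2 := by exact_mod_cast q4
  rw [hBa, hBd] at q5
  rcases hp.1 with e | e <;> rw [e] at q5 <;>
    rcases h.τ_sq α with f1 | f1 <;> rcases h.τ_sq β with f2 | f2 <;>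
    rcases h.τ_sq ρ with f3 | f3 <;> rw [f1, f2, f3] at hτ q5 <;>
    first
    | (exfalso; norm_num at hτ; done)
    | (exfalso; norm_num at q5; done)

/-- The common constituent. -/
theorem exists_theta_of_complex {α : A} (hα : α ≠ ρ) :
    ∃ (θ : X) (δ : ℤ), (δ = 1 ∨ δ = -1) ∧ ∀ β, v r x0 β θ = δ := by
  obtain ⟨a0, b0, δ0, hp0⟩ := exists_pair h hα
  have hbα : bar α ≠ ρ := by
    intro e; apply hα; rw [← h.bar_bar α, e, h.bar_ρ]
  -- choose `a` such that `ρ` has type `a`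
  obtain ⟨a, b, δ, hp, t1, t1'⟩ : ∃ a b δ, Pair r x0 α a b δ ∧ v r x0 ρ a = δ ∧ v r x0 ρ b = 0 := by
    rcases type_of h hp0 hα hbα with ⟨s1, s2⟩ | ⟨s1, s2⟩
    · exact ⟨a0, b0, δ0, hp0, s1, s2⟩
    · exact ⟨b0, a0, -δ0, hp0.symm, s1, s2⟩
  refine ⟨a, δ, hp.1, ?_⟩
  intro β
  by_cases e1 : β = α
  · rw [e1]; exact hp.2.2.1
  by_cases e2 : β = bar α
  · rw [e2, h.v_bar]; exact hp.2.2.1
  by_cases e3 : β = ρ
  · rw [e3]; exact t1
  rcases type_of h hp (Ne.symm e1) (Ne.symm e2) with ⟨s1, s2⟩ | ⟨s1, s2⟩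
  · exact s1
  · exact absurd (no_exotic h hp hα e3 (Ne.symm e1) (Ne.symm e2) t1 t1' s1 s2) id

end Hyp

namespace Hyp

variable {r : A → X → ℤ} {D : X → ℤ} {τ : A → ℤ} {k κ : ℤ} {x0 : X} {bar : A → A} {ρ : A}
variable (h : Hyp r D τ k κ x0 bar ρ)

include h

omit h in
theorem aux1 (k δ : ℚ) (hδ : δ = 1 ∨ δ = -1) (h1 : k + δ ≠ 0) (h2 : 2 * k + δ ≠ 0) :
    2 * k ^ 2 / ((2 * k + δ) * (k + δ)) - 1 - δ * (1 / (2 * k + δ)) = -2 * δ / (k + δ) := by
  rcases hδ with rfl | rfl <;> field_simp <;> ring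

omit h in
theorem aux2 (k δ : ℚ) (hδ : δ = 1 ∨ δ = -1) (h1 : k + δ ≠ 0) (h2 : 2 * k + δ ≠ 0) :
    1 / (2 * k + δ) = 0 + (1 / (2 * k + δ) + (k - 1) / (k + δ)) - δ / (k + δ) * ((k - 1) * δ) := by
  rcases hδ with rfl | rfl <;> field_simp <;> ring

omit h in
theorem aux3 (k δ : ℚ) (hδ : δ = 1 ∨ δ = -1) (h1 : k + δ ≠ 0) :
    4 / (2 * k + δ + δ) = 0 + 0 - δ / (k + δ) * (-2 * δ) := by
  have g0 : (2 * (k : ℚ) + δ + δ) ≠ 0 := by
    have : 2 * (k : ℚ) + δ + δ = 2 * (k + δ) := by ring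
    rw [this]; exact mul_ne_zero two_ne_zero h1
  rcases hδ with rfl | rfl <;> field_simp <;> ring

omit h in
theorem aux4 (k δ : ℚ) (hδ : δ = 1 ∨ δ = -1) (h1 : k + δ ≠ 0) :
    1 / (k + δ) = 0 + 0 - δ / (k + δ) * (-δ) := by
  rcases hδ with rfl | rfl <;> field_simp <;> ring

theorem theta_ne {θ : X} {δ : ℤ} (hδ : δ = 1 ∨ δ = -1) (hθ : ∀ β, v r x0 β θ = δ) : θ ≠ x0 := by
  rintro rfl
  have := hθ ρ
  rw [h.v_x0] at this
  omega

theorem r_theta {θ : X} {δ : ℤ} (hδ : δ = 1 ∨ δ = -1) (hθ : ∀ β, v r x0 β θ = δ) (β : A) :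
    r β θ = δ := by
  rw [← v_ne (r := r) (theta_ne h hδ hθ)]; exact hθ β

theorem B_theta {θ : X} {δ : ℤ} (hδ : δ = 1 ∨ δ = -1) (hθ : ∀ β, v r x0 β θ = δ) :
    B r τ θ = δ := by
  unfold B
  simp only [r_theta h hδ hθ]
  rw [← Finset.mul_sum, h.τ_sum]; ring

theorem dvd_theta {θ : X} {δ : ℤ} (hδ : δ = 1 ∨ δ = -1) (hθ : ∀ β, v r x0 β θ = δ) :
    2 * k ∣ D θ - δ := by
  have h1 := h.int θ
  rw [B_theta h hδ hθ] at h1
  simp only [r_theta h hδ hθ, Finset.sum_const, Finset.card_univ, nsmul_eq_mul] at h1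
  rw [h.card] at h1
  have h2 : D θ - δ = (D θ + (k - 1) * δ + k * δ) - 2 * k * δ := by ring
  rw [h2]
  exact dvd_sub h1 (Dvd.intro _ rfl)

theorem pair_theta {θ : X} {δ : ℤ} (hδ : δ = 1 ∨ δ = -1) (hθ : ∀ β, v r x0 β θ = δ) {α : A}
    (hα : α ≠ ρ) : ∃ χ, Pair r x0 α θ χ δ ∧ (∀ γ, γ ≠ α → γ ≠ bar α → v r x0 γ χ = 0) ∧
      B r τ χ = 2 * δ * τ α := by
  obtain ⟨χ, hp⟩ := pair_of_mem h hα hδ (hθ α)
  have hz : ∀ γ, γ ≠ α → γ ≠ bar α → v r x0 γ χ = 0 := by
    intro γ h1 h2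
    rcases type_of h hp (Ne.symm h1) (Ne.symm h2) with ⟨_, s2⟩ | ⟨_, s2⟩
    · exact s2
    · rw [hθ γ] at s2; omega
  refine ⟨χ, hp, hz, ?_⟩
  have hχ := (Pair.ne_x0 h hp).2
  unfold B
  rw [sum_two (fun γ => r γ χ * τ γ) (h.bar_ne α hα).symm]
  · rw [h.τ_bar, h.r_bar, ← v_ne (r := r) hχ, hp.2.2.2.1]; ring
  · intro γ h1 h2
    rw [← v_ne (r := r) hχ, hz γ h1 h2, zero_mul]

/-- The order formula when there is a complex row. -/
theorem order_of_complex {θ : X} {δ : ℤ} (hδ : δ = 1 ∨ δ = -1) (hθ : ∀ β, v r x0 β θ = δ)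
    {α : A} (hα : α ≠ ρ) : D θ = 2 * k + δ ∧ κ = (2 * k + δ) * (k + δ) := by
  obtain ⟨χ, hp, -, hB⟩ := pair_theta h hδ hθ hα
  have hD := Pair.D_eq h hp
  have hq := h.quad α
  rw [sum_v_mul h, hp.sum, h.B_x0, h.D0, B_theta h hδ hθ, hB, hD] at hq
  obtain ⟨a, ha⟩ := dvd_theta h hδ hθ
  have hDθ := h.Dpos θ
  have hDχ := h.Dpos χ
  rw [hD] at hDχ
  have hk := h.kpos
  have hκ := h.κpos
  have hτ : (τ α) ^ 2 = 1 := by rcases h.τ_sq α with e | e <;> rw [e] <;> rfl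
  have hδ2 : δ ^ 2 = 1 := by rcases hδ with e | e <;> rw [e] <;> rfl
  have f0 : (D θ : ℚ) ≠ 0 := by exact_mod_cast hDθ.ne'
  have g0 : ((D θ : ℚ) + δ) ≠ 0 := by exact_mod_cast hDχ.ne'
  have κ0 : (κ : ℚ) ≠ 0 := by exact_mod_cast hκ.ne'
  have hτq : (τ α : ℚ) ^ 2 = 1 := by exact_mod_cast hτ
  have hδq : (δ : ℚ) ^ 2 = 1 := by exact_mod_cast hδ2
  -- clear denominators
  have h1 : (κ : ℚ) * (D θ - δ) ^ 2 = 2 * k ^ 2 * (D θ * (D θ + δ)) := by
    have h2 : (1 : ℚ) + δ / D θ - 4 * δ / (D θ + δ) = 2 * (k : ℚ) ^ 2 / κ := by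
      rw [← hq]
      push_cast
      have h3 : (2 * (δ : ℚ) * τ α) ^ 2 = 4 := by
        rw [mul_pow, mul_pow, hτq, hδq]; norm_num
      rw [h3, hδq]
      ring
    have h4 : (1 : ℚ) + δ / D θ - 4 * δ / (D θ + δ) =
        (D θ - δ) ^ 2 / (D θ * (D θ + δ)) := by
      field_simp
      have : (D θ : ℚ) * (D θ + δ) + δ * (D θ + δ) - D θ * (4 * δ) =
        (D θ - δ) ^ 2 + (δ ^ 2 - δ ^ 2) := by ring
      linear_combination this
    rw [h4, div_eq_div_iff (mul_ne_zero f0 g0) κ0] at h2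
    linarith
  have h1' : κ * (D θ - δ) ^ 2 = 2 * k ^ 2 * (D θ * (D θ + δ)) := by exact_mod_cast h1
  have hf : D θ = 2 * k * a + δ := by linarith
  rw [ha] at h1'
  have h2 : κ * a ^ 2 = (2 * k * a + δ) * (k * a + δ) := by
    have h3 : 4 * k ^ 2 * (κ * a ^ 2) = 4 * k ^ 2 * ((2 * k * a + δ) * (k * a + δ)) := by
      rw [hf] at h1'
      linear_combination h1'
    exact mul_left_cancel₀ (by positivity) h3
  have h3 : a ∣ 1 := by
    refine ⟨κ * a - 2 * k ^ 2 * a - 3 * k * δ, ?_⟩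
    linear_combination (-1 : ℤ) * h2 - hδ2
  have h4 : a = 1 := by
    rcases Int.isUnit_iff.1 (isUnit_of_dvd_one h3) with e | e
    · exact e
    · exfalso
      rw [e] at hf
      rcases hδ with e' | e' <;> rw [e'] at hf <;> linarith
  rw [h4] at hf h2
  constructor
  · linarith
  · linarith

/-- The group of order two case: a single row. -/
theorem order_of_single (hA : ∀ α : A, α = ρ) :
    ∃ (θ : X) (δ : ℤ), (δ = 1 ∨ δ = -1) ∧ (∀ β, v r x0 β θ = δ) ∧ D θ = 2 * k + δ ∧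
      κ = (2 * k + δ) * (k + δ) := by
  have hu : ∀ F : A → ℤ, ∑ γ, F γ = F ρ := by
    intro F
    have : (univ : Finset A) = {ρ} := by
      ext γ; simp [hA γ]
    rw [this, Finset.sum_singleton]
  have hk2 : k = 2 := by
    have h1 := h.card
    have h2 : Fintype.card A = 1 := Fintype.card_eq_one_iff.2 ⟨ρ, hA⟩
    rw [h2] at h1
    push_cast at h1; linarith
  have hτρ : τ ρ = -1 := by rw [← h.τ_sum, hu]
  have hB : ∀ x, B r τ x = r ρ x := by
    intro x; unfold B; rw [hu, hτρ]; ring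
  have hρn : ∑ x, v r x0 ρ x ^ 2 = ((3 : ℕ) : ℤ) := by
    rw [Finset.sum_congr rfl (fun x _ => sq (v r x0 ρ x)), vdot h, if_pos rfl, if_pos h.bar_ρ]; rfl
  obtain ⟨hρv, hρc⟩ := small_norm _ 3 le_rfl hρn
  obtain ⟨p, q, s, hpq, hps, hqs, hS⟩ := Finset.card_eq_three.1 hρc
  have hm : ∀ x, v r x0 ρ x ≠ 0 ↔ x = p ∨ x = q ∨ x = s := by
    intro x
    have : x ∈ univ.filter (fun x => v r x0 ρ x ≠ 0) ↔ x = p ∨ x = q ∨ x = s := by rw [hS]; simp
    rw [← this]; simp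
  have hz : ∀ x, x ≠ p → x ≠ q → x ≠ s → v r x0 ρ x = 0 := by
    intro x q1 q2 q3
    by_contra hne
    rcases (hm x).1 hne with e | e | e
    · exact q1 e
    · exact q2 e
    · exact q3 e
  have hsum : ∀ {R : Type} [CommRing R] (F : X → R), ∑ x, (v r x0 ρ x : R) * F x =
      (v r x0 ρ p : R) * F p + ((v r x0 ρ q : R) * F q + (v r x0 ρ s : R) * F s) := by
    intro R _ F
    apply sum_three (fun x => (v r x0 ρ x : R) * F x) hpq hps hqs
    intro x q1 q2 q3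
    rw [hz x q1 q2 q3, Int.cast_zero, zero_mul]
  have hdeg := h.vdeg ρ
  have hdeg' := hsum D
  simp only [Int.cast_id] at hdeg'
  rw [hdeg'] at hdeg
  have hval : ∀ x, v r x0 ρ x ≠ 0 → (v r x0 ρ x = 1 ∨ v r x0 ρ x = -1) ∧
      (v r x0 ρ x * D x) % 4 = 1 ∧ (v r x0 ρ x * D x) ∣ κ ∧
      (v r x0 ρ x : ℚ) * ((B r τ x : ℚ) ^ 2 / (D x : ℚ)) = 1 / ((v r x0 ρ x * D x : ℤ) : ℚ) := by
    intro x hx
    have hx0 : x ≠ x0 := by rintro rfl; exact hx (h.v_x0 ρ)
    have hBx : B r τ x = v r x0 ρ x := by rw [hB, v_ne hx0]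
    have hint := h.int x
    rw [hu, hBx, ← v_ne (r := r) hx0 ρ, hk2] at hint
    have hdvd := h.dvd x
    rw [hBx] at hdvd
    have hD := h.Dpos x
    rcases hρv x with e | e | e
    · exact absurd e hx
    · rw [hBx]
      rw [e] at hint hdvd ⊢
      refine ⟨Or.inl rfl, by omega, by simpa using hdvd, ?_⟩
      push_cast; ring
    · rw [hBx]
      rw [e] at hint hdvd ⊢
      refine ⟨Or.inr rfl, by omega, by simpa using hdvd, ?_⟩
      push_cast
      rw [neg_one_mul, neg_one_mul, div_neg]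
      norm_num
  obtain ⟨vp, mp, dp, fp⟩ := hval p ((hm p).2 (Or.inl rfl))
  obtain ⟨vq, mq, dq, fq⟩ := hval q ((hm q).2 (Or.inr (Or.inl rfl)))
  obtain ⟨vs, ms, ds, fs⟩ := hval s ((hm s).2 (Or.inr (Or.inr rfl)))
  have hquad := h.quad ρ
  rw [sum_v_mul h, h.B_x0, h.D0, hsum, fp, fq, fs, hk2] at hquad
  have hDp := h.Dpos p
  have hDq := h.Dpos q
  have hDs := h.Dpos s
  have hκ := h.κpos
  have hβ : ∀ x δ, v r x0 ρ x = δ → ∀ β, v r x0 β x = δ := by
    intro x δ hx β; rw [hA β]; exact hx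
  have key : ∀ P Q S : ℤ, P % 4 = 1 → Q % 4 = 1 → S % 4 = 1 → P ∣ κ → Q ∣ κ → S ∣ κ →
      P + (Q + S) = -1 → (1 : ℚ) + (1 / (P : ℚ) + (1 / (Q : ℚ) + 1 / (S : ℚ))) = 8 / κ →
      (κ = 3 ∧ (P = -3 ∨ Q = -3 ∨ S = -3)) ∨ (κ = 15 ∧ (P = 5 ∨ Q = 5 ∨ S = 5)) := by
    intro P Q S mP mQ mS dP dQ dS hs hf
    have P0 : (P : ℚ) ≠ 0 := by
      have : P ≠ 0 := by omega
      exact_mod_cast this
    have Q0 : (Q : ℚ) ≠ 0 := by
      have : Q ≠ 0 := by omega
      exact_mod_cast this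
    have S0 : (S : ℚ) ≠ 0 := by
      have : S ≠ 0 := by omega
      exact_mod_cast this
    have κ0 : (κ : ℚ) ≠ 0 := by exact_mod_cast hκ.ne'
    have hf' : κ * (P * Q * S + Q * S + P * S + P * Q) = 8 * (P * Q * S) := by
      have : (κ : ℚ) * (P * Q * S + Q * S + P * S + P * Q) = 8 * (P * Q * S) := by
        have h2 : (P * Q * S + Q * S + P * S + P * Q : ℚ) =
            (1 + (1 / (P : ℚ) + (1 / (Q : ℚ) + 1 / (S : ℚ)))) * (P * Q * S) := by
          field_simp; ring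
        rw [h2, hf]
        field_simp
      exact_mod_cast this
    -- the case where one of them is 1
    have hone : ∀ P Q S : ℤ, P = 1 → Q % 4 = 1 → S % 4 = 1 → P + (Q + S) = -1 →
        κ * (P * Q * S + Q * S + P * S + P * Q) = 8 * (P * Q * S) →
        κ = 3 ∧ (Q = -3 ∨ S = -3) := by
      intro P Q S hP mQ mS hs hf
      subst hP
      have hS' : S = -2 - Q := by linarith
      subst hS'
      obtain ⟨w, hw⟩ : ∃ w, Q = 2 * w - 1 := ⟨(Q + 1) / 2, by omega⟩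
      subst hw
      have h5 : κ * w ^ 2 = 4 * w ^ 2 - 1 := by
        have : 8 * (κ * w ^ 2) = 8 * (4 * w ^ 2 - 1) := by linear_combination (-1 : ℤ) * hf
        linarith
      have h6 : w ∣ 1 := ⟨4 * w - κ * w, by linear_combination h5⟩
      rcases Int.isUnit_iff.1 (isUnit_of_dvd_one h6) with e | e
      · subst e; constructor
        · linarith
        · right; norm_num
      · subst e; constructor
        · linarith
        · left; norm_num
    by_cases hP1 : P = 1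
    · obtain ⟨e1, e2⟩ := hone P Q S hP1 mQ mS hs hf'
      left; exact ⟨e1, by tauto⟩
    by_cases hQ1 : Q = 1
    · obtain ⟨e1, e2⟩ := hone Q P S hQ1 mP mS (by linarith) (by linear_combination hf')
      left; exact ⟨e1, by tauto⟩
    by_cases hS1 : S = 1
    · obtain ⟨e1, e2⟩ := hone S P Q hS1 mP mQ (by linarith) (by linear_combination hf')
      left; exact ⟨e1, by tauto⟩
    have h15 := Cfsg.Agent.H55.FourMat.arith hκ h.κodd dP dQ dS hP1 (by omega) hQ1 (by omega)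
      hS1 (by omega) (by linarith) hf'
    right
    refine ⟨h15, ?_⟩
    rw [h15] at dP dQ dS
    have hd : ∀ T : ℤ, T ∣ 15 → T % 4 = 1 → T ≠ 1 → T = 5 ∨ T = -3 ∨ T = -15 := by
      intro T hT mT hT1
      have h1 := Int.le_of_dvd (by norm_num) hT
      have h2 := Int.le_of_dvd (by norm_num) (neg_dvd.2 hT)
      obtain ⟨c, hc⟩ := hT
      have h3 : -15 ≤ T := by omega
      interval_cases T <;> omega
    have := hd P dP mP hP1
    have := hd Q dQ mQ hQ1
    have := hd S dS mS hS1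
    omega
  have hres := key _ _ _ mp mq ms dp dq ds hdeg (by
    have h8 : (2 : ℚ) * ((2 : ℤ) : ℚ) ^ 2 / κ = 8 / κ := by norm_num
    rw [← h8, ← hquad]; norm_num)
  rw [hk2]
  have hfin : ∀ x, (v r x0 ρ x = 1 ∨ v r x0 ρ x = -1) → 0 < D x →
      ((κ = 3 ∧ v r x0 ρ x * D x = -3) ∨ (κ = 15 ∧ v r x0 ρ x * D x = 5)) →
      ∃ (θ : X) (δ : ℤ), (δ = 1 ∨ δ = -1) ∧ (∀ β, v r x0 β θ = δ) ∧ D θ = 2 * 2 + δ ∧
      κ = (2 * 2 + δ) * (2 + δ) := by
    intro x hv hD hc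
    rcases hc with ⟨c1, c2⟩ | ⟨c1, c2⟩
    · refine ⟨x, -1, Or.inr rfl, hβ x _ ?_, ?_, ?_⟩
      · rcases hv with e | e
        · exfalso; rw [e] at c2; omega
        · exact e
      · rcases hv with e | e <;> rw [e] at c2 <;> omega
      · rw [c1]; norm_num
    · refine ⟨x, 1, Or.inl rfl, hβ x _ ?_, ?_, ?_⟩
      · rcases hv with e | e
        · exact e
        · exfalso; rw [e] at c2; omega
      · rcases hv with e | e <;> rw [e] at c2 <;> omega
      · rw [c1]; norm_num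
  rcases hres with ⟨c1, c2 | c2 | c2⟩ | ⟨c1, c2 | c2 | c2⟩
  · exact hfin p vp hDp (Or.inl ⟨c1, c2⟩)
  · exact hfin q vq hDq (Or.inl ⟨c1, c2⟩)
  · exact hfin s vs hDs (Or.inl ⟨c1, c2⟩)
  · exact hfin p vp hDp (Or.inr ⟨c1, c2⟩)
  · exact hfin q vq hDq (Or.inr ⟨c1, c2⟩)
  · exact hfin s vs hDs (Or.inr ⟨c1, c2⟩)

theorem exists_theta : ∃ (θ : X) (δ : ℤ), (δ = 1 ∨ δ = -1) ∧ (∀ β, v r x0 β θ = δ) ∧
    D θ = 2 * k + δ ∧ κ = (2 * k + δ) * (k + δ) := by
  by_cases hA : ∀ α : A, α = ρ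
  · exact order_of_single h hA
  · push Not at hA
    obtain ⟨α, hα⟩ := hA
    obtain ⟨θ, δ, hδ, hθ⟩ := exists_theta_of_complex h hα
    exact ⟨θ, δ, hδ, hθ, order_of_complex h hδ hθ hα⟩

/-- The two remaining constituents. -/
theorem rho_row {θ : X} {δ : ℤ} (hδ : δ = 1 ∨ δ = -1) (hθ : ∀ β, v r x0 β θ = δ)
    (hf : D θ = 2 * k + δ) (hκ : κ = (2 * k + δ) * (k + δ)) {x : X} (hx : x ≠ θ)
    (hv : v r x0 ρ x ≠ 0) :
    v r x0 ρ x = -δ ∧ D x = k + δ ∧ (∀ γ, γ ≠ ρ → v r x0 γ x = 0) ∧ (B r τ x) ^ 2 = 1 := by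
  have hρn : ∑ x, v r x0 ρ x ^ 2 = ((3 : ℕ) : ℤ) := by
    rw [Finset.sum_congr rfl (fun x _ => sq (v r x0 ρ x)), vdot h, if_pos rfl, if_pos h.bar_ρ]; rfl
  obtain ⟨hρv, hρc⟩ := small_norm _ 3 le_rfl hρn
  have hδ0 : δ ≠ 0 := by rcases hδ with e | e <;> omega
  have hθm : θ ∈ univ.filter (fun x => v r x0 ρ x ≠ 0) :=
    Finset.mem_filter.2 ⟨Finset.mem_univ _, by rw [hθ]; exact hδ0⟩
  have hxm : x ∈ (univ.filter (fun x => v r x0 ρ x ≠ 0)).erase θ :=
    Finset.mem_erase.2 ⟨hx, Finset.mem_filter.2 ⟨Finset.mem_univ _, hv⟩⟩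
  have hc2 : ((univ.filter (fun x => v r x0 ρ x ≠ 0)).erase θ).card = 2 := by
    rw [Finset.card_erase_of_mem hθm, hρc]
  have hc1 : (((univ.filter (fun x => v r x0 ρ x ≠ 0)).erase θ).erase x).card = 1 := by
    rw [Finset.card_erase_of_mem hxm, hc2]
  obtain ⟨y, hy⟩ := Finset.card_eq_one.1 hc1
  have hym : y ∈ ((univ.filter (fun x => v r x0 ρ x ≠ 0)).erase θ).erase x := by rw [hy]; simp
  have hyx : y ≠ x := (Finset.mem_erase.1 hym).1
  have hyθ : y ≠ θ := (Finset.mem_erase.1 (Finset.mem_erase.1 hym).2).1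
  have hvy : v r x0 ρ y ≠ 0 :=
    (Finset.mem_filter.1 (Finset.mem_erase.1 (Finset.mem_erase.1 hym).2).2).2
  have hz : ∀ w, w ≠ θ → w ≠ x → w ≠ y → v r x0 ρ w = 0 := by
    intro w q1 q2 q3
    by_contra hne
    have : w ∈ ((univ.filter (fun x => v r x0 ρ x ≠ 0)).erase θ).erase x :=
      Finset.mem_erase.2 ⟨q2, Finset.mem_erase.2 ⟨q1, Finset.mem_filter.2 ⟨Finset.mem_univ _, hne⟩⟩⟩
    rw [hy, Finset.mem_singleton] at this
    exact q3 this
  have hsum : ∀ {R : Type} [CommRing R] (F : X → R), ∑ w, (v r x0 ρ w : R) * F w =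
      (v r x0 ρ θ : R) * F θ + ((v r x0 ρ x : R) * F x + (v r x0 ρ y : R) * F y) := by
    intro R _ F
    apply sum_three (fun w => (v r x0 ρ w : R) * F w) (Ne.symm hx) (Ne.symm hyθ) (Ne.symm hyx)
    intro w q1 q2 q3
    rw [hz w q1 q2 q3, Int.cast_zero, zero_mul]
  have hzero : ∀ w, w ≠ θ → v r x0 ρ w ≠ 0 → (∀ γ, γ ≠ ρ → v r x0 γ w = 0) ∧
      (B r τ w) ^ 2 = 1 := by
    intro w hw hvw
    have hw0 : w ≠ x0 := by rintro rfl; exact hvw (h.v_x0 ρ)
    have h1 : ∀ γ, γ ≠ ρ → v r x0 γ w = 0 := by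
      intro γ hγ
      obtain ⟨χ, hp, hzχ, -⟩ := pair_theta h hδ hθ hγ
      by_cases e : w = χ
      · exfalso
        apply hvw
        rw [e]
        apply hzχ ρ (Ne.symm hγ)
        intro e'; apply hγ; rw [← h.bar_bar γ, ← e', h.bar_ρ]
      · exact hp.2.2.2.2 w hw e
    refine ⟨h1, ?_⟩
    have h2 : B r τ w = -(v r x0 ρ w * τ ρ) := by
      unfold B
      rw [Finset.sum_eq_single ρ]
      · rw [v_ne hw0]
      · intro γ _ hγ; rw [← v_ne (r := r) hw0, h1 γ hγ, zero_mul]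
      · intro h0; exact absurd (Finset.mem_univ _) h0
    rw [h2]
    rcases hρv w with e | e | e
    · exact absurd e hvw
    · rcases h.τ_sq ρ with e' | e' <;> rw [e, e'] <;> norm_num
    · rcases h.τ_sq ρ with e' | e' <;> rw [e, e'] <;> norm_num
  obtain ⟨zx, Bx⟩ := hzero x hx hv
  obtain ⟨zy, By⟩ := hzero y hyθ hvy
  have hdeg := h.vdeg ρ
  have hdeg' := hsum D
  simp only [Int.cast_id] at hdeg'
  rw [hdeg', hθ, hf] at hdeg
  have hq := h.quad ρ
  rw [sum_v_mul h, h.B_x0, h.D0, hsum, hθ, hf, B_theta h hδ hθ] at hq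
  have hDx := h.Dpos x
  have hDy := h.Dpos y
  have hk := h.kpos
  have hkδ : 0 < k + δ := by rcases hδ with e | e <;> omega
  have hfδ : 0 < 2 * k + δ := by rcases hδ with e | e <;> omega
  have hδ2 : δ ^ 2 = 1 := by rcases hδ with e | e <;> rw [e] <;> rfl
  set P := v r x0 ρ x * D x with hP
  set Q := v r x0 ρ y * D y with hQ
  have hP2 : (v r x0 ρ x : ℚ) * ((B r τ x : ℚ) ^ 2 / (D x : ℚ)) = 1 / (P : ℚ) := by
    have : (B r τ x : ℚ) ^ 2 = 1 := by exact_mod_cast Bx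
    rw [this, hP]
    rcases hρv x with e | e | e
    · exact absurd e hv
    · rw [e]; push_cast; ring
    · rw [e]; push_cast; rw [neg_one_mul, neg_one_mul, div_neg]
  have hQ2 : (v r x0 ρ y : ℚ) * ((B r τ y : ℚ) ^ 2 / (D y : ℚ)) = 1 / (Q : ℚ) := by
    have : (B r τ y : ℚ) ^ 2 = 1 := by exact_mod_cast By
    rw [this, hQ]
    rcases hρv y with e | e | e
    · exact absurd e hvy
    · rw [e]; push_cast; ring
    · rw [e]; push_cast; rw [neg_one_mul, neg_one_mul, div_neg]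
  rw [hP2, hQ2] at hq
  have P0 : P ≠ 0 := mul_ne_zero hv hDx.ne'
  have Q0 : Q ≠ 0 := mul_ne_zero hvy hDy.ne'
  have P0' : (P : ℚ) ≠ 0 := by exact_mod_cast P0
  have Q0' : (Q : ℚ) ≠ 0 := by exact_mod_cast Q0
  have k0' : ((k : ℚ) + δ) ≠ 0 := by exact_mod_cast hkδ.ne'
  have f0' : (2 * (k : ℚ) + δ) ≠ 0 := by exact_mod_cast hfδ.ne'
  have hδq : (δ : ℚ) ^ 2 = 1 := by exact_mod_cast hδ2
  have hs : P + Q = -2 * δ * (k + δ) := by
    linear_combination hdeg + hδ2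
  have hprod : P * Q = (k + δ) ^ 2 := by
    have h1 : (1 : ℚ) / P + 1 / Q = -2 * δ / (k + δ) := by
      have h2 : (2 * (k : ℚ) ^ 2) / κ = 2 * (k : ℚ) ^ 2 / ((2 * k + δ) * (k + δ)) := by
        rw [hκ]; push_cast; ring
      rw [h2] at hq
      push_cast at hq
      have h3 : (1 : ℚ) / P + 1 / Q = 2 * (k : ℚ) ^ 2 / ((2 * k + δ) * (k + δ)) - 1 -
          δ * (δ ^ 2 / (2 * k + δ)) := by
        rw [← hq]; ring
      rw [h3, hδq]
      exact aux1 k δ (by rcases hδ with e | e <;> rw [e] <;> norm_num) k0' f0'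
    have h4 : ((P : ℚ) + Q) * (k + δ) = -2 * δ * (P * Q) := by
      field_simp at h1
      linear_combination h1
    have h5 : (P + Q) * (k + δ) = -2 * δ * (P * Q) := by exact_mod_cast h4
    rw [hs] at h5
    have h6 : (-2 * δ) * (P * Q) = (-2 * δ) * ((k + δ) ^ 2) := by linear_combination -h5
    exact mul_left_cancel₀ (by omega) h6
  have hPQ : (P - Q) ^ 2 = 0 := by
    have : (P - Q) ^ 2 = (P + Q) ^ 2 - 4 * (P * Q) := by ring
    rw [this, hs, hprod]
    linear_combination (4 * (k + δ) ^ 2) * hδ2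
  have hPQ' : P = Q := by
    have := pow_eq_zero_iff (two_ne_zero) |>.1 hPQ
    linarith
  have hPv : P = -δ * (k + δ) := by linarith
  rw [hP] at hPv
  refine ⟨?_, ?_, zx, Bx⟩
  · rcases hρv x with e | e | e <;> rcases hδ with e' | e' <;>
      first
      | exact absurd e hv
      | (rw [e, e']; done)
      | (rw [e, e']; norm_num; done)
      | (rw [e, e'] at hPv; rw [e'] at hkδ; exfalso; linarith)
  · rcases hρv x with e | e | e <;> rcases hδ with e' | e' <;>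
      first
      | exact absurd e hv
      | (rw [e, e'] at hPv; rw [e'] at hkδ ⊢; linarith)

theorem out : ∃ δ θ, Out r D τ k κ x0 δ θ := by
  obtain ⟨θ, δ, hδ, hθ, hf, hκ⟩ := exists_theta h
  have hk := h.kpos
  have hkδ : 0 < k + δ := by rcases hδ with e | e <;> omega
  have hfδ : 0 < 2 * k + δ := by rcases hδ with e | e <;> omega
  have hδ2 : δ ^ 2 = 1 := by rcases hδ with e | e <;> rw [e] <;> rfl
  have k0' : ((k : ℚ) + δ) ≠ 0 := by exact_mod_cast hkδ.ne'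
  have f0' : (2 * (k : ℚ) + δ) ≠ 0 := by exact_mod_cast hfδ.ne'
  have hδq : (δ : ℚ) ^ 2 = 1 := by exact_mod_cast hδ2
  have hθ0 := theta_ne h hδ hθ
  refine ⟨δ, θ, hδ, hf, r_theta h hδ hθ, hθ0, hκ, ?_⟩
  intro x
  have hcard : (Fintype.card A : ℚ) = k - 1 := by exact_mod_cast h.card
  by_cases e0 : x = x0
  · subst e0
    rw [if_pos rfl, if_neg (Ne.symm hθ0), h.B_x0, h.D0]
    simp only [h.r0]
    simp only [Int.cast_one, Finset.sum_const, Finset.card_univ, nsmul_eq_mul, mul_one]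
    rw [hcard]; ring
  by_cases e1 : x = θ
  · subst e1
    rw [if_neg e0, if_pos rfl, B_theta h hδ hθ, hf]
    simp only [r_theta h hδ hθ]
    simp only [Finset.sum_const, Finset.card_univ, nsmul_eq_mul]
    rw [hcard, hδq]
    push_cast
    exact aux2 k δ (by rcases hδ with e | e <;> rw [e] <;> norm_num) k0' f0'
  rw [if_neg e0, if_neg e1]
  have hrv : ∀ γ, r γ x = v r x0 γ x := fun γ => (v_ne e0 γ).symm
  by_cases e2 : ∃ α, α ≠ ρ ∧ v r x0 α x ≠ 0
  · obtain ⟨α, hα, hx⟩ := e2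
    obtain ⟨χ, hp, hz, hB⟩ := pair_theta h hδ hθ hα
    have hxχ : x = χ := by
      by_contra hne
      exact hx (hp.2.2.2.2 x e1 hne)
    subst hxχ
    have hsumr : ∑ γ, r γ x = -2 * δ := by
      rw [sum_two (fun γ => r γ x) (h.bar_ne α hα).symm]
      · rw [h.r_bar, hrv, hp.2.2.2.1]; ring
      · intro γ q1 q2; rw [hrv, hz γ q1 q2]
    have hsumr' : ∑ γ, (r γ x : ℚ) = -2 * δ := by exact_mod_cast hsumr
    rw [hsumr', hB, Pair.D_eq h hp, hf]
    have hτ : (τ α : ℚ) ^ 2 = 1 := by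
      rcases h.τ_sq α with e | e <;> rw [e] <;> norm_num
    push_cast
    have h3 : (2 * (δ : ℚ) * τ α) ^ 2 = 4 := by
      rw [mul_pow, mul_pow, hτ, hδq]; norm_num
    rw [h3]
    exact aux3 k δ (by rcases hδ with e | e <;> rw [e] <;> norm_num) k0'
  · push Not at e2
    by_cases e3 : v r x0 ρ x = 0
    · have hall : ∀ γ, r γ x = 0 := by
        intro γ
        rw [hrv]
        by_cases hγ : γ = ρ
        · rw [hγ]; exact e3
        · exact e2 γ hγ
      have hB : B r τ x = 0 := by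
        unfold B; simp [hall]
      rw [hB]
      simp [hall]
    · obtain ⟨q1, q2, q3, q4⟩ := rho_row h hδ hθ hf hκ e1 e3
      have hsumr : ∑ γ, r γ x = -δ := by
        rw [Finset.sum_eq_single ρ]
        · rw [hrv, q1]
        · intro γ _ hγ; rw [hrv, q3 γ hγ]
        · intro h0; exact absurd (Finset.mem_univ _) h0
      have hsumr' : ∑ γ, (r γ x : ℚ) = -δ := by exact_mod_cast hsumr
      have q4' : (B r τ x : ℚ) ^ 2 = 1 := by exact_mod_cast q4
      rw [hsumr', q4', q2]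
      push_cast
      exact aux4 k δ (by rcases hδ with e | e <;> rw [e] <;> norm_num) k0'

end Hyp

end Cfsg.Agent.H55.BswMat
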