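import Mathlib
import Cfsg.Agent.CharBase.Central
import Cfsg.Agent.Char.Linear
import Cfsg.Agent.H78.NormalInd
import Cfsg.Agent.H55.FourMat

set_option autoImplicit false
set_option linter.style.haveILetI false
set_option linter.unusedSectionVars false

/-!
# Characters of groups with a self-centralising (up to odd order) Klein four Sylow subgroup
-/

namespace Cfsg.Agent.H55.FourChar

open scoped ComplexConjugate BigOperators
open Cfsg Cfsg.Agent.CharBase

universe u

section General

variable {G : Type u} [Group G]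

/-- the homomorphism from the group of order two given by an involution -/
def invHom (s : G) (hs : s * s = 1) : Multiplicative (ZMod 2) →* G where
  toFun a := if a = 1 then 1 else s
  map_one' := if_pos rfl
  map_mul' := by
    have key : ∀ a : Multiplicative (ZMod 2), a = 1 ∨ a = Multiplicative.ofAdd 1 := by decide
    have k1 : ¬ (Multiplicative.ofAdd (1 : ZMod 2) = 1) := by decide
    have k2 : Multiplicative.ofAdd (1 : ZMod 2) * Multiplicative.ofAdd (1 : ZMod 2) = 1 := by decide
    intro a b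
    rcases key a with rfl | rfl <;> rcases key b with rfl | rfl
    · simp
    · simp
    · simp
    · rw [k2, if_pos rfl, if_neg k1, hs]

theorem invHom_one (s : G) (hs : s * s = 1) : invHom s hs 1 = 1 := map_one _

theorem invHom_gen (s : G) (hs : s * s = 1) : invHom s hs (Multiplicative.ofAdd 1) = s := by
  have k1 : ¬ (Multiplicative.ofAdd (1 : ZMod 2) = 1) := by decide
  show (if Multiplicative.ofAdd (1 : ZMod 2) = 1 then (1 : G) else s) = s
  rw [if_neg k1]

/-- the shifted restriction `y ↦ χ(s y)` -/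
def R (s : G) (O : Subgroup G) (χ : G → ℂ) : O → ℂ := fun y => χ (s * y)

theorem sum_mul_two {M : Type*} [AddCommMonoid M] (F : Multiplicative (ZMod 2) → M) :
    ∑ a, F a = F 1 + F (Multiplicative.ofAdd 1) := by
  have h1 : (Finset.univ : Finset (Multiplicative (ZMod 2))) = {1, Multiplicative.ofAdd 1} := by
    decide
  have k1 : (1 : Multiplicative (ZMod 2)) ≠ Multiplicative.ofAdd 1 := by decide
  rw [h1, Finset.sum_pair k1]

variable [Fintype G]

theorem exists_int {s : G} (hs : s * s = 1) {O : Subgroup G} [Fintype O]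
    (hc : ∀ y ∈ O, s * y = y * s) {χ : G → ℂ} (hχ : IsCharacter G χ) {η : O → ℂ}
    (hη : IsCharacter O η) : ∃ z : ℤ, classInner (R s O χ) η = z := by
  classical
  have comm : ∀ (m : Multiplicative (ZMod 2)) (n : O), Commute (invHom s hs m) (O.subtype n) := by
    intro m n
    show (if m = 1 then (1 : G) else s) * n = n * (if m = 1 then (1 : G) else s)
    split_ifs
    · simp
    · exact hc n n.2
  let f : Multiplicative (ZMod 2) × O →* G := MonoidHom.noncommCoprod (invHom s hs) O.subtype comm
  obtain ⟨n, hn⟩ := classInner_natCast (G := Multiplicative (ZMod 2) × O) (isCharacter_comp hχ f)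
    (isCharacter_comp hη (MonoidHom.snd (Multiplicative (ZMod 2)) O))
  obtain ⟨m, hm⟩ := classInner_natCast (isCharacter_restrict hχ O) hη
  refine ⟨2 * n - m, ?_⟩
  have hcard : (Nat.card (Multiplicative (ZMod 2) × O) : ℂ) = 2 * (Nat.card O : ℂ) := by
    rw [Nat.card_prod]
    have : Nat.card (Multiplicative (ZMod 2)) = 2 := by
      rw [Nat.card_eq_fintype_card]; rfl
    rw [this]; push_cast; ring
  have h0 : (Nat.card O : ℂ) ≠ 0 := by exact_mod_cast Nat.card_pos.ne'
  unfold classInner at hn hm ⊢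
  rw [hcard, Fintype.sum_prod_type, sum_mul_two] at hn
  have e1 : ∀ y : O, f (1, y) = y := by
    intro y
    show invHom s hs 1 * (y : G) = y
    rw [map_one, one_mul]
  have e2 : ∀ y : O, f (Multiplicative.ofAdd 1, y) = s * y := by
    intro y
    show invHom s hs (Multiplicative.ofAdd 1) * (y : G) = s * y
    rw [invHom_gen]
  simp only [MonoidHom.coe_snd, Function.comp_apply, e1, e2] at hn
  have e3 : ∑ x : O, R s O χ x * conj (η x) =
      2 * (Nat.card O : ℂ) * n - (Nat.card O : ℂ) * m := by
    rw [← hn, ← hm]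
    field_simp
    unfold R
    ring
  rw [e3]
  field_simp
  push_cast
  ring

theorem R_classFunction {s : G} {O : Subgroup G} (hc : ∀ y ∈ O, s * y = y * s) {χ : G → ℂ}
    (hχ : IsClassFunction G χ) : IsClassFunction O (R s O χ) := by
  intro y c
  unfold R
  have : s * ((c * y * c⁻¹ : O) : G) = c * (s * y) * (c : G)⁻¹ := by
    push_cast
    rw [← mul_assoc, ← mul_assoc, hc c c.2]
    group
  rw [this, hχ]

/-- Second orthogonality as a count. -/
theorem col_count [Fintype (IrrCharacter G)] [DecidableEq G] (g h : G) :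
    ∑ χ : IrrCharacter G, (χ : G → ℂ) g * conj ((χ : G → ℂ) h) =
      ∑ x : G, if x * g * x⁻¹ = h then (1 : ℂ) else 0 := by
  classical
  rw [column_orthogonality]
  split_ifs with hc
  · obtain ⟨c, hc⟩ := isConj_iff.1 hc
    have e1 : ∀ x : G, (if x * g * x⁻¹ = h then (1 : ℂ) else 0) =
        if c⁻¹ * x ∈ Subgroup.centralizer ({g} : Set G) then 1 else 0 := by
      intro x
      have : (x * g * x⁻¹ = h) ↔ c⁻¹ * x ∈ Subgroup.centralizer ({g} : Set G) := by
        rw [Subgroup.mem_centralizer_singleton_iff, ← hc]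
        constructor
        · intro h1
          calc c⁻¹ * x * g = c⁻¹ * (x * g * x⁻¹) * x := by group
            _ = g * (c⁻¹ * x) := by rw [h1]; group
        · intro h1
          calc x * g * x⁻¹ = c * (c⁻¹ * x * g) * x⁻¹ := by group
            _ = c * g * c⁻¹ := by rw [h1]; group
      by_cases h2 : x * g * x⁻¹ = h
      · rw [if_pos h2, if_pos (this.1 h2)]
      · rw [if_neg h2, if_neg (fun h3 => h2 (this.2 h3))]
    rw [Finset.sum_congr rfl (fun x _ => e1 x)]
    rw [← Equiv.sum_comp (Equiv.mulLeft c)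
      (fun x => if c⁻¹ * x ∈ Subgroup.centralizer ({g} : Set G) then (1 : ℂ) else 0)]
    simp only [Equiv.coe_mulLeft, inv_mul_cancel_left]
    rw [Finset.sum_boole, Nat.card_eq_fintype_card, Fintype.card_subtype]
  · symm
    apply Finset.sum_eq_zero
    intro x _
    rw [if_neg]
    intro h1
    exact hc (isConj_iff.2 ⟨x, h1⟩)

end General

/-- The group-theoretic data. -/
structure KData {G : Type u} [Group G] [Fintype G] [DecidableEq G] (s : G) (O : Subgroup G) :
    Prop where
  s1 : s ≠ 1
  s2 : s * s = 1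
  odd : Odd (Nat.card O)
  comm : ∀ y ∈ O, s * y = y * s
  cen : ∀ x : G, ∀ y ∈ O, ∀ y' ∈ O, x * (s * y) * x⁻¹ = s * y' → x * s = s * x
  norm : ∀ x : G, x * s = s * x → ∀ y ∈ O, ∃ c ∈ O, x * y * x⁻¹ = c * y * c⁻¹
  card : Nat.card (Subgroup.centralizer ({s} : Set G)) = 4 * Nat.card O
  pairs : ∀ y ∈ O, (∑ x : G, ∑ g : G, if g * (s * (x * s * x⁻¹)) * g⁻¹ = s * y then (1 : ℂ) else 0)
    = if y = 1 then 2 * (Nat.card (Subgroup.centralizer ({s} : Set G)) : ℂ) ^ 2 else 0
  index_odd : Odd (Subgroup.centralizer ({s} : Set G)).index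
  lin : ∀ χ : IrrCharacter G, (χ : G → ℂ) 1 = 1 → (χ : G → ℂ) = fun _ => 1

namespace KData

variable {G : Type u} [Group G] [Fintype G] [DecidableEq G] {s : G} {O : Subgroup G} [Fintype O]
  [Fintype (IrrCharacter G)] (h : KData s O)

include h

/-- Row orthogonality. -/
theorem row (φ ψ : O → ℂ) (hψ : IsClassFunction O ψ) :
    ∑ χ : IrrCharacter G, classInner (R s O χ) φ * conj (classInner (R s O χ) ψ) =
      4 * classInner ψ φ := by
  classical
  have h0 : (Nat.card O : ℂ) ≠ 0 := by exact_mod_cast Nat.card_pos.ne'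
  have e1 : ∀ χ : IrrCharacter G, classInner (R s O χ) φ * conj (classInner (R s O χ) ψ) =
      (Nat.card O : ℂ)⁻¹ ^ 2 * ∑ y : O, ∑ y' : O, conj (φ y) * ψ y' *
        ((χ : G → ℂ) (s * y) * conj ((χ : G → ℂ) (s * y'))) := by
    intro χ
    unfold classInner
    rw [map_mul, map_sum, map_inv₀, Complex.conj_natCast]
    have : ∀ S T : ℂ, (Nat.card O : ℂ)⁻¹ * S * ((Nat.card O : ℂ)⁻¹ * T) =
      (Nat.card O : ℂ)⁻¹ ^ 2 * (S * T) := by intro S T; ring
    rw [this, Finset.sum_mul_sum]
    congr 1
    refine Finset.sum_congr rfl (fun y _ => Finset.sum_congr rfl (fun y' _ => ?_))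
    rw [map_mul, Complex.conj_conj]
    unfold R
    ring
  rw [Finset.sum_congr rfl (fun χ _ => e1 χ), ← Finset.mul_sum, Finset.sum_comm]
  have e2 : ∀ y : O, ∑ χ : IrrCharacter G, ∑ y' : O, conj (φ y) * ψ y' *
        ((χ : G → ℂ) (s * y) * conj ((χ : G → ℂ) (s * y'))) =
      (4 * (Nat.card O : ℂ)) * (ψ y * conj (φ y)) := by
    intro y
    rw [Finset.sum_comm]
    have e3 : ∀ y' : O, ∑ χ : IrrCharacter G, conj (φ y) * ψ y' *
        ((χ : G → ℂ) (s * y) * conj ((χ : G → ℂ) (s * y'))) =
        ∑ x : G, conj (φ y) * (ψ y' * if x * (s * y) * x⁻¹ = s * y' then (1 : ℂ) else 0) := by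
      intro y'
      rw [← Finset.mul_sum, col_count, Finset.mul_sum]
      refine Finset.sum_congr rfl (fun x _ => by ring)
    rw [Finset.sum_congr rfl (fun y' _ => e3 y'), Finset.sum_comm]
    have e4 : ∀ x : G, ∑ y' : O, conj (φ y) * (ψ y' * if x * (s * y) * x⁻¹ = s * y' then (1 : ℂ) else 0)
        = conj (φ y) * (ψ y * if x ∈ Subgroup.centralizer ({s} : Set G) then (1 : ℂ) else 0) := by
      intro x
      rw [← Finset.mul_sum]
      congr 1
      by_cases hx : x ∈ Subgroup.centralizer ({s} : Set G)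
      · rw [if_pos hx, mul_one]
        have hx' := Subgroup.mem_centralizer_singleton_iff.1 hx
        obtain ⟨c, hc, hcy⟩ := h.norm x hx' y y.2
        rw [Finset.sum_eq_single (⟨c, hc⟩ * y * ⟨c, hc⟩⁻¹ : O)]
        · rw [if_pos, mul_one, hψ]
          push_cast
          rw [← hcy]
          calc x * (s * y) * x⁻¹ = (x * s) * y * x⁻¹ := by group
            _ = s * (x * y * x⁻¹) := by rw [hx']; group
        · intro y' _ hy'
          rw [if_neg, mul_zero]
          intro h1
          apply hy'
          apply Subtype.ext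
          push_cast
          rw [← hcy]
          have h2 : x * (s * y) * x⁻¹ = s * (x * y * x⁻¹) := by
            calc x * (s * y) * x⁻¹ = (x * s) * y * x⁻¹ := by group
              _ = s * (x * y * x⁻¹) := by rw [hx']; group
          rw [h2] at h1
          exact (mul_left_cancel h1).symm
        · intro h1; exact absurd (Finset.mem_univ _) h1
      · rw [if_neg hx, mul_zero]
        apply Finset.sum_eq_zero
        intro y' _
        rw [if_neg, mul_zero]
        intro h1
        exact hx (Subgroup.mem_centralizer_singleton_iff.2 (h.cen x y y.2 y' y'.2 h1))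
    rw [Finset.sum_congr rfl (fun x _ => e4 x), ← Finset.mul_sum, ← Finset.mul_sum,
      Finset.sum_boole]
    have e5 : ((Finset.univ.filter (fun x => x ∈ Subgroup.centralizer ({s} : Set G))).card : ℂ) =
        4 * (Nat.card O : ℂ) := by
      rw [← Fintype.card_subtype, ← Nat.card_eq_fintype_card]
      exact_mod_cast h.card
    rw [e5]; ring
  rw [Finset.sum_congr rfl (fun y _ => e2 y), ← Finset.mul_sum]
  unfold classInner
  field_simp

theorem deg (φ : O → ℂ) :
    ∑ χ : IrrCharacter G, classInner (R s O χ) φ * conj ((χ : G → ℂ) 1) = 0 := by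
  classical
  have e1 : ∀ χ : IrrCharacter G, classInner (R s O χ) φ * conj ((χ : G → ℂ) 1) =
      (Nat.card O : ℂ)⁻¹ * ∑ y : O, conj (φ y) *
        ((χ : G → ℂ) (s * y) * conj ((χ : G → ℂ) 1)) := by
    intro χ
    unfold classInner
    rw [mul_assoc, Finset.sum_mul]
    congr 1
    refine Finset.sum_congr rfl (fun y _ => ?_)
    unfold R; ring
  rw [Finset.sum_congr rfl (fun χ _ => e1 χ), ← Finset.mul_sum, Finset.sum_comm]
  rw [Finset.sum_eq_zero, mul_zero]
  intro y _
  rw [← Finset.mul_sum, column_orthogonality_of_not_isConj, mul_zero]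
  intro hc
  have h1 := isConj_one_left.1 hc
  -- `s y = 1`
  have h2 : (y : G) = s := by
    have := congrArg (fun z => s * z) h1
    simp only [← mul_assoc, h.s2, one_mul, mul_one] at this
    exact this
  have h3 : orderOf (y : G) ∣ Nat.card O := Subgroup.orderOf_dvd_natCard O y.2
  have h4 : orderOf s = 2 := orderOf_eq_prime (by rw [sq]; exact h.s2) h.s1
  rw [h2, h4] at h3
  have := h.odd
  rw [← Nat.not_even_iff_odd, even_iff_two_dvd] at this
  exact this h3

theorem quad (φ : O → ℂ) :
    ((Subgroup.centralizer ({s} : Set G)).index : ℂ) *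
      ∑ χ : IrrCharacter G, ((χ : G → ℂ) s ^ 2 / (χ : G → ℂ) 1) * conj (classInner (R s O χ) φ) =
      8 * φ 1 := by
  classical
  have h0 : (Nat.card O : ℂ) ≠ 0 := by exact_mod_cast Nat.card_pos.ne'
  have hG : (Nat.card G : ℂ) = 4 * (Nat.card O : ℂ) *
      ((Subgroup.centralizer ({s} : Set G)).index : ℂ) := by
    have := (Subgroup.centralizer ({s} : Set G)).card_mul_index
    rw [h.card] at this
    exact_mod_cast this.symm
  have e1 : ∀ χ : IrrCharacter G, (Nat.card G : ℂ) * (((χ : G → ℂ) s ^ 2 / (χ : G → ℂ) 1) *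
      conj (classInner (R s O χ) φ)) =
      (Nat.card O : ℂ)⁻¹ * ∑ y : O, φ y * ∑ x : G, 
        ((χ : G → ℂ) (s * (x * s * x⁻¹)) * conj ((χ : G → ℂ) (s * y))) := by
    intro χ
    have h1 := sum_conj_mul χ.2 s s
    unfold classInner
    rw [map_mul, map_sum, map_inv₀, Complex.conj_natCast]
    have e2 : ∀ y : O, ∑ x : G, ((χ : G → ℂ) (s * (x * s * x⁻¹)) * conj ((χ : G → ℂ) (s * y))) =
        ((Nat.card G : ℂ) * (χ : G → ℂ) s * (χ : G → ℂ) s / (χ : G → ℂ) 1) *
          conj ((χ : G → ℂ) (s * y)) := by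
      intro y
      rw [← Finset.sum_mul, h1]
    simp only [e2]
    have e3 : ∀ y : O, conj (R s O χ y * conj (φ y)) = conj ((χ : G → ℂ) (s * y)) * φ y := by
      intro y; rw [map_mul, Complex.conj_conj]; rfl
    simp only [e3]
    have e4 : ∀ y : O, φ y * ((Nat.card G : ℂ) * (χ : G → ℂ) s * (χ : G → ℂ) s / (χ : G → ℂ) 1 *
        conj ((χ : G → ℂ) (s * y))) = ((Nat.card G : ℂ) * (χ : G → ℂ) s * (χ : G → ℂ) s /
          (χ : G → ℂ) 1) * (conj ((χ : G → ℂ) (s * y)) * φ y) := by
      intro y; ring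
    simp only [e4]
    rw [← Finset.mul_sum]
    ring
  have e5 : (Nat.card G : ℂ) * ∑ χ : IrrCharacter G, ((χ : G → ℂ) s ^ 2 / (χ : G → ℂ) 1) *
      conj (classInner (R s O χ) φ) = (Nat.card O : ℂ)⁻¹ * (φ 1 *
        (2 * (Nat.card (Subgroup.centralizer ({s} : Set G)) : ℂ) ^ 2)) := by
    rw [Finset.mul_sum, Finset.sum_congr rfl (fun χ _ => e1 χ), ← Finset.mul_sum, Finset.sum_comm]
    congr 1
    have e6 : ∀ y : O, ∑ χ : IrrCharacter G, φ y * ∑ x : G,
        ((χ : G → ℂ) (s * (x * s * x⁻¹)) * conj ((χ : G → ℂ) (s * y))) =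
        φ y * if (y : G) = 1 then 2 * (Nat.card (Subgroup.centralizer ({s} : Set G)) : ℂ) ^ 2
          else 0 := by
      intro y
      rw [← Finset.mul_sum, Finset.sum_comm, ← h.pairs y y.2]
      congr 1
      refine Finset.sum_congr rfl (fun x _ => ?_)
      rw [col_count]
    rw [Finset.sum_congr rfl (fun y _ => e6 y), Finset.sum_eq_single (1 : O)]
    · rw [if_pos (OneMemClass.coe_one O)]
    · intro y _ hy
      rw [if_neg, mul_zero]
      intro h1; exact hy (Subtype.ext h1)
    · intro h1; exact absurd (Finset.mem_univ _) h1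
  rw [hG, h.card] at e5
  push_cast at e5
  have h1 : (4 * (Nat.card O : ℂ)) * (((Subgroup.centralizer ({s} : Set G)).index : ℂ) *
      ∑ χ : IrrCharacter G, ((χ : G → ℂ) s ^ 2 / (χ : G → ℂ) 1) *
        conj (classInner (R s O χ) φ)) = (4 * (Nat.card O : ℂ)) * (8 * φ 1) := by
    rw [← mul_assoc, e5]
    field_simp
    ring
  exact mul_left_cancel₀ (mul_ne_zero (by norm_num) h0) h1

omit [Fintype (IrrCharacter G)] in
/-- entries of the matrix -/
theorem exists_a (η : IrrCharacter O) (χ : IrrCharacter G) :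
    ∃ z : ℤ, classInner (R s O χ) (η : O → ℂ) = z :=
  exists_int h.s2 h.comm (irr_isCharacter χ) (irr_isCharacter η)

end KData

section Matrix

variable {G : Type u} [Group G] [Fintype G]

/-- complex conjugation on irreducible characters -/
noncomputable def bar (χ : IrrCharacter G) : IrrCharacter G :=
  ⟨fun g => conj ((χ : G → ℂ) g), isIrrCharacter_conj χ.2⟩

theorem bar_bar (χ : IrrCharacter G) : bar (bar χ) = χ := by
  apply Subtype.ext
  funext g
  show conj (conj ((χ : G → ℂ) g)) = _
  rw [Complex.conj_conj]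

theorem classInner_bar {H : Type u} [Group H] [Fintype H] (φ ψ : H → ℂ) :
    classInner (fun g => conj (φ g)) (fun g => conj (ψ g)) = conj (classInner φ ψ) := by
  unfold classInner
  rw [map_mul, map_sum, map_inv₀, Complex.conj_natCast]
  congr 1
  refine Finset.sum_congr rfl (fun g _ => ?_)
  rw [map_mul]

theorem exists_deg (χ : IrrCharacter G) : ∃ n : ℕ, (χ : G → ℂ) 1 = n :=
  exists_nat_degree (irr_isCharacter χ)

/-- degree -/
noncomputable def degI (χ : IrrCharacter G) : ℤ := ((exists_deg χ).choose : ℤ)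

theorem degI_spec (χ : IrrCharacter G) : (χ : G → ℂ) 1 = (degI χ : ℂ) := by
  rw [(exists_deg χ).choose_spec]; unfold degI; push_cast; rfl

theorem degI_pos (χ : IrrCharacter G) : 0 < degI χ := by
  have h1 := irr_one_ne_zero χ.2
  rw [degI_spec] at h1
  have h2 : degI χ ≠ 0 := by
    intro h; rw [h] at h1; simp at h1
  have h3 : 0 ≤ degI χ := Int.natCast_nonneg _
  omega

theorem degI_bar (χ : IrrCharacter G) : degI (bar χ) = degI χ := by
  have h1 : ((bar χ : IrrCharacter G) : G → ℂ) 1 = conj ((χ : G → ℂ) 1) := rfl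
  rw [degI_spec, degI_spec] at h1
  have : (degI (bar χ) : ℂ) = (degI χ : ℂ) := by rw [h1]; simp
  exact_mod_cast this

end Matrix

namespace KData

variable {G : Type u} [Group G] [Fintype G] [DecidableEq G] {s : G} {O : Subgroup G} [Fintype O]
  (h : KData s O)

/-- the matrix -/
noncomputable def aI (η : IrrCharacter O) (χ : IrrCharacter G) : ℤ := (h.exists_a η χ).choose

theorem aI_spec (η : IrrCharacter O) (χ : IrrCharacter G) :
    classInner (R s O χ) (η : O → ℂ) = (h.aI η χ : ℂ) := (h.exists_a η χ).choose_spec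

include h in
theorem bar_ne (η : IrrCharacter O) (hη : η ≠ oneIrr O) : bar η ≠ η := by
  intro hb
  apply hη
  apply Subtype.ext
  have := Cfsg.Agent.H78.eq_one_of_real_of_odd (G := O) h.odd η η.2 (fun g => by
    have := congrArg (fun χ : IrrCharacter O => (χ : O → ℂ) g) hb
    exact this)
  rw [this]; rfl

include h in
theorem hyp [Fintype (IrrCharacter G)] [Fintype (IrrCharacter O)] [DecidableEq (IrrCharacter G)]
    [DecidableEq (IrrCharacter O)] :
    FourMat.Hyp h.aI degI degI ((Subgroup.centralizer ({s} : Set G)).index : ℤ)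
      (oneIrr G) (oneIrr O) bar bar := by
  classical
  have hB : ∀ χ : IrrCharacter G, (χ : G → ℂ) s = (FourMat.B h.aI degI χ : ℂ) := by
    intro χ
    have h1 := classFun_apply_eq_sum (R_classFunction h.comm (irr_isClassFunction χ)) (1 : O)
    have h2 : R s O χ 1 = (χ : G → ℂ) s := by
      unfold R; rw [OneMemClass.coe_one, mul_one]
    rw [h2] at h1
    rw [h1]
    unfold FourMat.B
    push_cast
    refine Finset.sum_congr rfl (fun η _ => ?_)
    rw [h.aI_spec, degI_spec]
  have hconjZ : ∀ z : ℤ, conj (z : ℂ) = (z : ℂ) := fun z => map_intCast (starRingEnd ℂ) z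
  have hκ : 0 < (Subgroup.centralizer ({s} : Set G)).index :=
    Nat.pos_of_ne_zero Subgroup.index_ne_zero_of_finite
  refine ⟨bar_bar, bar_bar, ?_, h.bar_ne, ?_, ?_, ?_, ?_, degI_pos, degI_bar, degI_bar, degI_pos,
    ?_, ?_, ?_, by exact_mod_cast hκ, ?_, ?_, ?_, ?_⟩
  · -- a_bar
    intro η χ
    have h1 := h.aI_spec (bar η) (bar χ)
    have h2 : classInner (R s O (bar χ : IrrCharacter G)) ((bar η : IrrCharacter O) : O → ℂ) =
        conj (classInner (R s O χ) (η : O → ℂ)) := classInner_bar (R s O χ) (η : O → ℂ)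
    rw [h1, h.aI_spec, hconjZ] at h2
    exact_mod_cast h2
  · apply Subtype.ext; funext g
    show conj (1 : ℂ) = 1
    exact map_one _
  · apply Subtype.ext; funext g
    show conj (1 : ℂ) = 1
    exact map_one _
  · -- ortho
    intro η η'
    have h1 := h.row (η : O → ℂ) (η' : O → ℂ) (irr_isClassFunction η')
    simp only [h.aI_spec, hconjZ] at h1
    rw [classInner_irr] at h1
    have h2 : (∑ χ : IrrCharacter G, (h.aI η χ : ℂ) * (h.aI η' χ : ℂ)) =
        ((if η = η' then (4 : ℤ) else 0 : ℤ) : ℂ) := by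
      rw [h1]
      by_cases he : η = η'
      · rw [if_pos he, if_pos he.symm]; push_cast; ring
      · rw [if_neg he, if_neg (Ne.symm he)]; push_cast; ring
    exact_mod_cast h2
  · -- deg
    intro η
    have h1 := h.deg (η : O → ℂ)
    simp only [h.aI_spec, degI_spec, hconjZ] at h1
    exact_mod_cast h1
  · -- n0
    have h1 := degI_spec (oneIrr O)
    have h2 : ((oneIrr O : IrrCharacter O) : O → ℂ) 1 = 1 := rfl
    rw [h2] at h1
    exact_mod_cast h1.symm
  · have h1 := degI_spec (oneIrr G)
    have h2 : ((oneIrr G : IrrCharacter G) : G → ℂ) 1 = 1 := rfl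
    rw [h2] at h1
    exact_mod_cast h1.symm
  · -- a0
    intro η
    have h1 := h.aI_spec η (oneIrr G)
    have h2 : R s O ((oneIrr G : IrrCharacter G) : G → ℂ) = ((oneIrr O : IrrCharacter O) : O → ℂ) := by
      funext y; rfl
    rw [h2, classInner_irr] at h1
    by_cases he : η = oneIrr O
    · rw [if_pos he.symm] at h1
      rw [if_pos he]
      exact_mod_cast h1.symm
    · rw [if_neg (Ne.symm he)] at h1
      rw [if_neg he]
      exact_mod_cast h1.symm
  · -- κ odd
    obtain ⟨k, hk⟩ := h.index_odd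
    rw [hk]; push_cast; omega
  · -- quad
    intro η
    have h1 := h.quad (η : O → ℂ)
    simp only [h.aI_spec, degI_spec, hconjZ, hB] at h1
    have h2 : (((((Subgroup.centralizer ({s} : Set G)).index : ℤ) : ℚ) *
        ∑ χ : IrrCharacter G, (h.aI η χ : ℚ) * ((FourMat.B h.aI degI χ : ℚ) ^ 2 / (degI χ : ℚ)) : ℚ) : ℂ)
        = ((8 * (degI η : ℚ) : ℚ) : ℂ) := by
      push_cast
      rw [← h1]
      congr 1
      exact Finset.sum_congr rfl (fun χ _ => mul_comm _ _)
    exact_mod_cast h2
  · -- dvd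
    intro χ
    have h1 := isIntegral_centralChar χ.2 s
    rw [hB, degI_spec] at h1
    have hD : (degI χ : ℚ) ≠ 0 := by exact_mod_cast (degI_pos χ).ne'
    have h2 : IsIntegral ℤ ((((Subgroup.centralizer ({s} : Set G)).index : ℤ) : ℚ) *
        (FourMat.B h.aI degI χ : ℚ) / (degI χ : ℚ)) := by
      rw [← isIntegral_algebraMap_iff (B := ℂ) (algebraMap ℚ ℂ).injective]
      convert h1 using 1
      push_cast
      simp
    obtain ⟨z, hz⟩ := IsIntegrallyClosed.isIntegral_iff.1 h2
    refine ⟨z, ?_⟩
    have h3 : (((Subgroup.centralizer ({s} : Set G)).index : ℤ) : ℚ) *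
        (FourMat.B h.aI degI χ : ℚ) = (degI χ : ℚ) * (z : ℚ) := by
      have h4 : ((z : ℤ) : ℚ) = (((Subgroup.centralizer ({s} : Set G)).index : ℤ) : ℚ) *
        (FourMat.B h.aI degI χ : ℚ) / (degI χ : ℚ) := hz
      rw [h4]
      field_simp
    exact_mod_cast h3
  · -- linear characters
    intro χ hχ
    have h1 := degI_pos χ
    by_contra hcon
    have h2 : degI χ = 1 := by omega
    apply hχ
    apply Subtype.ext
    rw [h.lin χ (by rw [degI_spec, h2]; norm_num)]
    rfl

include h in
/-- **Conclusion**: there are exactly 15 involutions conjugate to `s`. -/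
theorem index_eq : (Subgroup.centralizer ({s} : Set G)).index = 15 := by
  classical
  haveI : Fintype (IrrCharacter G) := Fintype.ofFinite _
  haveI : Fintype (IrrCharacter O) := Fintype.ofFinite _
  have := h.hyp.kappa_eq
  exact_mod_cast this

end KData

end Cfsg.Agent.H55.FourChar
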