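import Mathlib
import Cfsg.Agent.H55.FourChar
import Cfsg.Agent.H55.BswMat
import Cfsg.Agent.Char.BrauerInduction
import Cfsg.Agent.S0160

set_option autoImplicit false
set_option linter.style.haveILetI false
set_option linter.unusedSectionVars false

/-!
# Characters in the Brauer–Suzuki–Wall situation
-/

namespace Cfsg.Agent.H55.BswChar

open scoped ComplexConjugate BigOperators
open Cfsg Cfsg.Agent.CharBase Cfsg.Agent.H55.FourChar

universe u

/-- The group-theoretic data. -/
structure KData {G : Type u} [Group G] [Fintype G] [DecidableEq G] (t : G) (K : Subgroup G) :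
    Prop where
  t1 : t ≠ 1
  t2 : t * t = 1
  tK : t ∈ K
  ab : ∀ x ∈ K, ∀ y ∈ K, x * y = y * x
  uniq : ∀ x ∈ K, x * x = 1 → x = 1 ∨ x = t
  card : Nat.card (Subgroup.centralizer ({t} : Set G)) = 2 * Nat.card K
  KH : K ≤ Subgroup.centralizer ({t} : Set G)
  ti : ∀ x ∈ K, x ≠ 1 → ∀ g : G, g * x * g⁻¹ ∈ K → g ∈ Subgroup.centralizer ({t} : Set G)
  act : ∀ g ∈ Subgroup.centralizer ({t} : Set G), g ∉ K → ∀ x ∈ K, g * x * g⁻¹ = x⁻¹
  outer : ∀ g ∈ Subgroup.centralizer ({t} : Set G), g ∉ K → IsConj g t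
  pairs : ∀ x ∈ K, x ≠ 1 →
    (∑ a : G, ∑ g : G, if g * (t * (a * t * a⁻¹)) * g⁻¹ = x then (1 : ℂ) else 0)
    = (Nat.card K : ℂ) * (Nat.card (Subgroup.centralizer ({t} : Set G)) : ℂ) ^ 2
  index_odd : Odd (Subgroup.centralizer ({t} : Set G)).index

namespace KData

variable {G : Type u} [Group G] [Fintype G] [DecidableEq G] {t : G} {K : Subgroup G} [Fintype K]
  (h : KData t K)

/-- restriction -/
def res (K : Subgroup G) (χ : G → ℂ) : K → ℂ := fun y => χ y

/-- the test functions `1 - α` -/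
noncomputable def w (α : K → ℂ) : K → ℂ := fun y => 1 - α y

include h

theorem comm (x y : K) : x * y = y * x := Subtype.ext (h.ab x x.2 y y.2)

theorem deg_one (α : IrrCharacter K) : (α : K → ℂ) 1 = 1 :=
  Cfsg.Agent.Char.BI.irr_comm_degree h.comm α.2

theorem mul_irr (α : IrrCharacter K) (x y : K) : (α : K → ℂ) (x * y) = (α : K → ℂ) x * (α : K → ℂ) y :=
  Cfsg.Agent.Char.linChar_mul (irr_isCharacter α) (h.deg_one α) x y

theorem isClassFunction (φ : K → ℂ) : IsClassFunction K φ := by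
  intro g x
  rw [h.comm x g, mul_inv_cancel_right]

theorem card_irr : Nat.card (IrrCharacter K) = Nat.card K := by
  classical
  haveI : Fintype (IrrCharacter K) := Fintype.ofFinite _
  have h1 := sum_sq_degree (G := K)
  simp only [h.deg_one] at h1
  simp only [one_pow, Finset.sum_const, Finset.card_univ, nsmul_eq_mul, mul_one] at h1
  rw [Nat.card_eq_fintype_card (α := IrrCharacter K)]
  exact_mod_cast h1

/-- weighted fusion sum -/
theorem fusion_sum (x : K) (hx : x ≠ 1) (ψ : K → ℂ) :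
    ∑ y : K, ψ y * ∑ g : G, (if g * (x : G) * g⁻¹ = y then (1 : ℂ) else 0) =
      (Nat.card K : ℂ) * (ψ x + ψ x⁻¹) := by
  classical
  have hx' : (x : G) ≠ 1 := fun e => hx (Subtype.ext e)
  have e1 : ∀ y : K, ψ y * ∑ g : G, (if g * (x : G) * g⁻¹ = y then (1 : ℂ) else 0) =
      ∑ g : G, ψ y * (if g * (x : G) * g⁻¹ = y then (1 : ℂ) else 0) := by
    intro y; rw [Finset.mul_sum]
  rw [Finset.sum_congr rfl (fun y _ => e1 y), Finset.sum_comm]
  have e2 : ∀ g : G, ∑ y : K, ψ y * (if g * (x : G) * g⁻¹ = y then (1 : ℂ) else 0) =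
      (if g ∈ K then ψ x else 0) +
      (if g ∈ Subgroup.centralizer ({t} : Set G) ∧ g ∉ K then ψ x⁻¹ else 0) := by
    intro g
    by_cases hg : g ∈ K
    · rw [if_pos hg, if_neg (fun hh => hh.2 hg), add_zero]
      rw [Finset.sum_eq_single x]
      · rw [if_pos, mul_one]
        rw [h.ab g hg x x.2, mul_inv_cancel_right]
      · intro y _ hy
        rw [if_neg, mul_zero]
        intro e
        apply hy
        apply Subtype.ext
        rw [← e, h.ab g hg x x.2, mul_inv_cancel_right]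
      · intro h0; exact absurd (Finset.mem_univ _) h0
    · rw [if_neg hg, zero_add]
      by_cases hgC : g ∈ Subgroup.centralizer ({t} : Set G)
      · rw [if_pos ⟨hgC, hg⟩]
        have e3 := h.act g hgC hg x x.2
        rw [Finset.sum_eq_single x⁻¹]
        · rw [if_pos, mul_one]
          rw [e3]; rfl
        · intro y _ hy
          rw [if_neg, mul_zero]
          intro e
          apply hy
          apply Subtype.ext
          rw [← e, e3]; rfl
        · intro h0; exact absurd (Finset.mem_univ _) h0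
      · rw [if_neg (fun hh => hgC hh.1)]
        apply Finset.sum_eq_zero
        intro y _
        rw [if_neg, mul_zero]
        intro e
        exact hgC (h.ti x x.2 hx' g (by rw [e]; exact y.2))
  rw [Finset.sum_congr rfl (fun g _ => e2 g), Finset.sum_add_distrib, ← Finset.sum_filter,
    ← Finset.sum_filter, Finset.sum_const, Finset.sum_const, nsmul_eq_mul, nsmul_eq_mul]
  have c1 : (Finset.univ.filter (fun g : G => g ∈ K)).card = Nat.card K := by
    rw [← Fintype.card_subtype, ← Nat.card_eq_fintype_card]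
  have c2 : (Finset.univ.filter (fun g : G => g ∈ Subgroup.centralizer ({t} : Set G))).card =
      2 * Nat.card K := by
    rw [← h.card, ← Fintype.card_subtype, ← Nat.card_eq_fintype_card]
  have c3 : (Finset.univ.filter (fun g : G => g ∈ Subgroup.centralizer ({t} : Set G) ∧ g ∉ K)).card =
      Nat.card K := by
    have e4 : Finset.univ.filter (fun g : G => g ∈ Subgroup.centralizer ({t} : Set G) ∧ g ∉ K) =
        (Finset.univ.filter (fun g : G => g ∈ Subgroup.centralizer ({t} : Set G))) \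
          (Finset.univ.filter (fun g : G => g ∈ K)) := by
      ext g; simp
    have e5 : Finset.univ.filter (fun g : G => g ∈ K) ⊆
        Finset.univ.filter (fun g : G => g ∈ Subgroup.centralizer ({t} : Set G)) := by
      intro g hg
      simp only [Finset.mem_filter, Finset.mem_univ, true_and] at hg ⊢
      exact h.KH hg
    rw [e4, Finset.card_sdiff_of_subset e5, c1, c2]
    omega
  rw [c1, c3]
  ring

theorem w_one (α : IrrCharacter K) : w (α : K → ℂ) 1 = 0 := by
  unfold w; rw [h.deg_one, sub_self]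

theorem w_inv (α : IrrCharacter K) (x : K) : w (α : K → ℂ) x⁻¹ = w ((bar α : IrrCharacter K) : K → ℂ) x := by
  unfold w; rw [irr_inv]; rfl

theorem inner_w (α β : IrrCharacter K) (hα : α ≠ oneIrr K) (hβ : β ≠ oneIrr K)
    [DecidableEq (IrrCharacter K)] :
    classInner (w (α : K → ℂ)) (w (β : K → ℂ)) = 1 + if α = β then 1 else 0 := by
  have e : ∀ γ : IrrCharacter K, w (γ : K → ℂ) = ((oneIrr K : IrrCharacter K) : K → ℂ) - (γ : K → ℂ) := by
    intro γ; rfl
  rw [e, e, classInner_sub_left, classInner_sub_right, classInner_sub_right, classInner_irr,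
    classInner_irr, classInner_irr, classInner_irr, if_pos rfl, if_neg hβ.symm, if_neg hα]
  ring

theorem row [Fintype (IrrCharacter G)] [DecidableEq (IrrCharacter K)] (α β : IrrCharacter K)
    (hα : α ≠ oneIrr K) (hβ : β ≠ oneIrr K) :
    ∑ χ : IrrCharacter G, classInner (res K χ) (w (α : K → ℂ)) *
      conj (classInner (res K χ) (w (β : K → ℂ))) =
      2 + (if α = β then 1 else 0) + (if bar α = β then 1 else 0) := by
  classical
  have h0 : (Nat.card K : ℂ) ≠ 0 := by exact_mod_cast Nat.card_pos.ne'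
  have e1 : ∀ χ : IrrCharacter G, classInner (res K χ) (w (α : K → ℂ)) *
      conj (classInner (res K χ) (w (β : K → ℂ))) =
      (Nat.card K : ℂ)⁻¹ ^ 2 * ∑ x : K, ∑ y : K, conj (w (α : K → ℂ) x) * w (β : K → ℂ) y *
        ((χ : G → ℂ) x * conj ((χ : G → ℂ) y)) := by
    intro χ
    unfold classInner
    rw [map_mul, map_sum, map_inv₀, Complex.conj_natCast]
    have : ∀ S T : ℂ, (Nat.card K : ℂ)⁻¹ * S * ((Nat.card K : ℂ)⁻¹ * T) =
      (Nat.card K : ℂ)⁻¹ ^ 2 * (S * T) := by intro S T; ring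
    rw [this, Finset.sum_mul_sum]
    congr 1
    refine Finset.sum_congr rfl (fun y _ => Finset.sum_congr rfl (fun y' _ => ?_))
    rw [map_mul, Complex.conj_conj]
    unfold res
    ring
  rw [Finset.sum_congr rfl (fun χ _ => e1 χ), ← Finset.mul_sum, Finset.sum_comm]
  have e2 : ∀ x : K, ∑ χ : IrrCharacter G, ∑ y : K, conj (w (α : K → ℂ) x) * w (β : K → ℂ) y *
        ((χ : G → ℂ) x * conj ((χ : G → ℂ) y)) =
      (Nat.card K : ℂ) * (w (β : K → ℂ) x * conj (w (α : K → ℂ) x) +
        w ((bar β : IrrCharacter K) : K → ℂ) x * conj (w (α : K → ℂ) x)) := by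
    intro x
    rw [Finset.sum_comm]
    have e3 : ∀ y : K, ∑ χ : IrrCharacter G, conj (w (α : K → ℂ) x) * w (β : K → ℂ) y *
        ((χ : G → ℂ) x * conj ((χ : G → ℂ) y)) =
        conj (w (α : K → ℂ) x) * (w (β : K → ℂ) y *
          ∑ g : G, if g * (x : G) * g⁻¹ = y then (1 : ℂ) else 0) := by
      intro y
      rw [← Finset.mul_sum, col_count, mul_assoc]
    rw [Finset.sum_congr rfl (fun y _ => e3 y), ← Finset.mul_sum]
    by_cases hx : x = 1
    · subst hx
      rw [h.w_one α]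
      simp
    · rw [h.fusion_sum x hx, h.w_inv]
      ring
  rw [Finset.sum_congr rfl (fun x _ => e2 x), ← Finset.mul_sum, Finset.sum_add_distrib]
  have i1 := h.inner_w β α hβ hα
  have hbβ : bar β ≠ oneIrr K := by
    intro e
    apply hβ
    rw [← bar_bar β, e]
    apply Subtype.ext; funext g
    show conj (1 : ℂ) = 1
    exact map_one _
  have i2 := h.inner_w (bar β) α hbβ hα
  unfold classInner at i1 i2
  have j1 : ∑ x : K, w (β : K → ℂ) x * conj (w (α : K → ℂ) x) =
      (Nat.card K : ℂ) * (1 + if β = α then 1 else 0) := by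
    rw [← i1]; field_simp
  have j2 : ∑ x : K, w ((bar β : IrrCharacter K) : K → ℂ) x * conj (w (α : K → ℂ) x) =
      (Nat.card K : ℂ) * (1 + if bar β = α then 1 else 0) := by
    rw [← i2]; field_simp
  rw [j1, j2]
  have k1 : (β = α) = (α = β) := propext ⟨Eq.symm, Eq.symm⟩
  have k2 : (bar β = α) = (bar α = β) := propext
    ⟨fun e => by rw [← e, bar_bar], fun e => by rw [← e, bar_bar]⟩
  simp only [k1, k2]
  field_simp
  ring

theorem deg_row [Fintype (IrrCharacter G)] (α : IrrCharacter K) :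
    ∑ χ : IrrCharacter G, classInner (res K χ) (w (α : K → ℂ)) * conj ((χ : G → ℂ) 1) = 0 := by
  classical
  have e1 : ∀ χ : IrrCharacter G, classInner (res K χ) (w (α : K → ℂ)) * conj ((χ : G → ℂ) 1) =
      (Nat.card K : ℂ)⁻¹ * ∑ y : K, conj (w (α : K → ℂ) y) *
        ((χ : G → ℂ) y * conj ((χ : G → ℂ) 1)) := by
    intro χ
    unfold classInner
    rw [mul_assoc, Finset.sum_mul]
    congr 1
    refine Finset.sum_congr rfl (fun y _ => ?_)
    unfold res; ring
  rw [Finset.sum_congr rfl (fun χ _ => e1 χ), ← Finset.mul_sum, Finset.sum_comm]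
  rw [Finset.sum_eq_zero, mul_zero]
  intro y _
  by_cases hy : y = 1
  · subst hy
    rw [h.w_one α]; simp
  · rw [← Finset.mul_sum, column_orthogonality_of_not_isConj, mul_zero]
    intro hc
    exact hy (Subtype.ext (isConj_one_left.1 hc))

theorem sum_w (α : IrrCharacter K) (hα : α ≠ oneIrr K) : ∑ x : K, w (α : K → ℂ) x = Nat.card K := by
  classical
  have h1 := classInner_irr α (oneIrr K)
  rw [if_neg hα] at h1
  unfold classInner at h1
  have h0 : (Nat.card K : ℂ)⁻¹ ≠ 0 := inv_ne_zero (by exact_mod_cast Nat.card_pos.ne')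
  have h2 := (mul_eq_zero.1 h1).resolve_left h0
  have h3 : ∑ x : K, (α : K → ℂ) x = 0 := by
    rw [← h2]
    refine Finset.sum_congr rfl (fun x _ => ?_)
    have : ((oneIrr K : IrrCharacter K) : K → ℂ) x = 1 := rfl
    rw [this]; simp
  unfold w
  rw [Finset.sum_sub_distrib, h3]
  simp

theorem quad_row [Fintype (IrrCharacter G)] (α : IrrCharacter K) (hα : α ≠ oneIrr K) :
    ∑ χ : IrrCharacter G, ((χ : G → ℂ) t ^ 2 / (χ : G → ℂ) 1) *
      conj (classInner (res K χ) (w (α : K → ℂ))) =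
      2 * (Nat.card K : ℂ) ^ 2 / ((Subgroup.centralizer ({t} : Set G)).index : ℂ) := by
  classical
  have h0 : (Nat.card K : ℂ) ≠ 0 := by exact_mod_cast Nat.card_pos.ne'
  have hi : ((Subgroup.centralizer ({t} : Set G)).index : ℂ) ≠ 0 := by
    exact_mod_cast Subgroup.index_ne_zero_of_finite
  have hG : (Nat.card G : ℂ) = 2 * (Nat.card K : ℂ) *
      ((Subgroup.centralizer ({t} : Set G)).index : ℂ) := by
    have := (Subgroup.centralizer ({t} : Set G)).card_mul_index
    rw [h.card] at this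
    exact_mod_cast this.symm
  have e1 : ∀ χ : IrrCharacter G, (Nat.card G : ℂ) * (((χ : G → ℂ) t ^ 2 / (χ : G → ℂ) 1) *
      conj (classInner (res K χ) (w (α : K → ℂ)))) =
      (Nat.card K : ℂ)⁻¹ * ∑ y : K, w (α : K → ℂ) y * ∑ x : G,
        ((χ : G → ℂ) (t * (x * t * x⁻¹)) * conj ((χ : G → ℂ) y)) := by
    intro χ
    have h1 := sum_conj_mul χ.2 t t
    unfold classInner
    rw [map_mul, map_sum, map_inv₀, Complex.conj_natCast]
    have e2 : ∀ y : K, ∑ x : G, ((χ : G → ℂ) (t * (x * t * x⁻¹)) * conj ((χ : G → ℂ) y)) =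
        ((Nat.card G : ℂ) * (χ : G → ℂ) t * (χ : G → ℂ) t / (χ : G → ℂ) 1) *
          conj ((χ : G → ℂ) y) := by
      intro y
      rw [← Finset.sum_mul, h1]
    simp only [e2]
    have e3 : ∀ y : K, conj (res K χ y * conj (w (α : K → ℂ) y)) =
        conj ((χ : G → ℂ) y) * w (α : K → ℂ) y := by
      intro y; rw [map_mul, Complex.conj_conj]; rfl
    simp only [e3]
    have e4 : ∀ y : K, w (α : K → ℂ) y * ((Nat.card G : ℂ) * (χ : G → ℂ) t * (χ : G → ℂ) t /
        (χ : G → ℂ) 1 * conj ((χ : G → ℂ) y)) = ((Nat.card G : ℂ) * (χ : G → ℂ) t *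
          (χ : G → ℂ) t / (χ : G → ℂ) 1) * (conj ((χ : G → ℂ) y) * w (α : K → ℂ) y) := by
      intro y; ring
    simp only [e4]
    rw [← Finset.mul_sum]
    ring
  have e5 : (Nat.card G : ℂ) * ∑ χ : IrrCharacter G, ((χ : G → ℂ) t ^ 2 / (χ : G → ℂ) 1) *
      conj (classInner (res K χ) (w (α : K → ℂ))) = (Nat.card K : ℂ)⁻¹ * ((Nat.card K : ℂ) *
        ((Nat.card K : ℂ) * (Nat.card (Subgroup.centralizer ({t} : Set G)) : ℂ) ^ 2)) := by
    rw [Finset.mul_sum, Finset.sum_congr rfl (fun χ _ => e1 χ), ← Finset.mul_sum, Finset.sum_comm]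
    congr 1
    have e6 : ∀ y : K, ∑ χ : IrrCharacter G, w (α : K → ℂ) y * ∑ x : G,
        ((χ : G → ℂ) (t * (x * t * x⁻¹)) * conj ((χ : G → ℂ) y)) =
        w (α : K → ℂ) y *
          ((Nat.card K : ℂ) * (Nat.card (Subgroup.centralizer ({t} : Set G)) : ℂ) ^ 2) := by
      intro y
      by_cases hy : y = 1
      · subst hy
        rw [h.w_one α]; simp
      · rw [← Finset.mul_sum, Finset.sum_comm,
          ← h.pairs y y.2 (fun e => hy (Subtype.ext e))]
        congr 1
        refine Finset.sum_congr rfl (fun x _ => ?_)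
        rw [col_count]
    rw [Finset.sum_congr rfl (fun y _ => e6 y), ← Finset.sum_mul, h.sum_w α hα]
  rw [h.card, hG] at e5
  push_cast at e5
  rw [eq_div_iff hi]
  have h1 : (2 * (Nat.card K : ℂ)) * ((∑ χ : IrrCharacter G, ((χ : G → ℂ) t ^ 2 / (χ : G → ℂ) 1) *
      conj (classInner (res K χ) (w (α : K → ℂ)))) *
        ((Subgroup.centralizer ({t} : Set G)).index : ℂ)) =
      (2 * (Nat.card K : ℂ)) * (2 * (Nat.card K : ℂ) ^ 2) := by
    linear_combination e5 + (4 : ℂ) * (Nat.card K : ℂ) ^ 3 * (mul_inv_cancel₀ h0)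
  exact mul_left_cancel₀ (mul_ne_zero two_ne_zero h0) h1

theorem exists_r (α : IrrCharacter K) (χ : IrrCharacter G) :
    ∃ z : ℤ, classInner (res K χ) (w (α : K → ℂ)) = z := by
  have hres : IsCharacter K (res K χ) := isCharacter_restrict (irr_isCharacter χ) K
  obtain ⟨a, ha⟩ := classInner_natCast hres (irr_isCharacter (oneIrr K))
  obtain ⟨b, hb⟩ := classInner_natCast hres (irr_isCharacter α)
  refine ⟨a - b, ?_⟩
  have e : w (α : K → ℂ) = ((oneIrr K : IrrCharacter K) : K → ℂ) - (α : K → ℂ) := rfl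
  rw [e, classInner_sub_right, ha, hb]
  push_cast; ring

theorem exists_tau (α : IrrCharacter K) : ∃ z : ℤ, (z = 1 ∨ z = -1) ∧
    (α : K → ℂ) ⟨t, h.tK⟩ = z := by
  have h1 : (α : K → ℂ) ⟨t, h.tK⟩ * (α : K → ℂ) ⟨t, h.tK⟩ = 1 := by
    have htt : (⟨t, h.tK⟩ : K) * ⟨t, h.tK⟩ = 1 := Subtype.ext h.t2
    rw [← h.mul_irr, htt, h.deg_one α]
  rcases mul_self_eq_one_iff.1 h1 with e | e
  · exact ⟨1, Or.inl rfl, by rw [e]; norm_num⟩
  · exact ⟨-1, Or.inr rfl, by rw [e]; norm_num⟩

theorem exists_rho : ∃ ρ : IrrCharacter K, ρ ≠ oneIrr K ∧ bar ρ = ρ ∧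
    ∀ α : IrrCharacter K, bar α = α → α = oneIrr K ∨ α = ρ := by
  have h1 := Cfsg.Agent.S0160.result (G := K)
  have hmk : ∀ a b : K, ConjClasses.mk a = ConjClasses.mk b → a = b := by
    intro a b hab
    rw [ConjClasses.mk_eq_mk_iff_isConj] at hab
    obtain ⟨c, hc⟩ := isConj_iff.1 hab
    rw [h.comm c a, mul_inv_cancel_right] at hc
    exact hc
  have h2 : Nat.card {C : ConjClasses K // ∀ g : K, ConjClasses.mk g = C → IsConj g g⁻¹} =
      Nat.card {x : K // x * x = 1} := by
    symm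
    refine Nat.card_congr (Equiv.ofBijective (fun x => ⟨ConjClasses.mk x.1, ?_⟩) ⟨?_, ?_⟩)
    · intro g hg
      have := hmk _ _ hg
      rw [this]
      have h3 : (x.1)⁻¹ = x.1 := inv_eq_of_mul_eq_one_left x.2
      rw [h3]
    · intro x y hxy
      apply Subtype.ext
      exact hmk _ _ (congrArg Subtype.val hxy)
    · rintro ⟨C, hC⟩
      obtain ⟨g, rfl⟩ := ConjClasses.exists_rep C
      have h3 := hC g rfl
      obtain ⟨c, hc⟩ := isConj_iff.1 h3
      rw [h.comm c g, mul_inv_cancel_right] at hc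
      refine ⟨⟨g, ?_⟩, rfl⟩
      calc g * g = g⁻¹ * g := by rw [← hc]
        _ = 1 := inv_mul_cancel g
  have h3 : Nat.card {x : K // x * x = 1} = 2 := by
    rw [Nat.card_eq_two_iff]
    have htt : (⟨t, h.tK⟩ : K) * ⟨t, h.tK⟩ = 1 := Subtype.ext h.t2
    refine ⟨⟨1, by simp⟩, ⟨⟨t, h.tK⟩, htt⟩, ?_, ?_⟩
    · intro e
      have : (1 : G) = t := congrArg (fun z : {x : K // x * x = 1} => ((z.1 : K) : G)) e
      exact h.t1 this.symm
    · ext x
      simp only [Set.mem_insert_iff, Set.mem_singleton_iff, Set.mem_univ, iff_true]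
      rcases h.uniq x.1 x.1.2 (congrArg Subtype.val x.2) with e | e
      · left; exact Subtype.ext (Subtype.ext e)
      · right; exact Subtype.ext (Subtype.ext e)
  rw [h2, h3] at h1
  have hreal : ∀ α : IrrCharacter K, bar α = α ↔ ∀ g : K, ((α : K → ℂ) g).im = 0 := by
    intro α
    constructor
    · intro e g
      have := congrArg (fun χ : IrrCharacter K => (χ : K → ℂ) g) e
      exact Complex.conj_eq_iff_im.1 this
    · intro hg
      apply Subtype.ext; funext g
      exact Complex.conj_eq_iff_im.2 (hg g)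
  obtain ⟨a, b, hab, hu⟩ := Nat.card_eq_two_iff.1 h1
  have hone : ∀ g : K, (((oneIrr K : IrrCharacter K) : K → ℂ) g).im = 0 := by
    intro g
    have : ((oneIrr K : IrrCharacter K) : K → ℂ) g = 1 := rfl
    rw [this]; simp
  have hm : ∀ α : IrrCharacter K, bar α = α → α = a.1 ∨ α = b.1 := by
    intro α hα
    have : (⟨α, (hreal α).1 hα⟩ : {χ : IrrCharacter K // ∀ g : K, ((χ : K → ℂ) g).im = 0}) ∈
      ({a, b} : Set _) := by rw [hu]; trivial
    simp only [Set.mem_insert_iff, Set.mem_singleton_iff] at this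
    rcases this with e | e
    · left; rw [← e]
    · right; rw [← e]
  have hab' : a.1 ≠ b.1 := fun e => hab (Subtype.ext e)
  rcases hm (oneIrr K) ((hreal _).2 hone) with e | e
  · refine ⟨b.1, by rw [e]; exact hab'.symm, (hreal _).2 b.2, ?_⟩
    intro α hα; rw [e]; exact hm α hα
  · refine ⟨a.1, by rw [e]; exact hab', (hreal _).2 a.2, ?_⟩
    intro α hα; rw [e]; exact (hm α hα).symm

end KData

theorem sum_subtype_ne {Y : Type*} [Fintype Y] [DecidableEq Y] {M : Type*} [AddCommGroup M] (a : Y)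
    (f : Y → M) : ∑ α : {α : Y // α ≠ a}, f α = (∑ α, f α) - f a := by
  rw [← Finset.sum_erase_eq_sub (Finset.mem_univ a)]
  rw [Finset.sum_subtype (Finset.univ.erase a) (p := fun α => α ≠ a) (by simp)]

theorem bar_ne_one {H : Type u} [Group H] [Fintype H] {α : IrrCharacter H} (hα : α ≠ oneIrr H) :
    bar α ≠ oneIrr H := by
  intro e
  apply hα
  rw [← bar_bar α, e]
  apply Subtype.ext; funext g
  show conj (1 : ℂ) = 1
  exact map_one _

namespace KData

variable {G : Type u} [Group G] [Fintype G] [DecidableEq G] {t : G} {K : Subgroup G} [Fintype K]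
  (h : KData t K)

/-- the index set -/
abbrev AA (K : Subgroup G) [Fintype K] := {α : IrrCharacter K // α ≠ oneIrr K}

noncomputable def rI (α : AA K) (χ : IrrCharacter G) : ℤ := (h.exists_r α.1 χ).choose

theorem rI_spec (α : AA K) (χ : IrrCharacter G) :
    classInner (res K χ) (w (α.1 : K → ℂ)) = (h.rI α χ : ℂ) := (h.exists_r α.1 χ).choose_spec

noncomputable def tauI (α : AA K) : ℤ := (h.exists_tau α.1).choose

theorem tauI_spec (α : AA K) : (h.tauI α = 1 ∨ h.tauI α = -1) ∧
    (α.1 : K → ℂ) ⟨t, h.tK⟩ = (h.tauI α : ℂ) := (h.exists_tau α.1).choose_spec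

noncomputable def barA (α : AA K) : AA K := ⟨bar α.1, bar_ne_one α.2⟩

theorem tau_bar (α : AA K) : h.tauI (barA α) = h.tauI α := by
  have h1 := (h.tauI_spec (barA α)).2
  have h2 := (h.tauI_spec α).2
  have h3 : ((barA α).1 : K → ℂ) ⟨t, h.tK⟩ = conj ((α.1 : K → ℂ) ⟨t, h.tK⟩) := rfl
  rw [h1, h2, map_intCast] at h3
  exact_mod_cast h3

theorem inner_eq (α : AA K) (χ : IrrCharacter G) : classInner (res K χ) (α.1 : K → ℂ) =
    classInner (res K χ) ((oneIrr K : IrrCharacter K) : K → ℂ) - (h.rI α χ : ℂ) := by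
  rw [← h.rI_spec]
  have e : w (α.1 : K → ℂ) = ((oneIrr K : IrrCharacter K) : K → ℂ) - (α.1 : K → ℂ) := rfl
  rw [e, classInner_sub_right]
  ring

/-- values on `K` -/
theorem value [Fintype (IrrCharacter K)] [DecidableEq (IrrCharacter K)] (χ : IrrCharacter G)
    (x : K) (hx : x ≠ 1) :
    (χ : G → ℂ) x = - ∑ α : AA K, (h.rI α χ : ℂ) * (α.1 : K → ℂ) x := by
  classical
  have h1 := classFun_apply_eq_sum (h.isClassFunction (res K χ)) x
  have h2 : ∑ α : IrrCharacter K, (α : K → ℂ) x = 0 := by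
    have h3 := column_orthogonality_of_not_isConj (G := K) (g := x) (h := 1)
      (fun hc => hx (isConj_one_left.1 hc))
    simp only [h.deg_one, map_one, mul_one] at h3
    exact h3
  set c := classInner (res K χ) ((oneIrr K : IrrCharacter K) : K → ℂ) with hc
  have h4 : ∑ α : AA K, classInner (res K χ) (α.1 : K → ℂ) * (α.1 : K → ℂ) x =
      (∑ α : IrrCharacter K, classInner (res K χ) (α : K → ℂ) * (α : K → ℂ) x) - c * 1 := by
    rw [sum_subtype_ne (oneIrr K) (fun α : IrrCharacter K =>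
      classInner (res K χ) (α : K → ℂ) * (α : K → ℂ) x)]
    rfl
  have h5 : ∑ α : AA K, (α.1 : K → ℂ) x = -1 := by
    rw [sum_subtype_ne (oneIrr K) (fun α : IrrCharacter K => (α : K → ℂ) x), h2]
    have : ((oneIrr K : IrrCharacter K) : K → ℂ) x = 1 := rfl
    rw [this]; ring
  rw [← h1] at h4
  have h6 : ∑ α : AA K, classInner (res K χ) (α.1 : K → ℂ) * (α.1 : K → ℂ) x =
      c * (∑ α : AA K, (α.1 : K → ℂ) x) - ∑ α : AA K, (h.rI α χ : ℂ) * (α.1 : K → ℂ) x := by
    rw [Finset.mul_sum, ← Finset.sum_sub_distrib]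
    refine Finset.sum_congr rfl (fun α _ => ?_)
    rw [h.inner_eq α χ]; ring
  rw [h6, h5] at h4
  have h7 : res K χ x = (χ : G → ℂ) x := rfl
  rw [h7] at h4
  linear_combination -h4

theorem value_t [Fintype (IrrCharacter K)] [DecidableEq (IrrCharacter K)] (χ : IrrCharacter G) :
    (χ : G → ℂ) t = (BswMat.B h.rI h.tauI χ : ℂ) := by
  have h1 := h.value χ ⟨t, h.tK⟩ (fun e => h.t1 (congrArg Subtype.val e))
  rw [h1]
  unfold BswMat.B
  push_cast
  congr 1
  refine Finset.sum_congr rfl (fun α _ => ?_)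
  rw [(h.tauI_spec α).2]

include h in
/-- sum of `χ` over `K` -/
theorem sum_K [Fintype (IrrCharacter K)] [DecidableEq (IrrCharacter K)] (χ : IrrCharacter G) :
    ∑ x : K, (χ : G → ℂ) x = (χ : G → ℂ) 1 + ∑ α : AA K, (h.rI α χ : ℂ) := by
  classical
  have h1 := classFun_apply_eq_sum (h.isClassFunction (res K χ)) (1 : K)
  simp only [h.deg_one, mul_one] at h1
  set c := classInner (res K χ) ((oneIrr K : IrrCharacter K) : K → ℂ) with hc
  have h0 : (Nat.card K : ℂ) ≠ 0 := by exact_mod_cast Nat.card_pos.ne'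
  have h2 : ∑ x : K, (χ : G → ℂ) x = (Nat.card K : ℂ) * c := by
    rw [hc]
    unfold classInner
    rw [mul_inv_cancel_left₀ h0]
    refine Finset.sum_congr rfl (fun x _ => ?_)
    have : ((oneIrr K : IrrCharacter K) : K → ℂ) x = 1 := rfl
    rw [this]; simp [res]
  have h4 : ∑ α : AA K, classInner (res K χ) (α.1 : K → ℂ) =
      (∑ α : IrrCharacter K, classInner (res K χ) (α : K → ℂ)) - c := by
    rw [sum_subtype_ne (oneIrr K) (fun α : IrrCharacter K => classInner (res K χ) (α : K → ℂ))]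
  have h6 : ∑ α : AA K, classInner (res K χ) (α.1 : K → ℂ) =
      (Fintype.card (AA K) : ℂ) * c - ∑ α : AA K, (h.rI α χ : ℂ) := by
    rw [Finset.sum_congr rfl (fun α _ => h.inner_eq α χ), Finset.sum_sub_distrib]
    simp [← hc]
  have h8 : (Fintype.card (AA K) : ℂ) = (Nat.card K : ℂ) - 1 := by
    have h9 : Fintype.card (AA K) = Nat.card K - 1 := by
      rw [← h.card_irr, Nat.card_eq_fintype_card]
      exact Fintype.card_subtype_compl (fun α : IrrCharacter K => α = oneIrr K) |>.trans (by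
        rw [Fintype.card_subtype_eq])
    rw [h9, Nat.cast_sub Nat.card_pos]; simp
  have h7 : res K χ 1 = (χ : G → ℂ) 1 := rfl
  rw [← h1, h6, h8, h7] at h4
  rw [h2]
  linear_combination h4

include h in
theorem int_H (χ : IrrCharacter G) : ∃ N : ℤ, (∑ x : K, (χ : G → ℂ) x) +
    (Nat.card K : ℂ) * (χ : G → ℂ) t = 2 * (Nat.card K : ℂ) * N := by
  classical
  let H : Subgroup G := Subgroup.centralizer ({t} : Set G)
  haveI : Fintype H := Fintype.ofFinite _
  obtain ⟨N, hN⟩ := classInner_natCast (isCharacter_restrict (irr_isCharacter χ) H)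
    (irr_isCharacter (oneIrr H))
  refine ⟨N, ?_⟩
  unfold classInner at hN
  have hH0 : (Nat.card H : ℂ) ≠ 0 := by exact_mod_cast Nat.card_pos.ne'
  have h1 : ∑ x : H, (χ : G → ℂ) x = (Nat.card H : ℂ) * N := by
    rw [← hN, mul_inv_cancel_left₀ hH0]
    refine Finset.sum_congr rfl (fun x _ => ?_)
    have : ((oneIrr H : IrrCharacter H) : H → ℂ) x = 1 := rfl
    rw [this]; simp
  have hc : (Nat.card H : ℂ) = 2 * (Nat.card K : ℂ) := by exact_mod_cast h.card
  rw [hc] at h1
  push_cast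
  rw [← h1]
  have h2 : ∑ x : H, (χ : G → ℂ) x = ∑ g ∈ Finset.univ.filter (fun g => g ∈ H), (χ : G → ℂ) g := by
    rw [Finset.sum_subtype (Finset.univ.filter (fun g => g ∈ H)) (p := fun g => g ∈ H) (by simp)]
  have h3 : ∑ x : K, (χ : G → ℂ) x = ∑ g ∈ Finset.univ.filter (fun g => g ∈ K), (χ : G → ℂ) g := by
    rw [Finset.sum_subtype (Finset.univ.filter (fun g => g ∈ K)) (p := fun g => g ∈ K) (by simp)]
  have e5 : Finset.univ.filter (fun g : G => g ∈ K) ⊆ Finset.univ.filter (fun g : G => g ∈ H) := by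
    intro g hg
    simp only [Finset.mem_filter, Finset.mem_univ, true_and] at hg ⊢
    exact h.KH hg
  rw [h2, h3, ← Finset.sum_sdiff e5]
  have h4 : ∀ g ∈ (Finset.univ.filter (fun g : G => g ∈ H)) \ (Finset.univ.filter (fun g : G => g ∈ K)),
      (χ : G → ℂ) g = (χ : G → ℂ) t := by
    intro g hg
    simp only [Finset.mem_sdiff, Finset.mem_filter, Finset.mem_univ, true_and] at hg
    exact classFun_eq_of_isConj (irr_isClassFunction χ) (h.outer g hg.1 hg.2)
  rw [Finset.sum_congr rfl h4, Finset.sum_const, Finset.card_sdiff_of_subset e5]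
  have c1 : (Finset.univ.filter (fun g : G => g ∈ K)).card = Nat.card K := by
    rw [← Fintype.card_subtype, ← Nat.card_eq_fintype_card]
  have c2 : (Finset.univ.filter (fun g : G => g ∈ H)).card = 2 * Nat.card K := by
    rw [← h.card, ← Fintype.card_subtype, ← Nat.card_eq_fintype_card]
  rw [c1, c2, nsmul_eq_mul]
  have c3 : 2 * Nat.card K - Nat.card K = Nat.card K := by omega
  rw [c3]; ring

theorem hyp [Fintype (IrrCharacter G)] [Fintype (IrrCharacter K)] [DecidableEq (IrrCharacter G)]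
    [DecidableEq (IrrCharacter K)] : ∃ ρ : AA K,
    BswMat.Hyp h.rI degI h.tauI (Nat.card K : ℤ) ((Subgroup.centralizer ({t} : Set G)).index : ℤ)
      (oneIrr G) barA ρ := by
  classical
  obtain ⟨ρ, hρ1, hρb, hρu⟩ := h.exists_rho
  refine ⟨⟨ρ, hρ1⟩, ?_⟩
  have hconjZ : ∀ z : ℤ, conj (z : ℂ) = (z : ℂ) := fun z => map_intCast (starRingEnd ℂ) z
  have hκ : 0 < (Subgroup.centralizer ({t} : Set G)).index :=
    Nat.pos_of_ne_zero Subgroup.index_ne_zero_of_finite
  have hcardA : Fintype.card (AA K) = Nat.card K - 1 := by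
    rw [← h.card_irr, Nat.card_eq_fintype_card]
    exact Fintype.card_subtype_compl (fun α : IrrCharacter K => α = oneIrr K) |>.trans (by
      rw [Fintype.card_subtype_eq])
  have hK2 : 2 ≤ Nat.card K := by
    have h1 : orderOf t ∣ Nat.card K := Subgroup.orderOf_dvd_natCard K h.tK
    have h2 : orderOf t = 2 := orderOf_eq_prime (by rw [sq]; exact h.t2) h.t1
    rw [h2] at h1
    exact Nat.le_of_dvd Nat.card_pos h1
  have hrbar : ∀ (α : AA K) (χ : IrrCharacter G), h.rI (barA α) χ = h.rI α χ := by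
    intro α χ
    -- `s ∈ H \ K` inverts
    have h1 := h.rI_spec (barA α) χ
    have h2 := h.rI_spec α χ
    obtain ⟨g, hgH, hgK⟩ : ∃ g ∈ Subgroup.centralizer ({t} : Set G), g ∉ K := by
      by_contra hcon
      push Not at hcon
      have h3 : Subgroup.centralizer ({t} : Set G) = K := le_antisymm hcon h.KH
      have h4 := h.card
      rw [h3] at h4
      omega
    have h5 : classInner (res K χ) (w ((barA α).1 : K → ℂ)) =
        classInner (res K χ) (w (α.1 : K → ℂ)) := by
      unfold classInner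
      congr 1
      rw [← Equiv.sum_comp (Equiv.inv K) (fun x => res K χ x * conj (w (α.1 : K → ℂ) x))]
      refine Finset.sum_congr rfl (fun x _ => ?_)
      have h6 : res K χ ((Equiv.inv K) x) = res K χ x := by
        have h7 : (χ : G → ℂ) (g * x * g⁻¹) = (χ : G → ℂ) x := irr_isClassFunction χ x g
        rw [h.act g hgH hgK x x.2] at h7
        exact h7
      have h8 : w (α.1 : K → ℂ) ((Equiv.inv K) x) = w ((barA α).1 : K → ℂ) x := h.w_inv α.1 x
      rw [h6, h8]
    rw [h1, h2] at h5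
    exact_mod_cast h5
  refine ⟨?_, ?_, ?_, hrbar, ?_, ?_, ?_, degI_pos, ?_, h.tau_bar, fun α => (h.tauI_spec α).1, ?_,
    ?_, by exact_mod_cast hK2, by exact_mod_cast hκ, ?_, ?_, ?_, ?_⟩
  · intro α; exact Subtype.ext (bar_bar α.1)
  · exact Subtype.ext hρb
  · intro α hα e
    rcases hρu α.1 (congrArg Subtype.val e) with e1 | e1
    · exact α.2 e1
    · exact hα (Subtype.ext e1)
  · -- ortho
    intro α β
    have h1 := h.row α.1 β.1 α.2 β.2
    simp only [h.rI_spec, hconjZ] at h1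
    have k1 : (α.1 = β.1) = (α = β) := propext ⟨fun e => Subtype.ext e, fun e => by rw [e]⟩
    have k2 : (bar α.1 = β.1) = (barA α = β) := propext ⟨fun e => Subtype.ext e, fun e => by rw [← e]; rfl⟩
    simp only [k1, k2] at h1
    exact_mod_cast h1
  · -- r0
    intro α
    have h1 := h.rI_spec α (oneIrr G)
    have h2 : res K ((oneIrr G : IrrCharacter G) : G → ℂ) = ((oneIrr K : IrrCharacter K) : K → ℂ) := by
      funext y; rfl
    have e : w (α.1 : K → ℂ) = ((oneIrr K : IrrCharacter K) : K → ℂ) - (α.1 : K → ℂ) := rfl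
    rw [h2, e, classInner_sub_right, classInner_irr, classInner_irr, if_pos rfl,
      if_neg (Ne.symm α.2), sub_zero] at h1
    exact_mod_cast h1.symm
  · -- deg
    intro α
    have h1 := h.deg_row α.1
    simp only [h.rI_spec, degI_spec, hconjZ] at h1
    exact_mod_cast h1
  · have h1 := degI_spec (oneIrr G)
    have h2 : ((oneIrr G : IrrCharacter G) : G → ℂ) 1 = 1 := rfl
    rw [h2] at h1
    exact_mod_cast h1.symm
  · -- τ sum
    have h1 : ∑ α : IrrCharacter K, (α : K → ℂ) ⟨t, h.tK⟩ = 0 := by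
      have h3 := column_orthogonality_of_not_isConj (G := K) (g := ⟨t, h.tK⟩) (h := 1)
        (fun hc => h.t1 (congrArg Subtype.val (isConj_one_left.1 hc)))
      simp only [h.deg_one, map_one, mul_one] at h3
      exact h3
    have h2 : ∑ α : AA K, (α.1 : K → ℂ) ⟨t, h.tK⟩ = -1 := by
      rw [sum_subtype_ne (oneIrr K) (fun α : IrrCharacter K => (α : K → ℂ) ⟨t, h.tK⟩), h1]
      have : ((oneIrr K : IrrCharacter K) : K → ℂ) ⟨t, h.tK⟩ = 1 := rfl
      rw [this]; ring
    have h3 : (∑ α : AA K, (h.tauI α : ℂ)) = -1 := by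
      rw [← h2]
      exact Finset.sum_congr rfl (fun α _ => (h.tauI_spec α).2.symm)
    exact_mod_cast h3
  · rw [hcardA]; omega
  · obtain ⟨k, hk⟩ := h.index_odd
    rw [hk]; push_cast; omega
  · -- quad
    intro α
    have h1 := h.quad_row α.1 α.2
    simp only [h.rI_spec, degI_spec, hconjZ, h.value_t] at h1
    have h2 : ((∑ χ : IrrCharacter G, (h.rI α χ : ℚ) *
        ((BswMat.B h.rI h.tauI χ : ℚ) ^ 2 / (degI χ : ℚ)) : ℚ) : ℂ)
        = ((2 * ((Nat.card K : ℤ) : ℚ) ^ 2 /
          (((Subgroup.centralizer ({t} : Set G)).index : ℤ) : ℚ) : ℚ) : ℂ) := by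
      push_cast
      rw [← h1]
      exact Finset.sum_congr rfl (fun χ _ => mul_comm _ _)
    exact_mod_cast h2
  · -- int
    intro χ
    obtain ⟨N, hN⟩ := h.int_H χ
    rw [h.sum_K, degI_spec, h.value_t] at hN
    refine ⟨N, ?_⟩
    exact_mod_cast hN
  · -- dvd
    intro χ
    have h1 := isIntegral_centralChar χ.2 t
    rw [h.value_t, degI_spec] at h1
    have h2 : IsIntegral ℤ ((((Subgroup.centralizer ({t} : Set G)).index : ℤ) : ℚ) *
        (BswMat.B h.rI h.tauI χ : ℚ) / (degI χ : ℚ)) := by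
      rw [← isIntegral_algebraMap_iff (B := ℂ) (algebraMap ℚ ℂ).injective]
      convert h1 using 1
      push_cast
      simp
    have hD : (degI χ : ℚ) ≠ 0 := by exact_mod_cast (degI_pos χ).ne'
    obtain ⟨z, hz⟩ := IsIntegrallyClosed.isIntegral_iff.1 h2
    refine ⟨z, ?_⟩
    have h3 : (((Subgroup.centralizer ({t} : Set G)).index : ℤ) : ℚ) *
        (BswMat.B h.rI h.tauI χ : ℚ) = (degI χ : ℚ) * (z : ℚ) := by
      have h4 : ((z : ℤ) : ℚ) = (((Subgroup.centralizer ({t} : Set G)).index : ℤ) : ℚ) *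
        (BswMat.B h.rI h.tauI χ : ℚ) / (degI χ : ℚ) := hz
      rw [h4]
      field_simp
    exact_mod_cast h3

include h in
/-- **The Steinberg character**: existence of `θ`, with the class-function identity. -/
theorem main [Fintype (IrrCharacter G)] : ∃ (δ : ℤ) (θ : IrrCharacter G), (δ = 1 ∨ δ = -1) ∧
    θ ≠ oneIrr G ∧ (θ : G → ℂ) 1 = 2 * (Nat.card K : ℂ) + δ ∧
    (∀ x ∈ K, x ≠ 1 → (θ : G → ℂ) x = δ) ∧
    ((Subgroup.centralizer ({t} : Set G)).index : ℤ) =
      (2 * (Nat.card K : ℤ) + δ) * ((Nat.card K : ℤ) + δ) ∧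
    ∀ g : G, (∀ x ∈ K, x ≠ 1 → ¬ IsConj x g) → g ≠ 1 →
      ∑ χ : IrrCharacter G, ((χ : G → ℂ) t ^ 2 / (χ : G → ℂ) 1) * conj ((χ : G → ℂ) g) =
        (1 + (δ : ℂ) / ((Nat.card K : ℂ) + δ) * ((Nat.card K : ℂ) - 1)) +
        (1 / (2 * (Nat.card K : ℂ) + δ) + ((Nat.card K : ℂ) - 1) / ((Nat.card K : ℂ) + δ)) *
          conj ((θ : G → ℂ) g) := by
  classical
  haveI : Fintype (IrrCharacter K) := Fintype.ofFinite _
  obtain ⟨ρ, hyp⟩ := h.hyp
  obtain ⟨δ, θ, ho⟩ := hyp.out
  refine ⟨δ, θ, ho.δ1, ho.θne, ?_, ?_, ho.κeq, ?_⟩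
  · rw [degI_spec, ho.Dθ]; push_cast; ring
  · intro x hx hx1
    have h1 := h.value θ ⟨x, hx⟩ (fun e => hx1 (congrArg Subtype.val e))
    have h2 : ∑ α : AA K, (α.1 : K → ℂ) ⟨x, hx⟩ = -1 := by
      rw [sum_subtype_ne (oneIrr K) (fun α : IrrCharacter K => (α : K → ℂ) ⟨x, hx⟩)]
      have h3 := column_orthogonality_of_not_isConj (G := K) (g := ⟨x, hx⟩) (h := 1)
        (fun hc => hx1 (congrArg Subtype.val (isConj_one_left.1 hc)))
      simp only [h.deg_one, map_one, mul_one] at h3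
      rw [h3]
      have : ((oneIrr K : IrrCharacter K) : K → ℂ) ⟨x, hx⟩ = 1 := rfl
      rw [this]; ring
    have h3 : (θ : G → ℂ) x = -∑ α : AA K, (h.rI α θ : ℂ) * (α.1 : K → ℂ) ⟨x, hx⟩ := h1
    rw [h3]
    simp only [ho.rθ]
    rw [← Finset.mul_sum, h2]; ring
  · intro g hg hg1
    have hz : ∀ α : AA K, ∑ χ : IrrCharacter G, (h.rI α χ : ℂ) * conj ((χ : G → ℂ) g) = 0 := by
      intro α
      have e1 : ∀ χ : IrrCharacter G, (h.rI α χ : ℂ) * conj ((χ : G → ℂ) g) =
          (Nat.card K : ℂ)⁻¹ * ∑ y : K, conj (w (α.1 : K → ℂ) y) *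
            ((χ : G → ℂ) y * conj ((χ : G → ℂ) g)) := by
        intro χ
        rw [← h.rI_spec]
        unfold classInner
        rw [mul_assoc, Finset.sum_mul]
        congr 1
        refine Finset.sum_congr rfl (fun y _ => ?_)
        unfold res; ring
      rw [Finset.sum_congr rfl (fun χ _ => e1 χ), ← Finset.mul_sum, Finset.sum_comm]
      rw [Finset.sum_eq_zero, mul_zero]
      intro y _
      by_cases hy : y = 1
      · subst hy
        rw [h.w_one α.1]; simp
      · rw [← Finset.mul_sum, column_orthogonality_of_not_isConj, mul_zero]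
        exact hg y y.2 (fun e => hy (Subtype.ext e))
    have hid : ∀ χ : IrrCharacter G, ((χ : G → ℂ) t ^ 2 / (χ : G → ℂ) 1) =
        (if χ = oneIrr G then 1 + (δ : ℂ) / ((Nat.card K : ℂ) + δ) * ((Nat.card K : ℂ) - 1) else 0) +
        (if χ = θ then 1 / (2 * (Nat.card K : ℂ) + δ) +
          ((Nat.card K : ℂ) - 1) / ((Nat.card K : ℂ) + δ) else 0) -
        (δ : ℂ) / ((Nat.card K : ℂ) + δ) * ∑ α : AA K, (h.rI α χ : ℂ) := by
      intro χ
      have h1 := ho.ident χ
      have h2 : (((BswMat.B h.rI h.tauI χ : ℚ) ^ 2 / (degI χ : ℚ) : ℚ) : ℂ) = ((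
        (if χ = oneIrr G then 1 + (δ : ℚ) / (((Nat.card K : ℤ) : ℚ) + δ) *
          (((Nat.card K : ℤ) : ℚ) - 1) else 0) +
        (if χ = θ then 1 / (2 * ((Nat.card K : ℤ) : ℚ) + δ) +
          (((Nat.card K : ℤ) : ℚ) - 1) / (((Nat.card K : ℤ) : ℚ) + δ) else 0) -
        (δ : ℚ) / (((Nat.card K : ℤ) : ℚ) + δ) * ∑ α : AA K, (h.rI α χ : ℚ) : ℚ) : ℂ) := by
        rw [h1]
      rw [h.value_t, degI_spec]
      push_cast at h2
      rw [h2]
      split_ifs <;> push_cast <;> ring
    rw [Finset.sum_congr rfl (fun χ _ => by rw [hid χ])]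
    simp only [sub_mul, add_mul, Finset.sum_sub_distrib, Finset.sum_add_distrib]
    have s1 : ∑ χ : IrrCharacter G, (δ : ℂ) / ((Nat.card K : ℂ) + δ) *
        (∑ α : AA K, (h.rI α χ : ℂ)) * conj ((χ : G → ℂ) g) = 0 := by
      have e1 : ∀ χ : IrrCharacter G, (δ : ℂ) / ((Nat.card K : ℂ) + δ) *
        (∑ α : AA K, (h.rI α χ : ℂ)) * conj ((χ : G → ℂ) g) = (δ : ℂ) / ((Nat.card K : ℂ) + δ) *
          ∑ α : AA K, (h.rI α χ : ℂ) * conj ((χ : G → ℂ) g) := by
        intro χ; rw [mul_assoc, Finset.sum_mul]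
      rw [Finset.sum_congr rfl (fun χ _ => e1 χ), ← Finset.mul_sum, Finset.sum_comm]
      rw [Finset.sum_eq_zero (fun α _ => hz α), mul_zero]
    rw [s1, sub_zero]
    simp only [ite_mul, zero_mul, Finset.sum_ite_eq', Finset.mem_univ, if_true]
    have : conj (((oneIrr G : IrrCharacter G) : G → ℂ) g) = 1 := by
      have : ((oneIrr G : IrrCharacter G) : G → ℂ) g = 1 := rfl
      rw [this]; simp
    rw [this]; ring

end KData

end Cfsg.Agent.H55.BswChar
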