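import Mathlib
import Cfsg.Agent.H55.BswChar
import Cfsg.Agent.H55.FewInv

set_option autoImplicit false
set_option linter.style.haveILetI false
set_option linter.unusedSectionVars false

/-!
# Group theory of the Brauer–Suzuki–Wall situation
-/

namespace Cfsg.Agent.H55.BswGrp

open scoped ComplexConjugate BigOperators
open Cfsg Cfsg.Agent.CharBase Cfsg.Agent.H55.FourChar Cfsg.Agent.H55.BswChar

universe u

/-- The hypotheses of the theorem. -/
structure SD {G : Type u} [Group G] (t s : G) (K : Subgroup G) : Prop where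
  ht : orderOf t = 2
  hs : orderOf s = 2
  ab : ∀ x ∈ K, ∀ y ∈ K, x * y = y * x
  KH : K ≤ Subgroup.centralizer ({t} : Set G)
  tK : t ∈ K
  sH : s ∈ Subgroup.centralizer ({t} : Set G)
  sK : s ∉ K
  hH : K ⊔ Subgroup.zpowers s = Subgroup.centralizer ({t} : Set G)
  hCK : K ⊓ Subgroup.centralizer ({s} : Set G) = Subgroup.zpowers t
  inv : ∀ x ∈ K, s * x * s⁻¹ = x⁻¹
  TI : ∀ g : G, g ∉ Subgroup.centralizer ({t} : Set G) →
    K ⊓ K.map (MulAut.conj g).toMonoidHom = ⊥
  hconj : ∀ x y : G, orderOf x = 2 → orderOf y = 2 → IsConj x y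

theorem sq_one_of_order {G : Type u} [Group G] {t : G} (h : orderOf t = 2) : t * t = 1 := by
  rw [← pow_two, ← h]; exact pow_orderOf_eq_one t

theorem order_two {G : Type u} [Group G] {t : G} (h1 : t ≠ 1) (h : t * t = 1) : orderOf t = 2 :=
  orderOf_eq_prime (by rw [pow_two]; exact h) h1

theorem inv_self_of {G : Type u} [Group G] {t : G} (h : orderOf t = 2) : t⁻¹ = t :=
  inv_eq_of_mul_eq_one_left (sq_one_of_order h)

theorem ne_one_of_order {G : Type u} [Group G] {t : G} (h : orderOf t = 2) : t ≠ 1 := by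
  rintro rfl; rw [orderOf_one] at h; omega

theorem orderOf_conj {G : Type u} [Group G] (g x : G) : orderOf (g * x * g⁻¹) = orderOf x := by
  have : g * x * g⁻¹ = MulAut.conj g x := by simp
  rw [this]; exact (MulAut.conj g).orderOf_eq x

theorem mem_sylow_smul {G : Type u} [Group G] {p : ℕ} (S : Sylow p G) (g y : G) :
    y ∈ ((g • S : Sylow p G) : Subgroup G) ↔ g⁻¹ * y * g ∈ (S : Subgroup G) := by
  rw [Sylow.smul_def, Sylow.pointwise_smul_def, Subgroup.mem_pointwise_smul_iff_inv_smul_mem]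
  have : (MulAut.conj g)⁻¹ • y = g⁻¹ * y * g := by
    rw [← map_inv, MulAut.smul_def]; simp
  rw [this]

/-- The number of involutions `u` with `u x` an involution. -/
noncomputable def nI {G : Type u} [Group G] (x : G) : ℕ :=
  Nat.card {u : G // orderOf u = 2 ∧ orderOf (u * x) = 2}

/-- Conjugate to a nontrivial element of `K`. -/
def KK {G : Type u} [Group G] (K : Subgroup G) (g : G) : Prop := ∃ x ∈ K, x ≠ 1 ∧ IsConj x g

theorem count_conj_tt {G : Type u} [Group G] [Fintype G] [DecidableEq G] {t : G} (ht : orderOf t = 2)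
    (hconj : ∀ x y : G, orderOf x = 2 → orderOf y = 2 → IsConj x y) (u : G) (hu : orderOf u = 2) :
    (∑ g : G, if g * t * g⁻¹ = u then (1 : ℂ) else 0) =
      (Nat.card (Subgroup.centralizer ({t} : Set G)) : ℂ) := by
  classical
  haveI : Fintype (IrrCharacter G) := Fintype.ofFinite _
  rw [← FourChar.col_count, column_orthogonality_of_isConj]
  exact hconj t u ht hu

/-- The count of pairs of involutions. -/
theorem count_pairs {G : Type u} [Group G] [Fintype G] [DecidableEq G] {t : G} (ht : orderOf t = 2)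
    (hconj : ∀ x y : G, orderOf x = 2 → orderOf y = 2 → IsConj x y) (x : G) :
    (∑ a : G, ∑ g : G, if g * (t * (a * t * a⁻¹)) * g⁻¹ = x then (1 : ℂ) else 0)
    = (Nat.card (Subgroup.centralizer ({t} : Set G)) : ℂ) ^ 2 * (nI x : ℂ) := by
  classical
  have hoc : ∀ g : G, orderOf (g * t * g⁻¹) = 2 := fun g => by rw [orderOf_conj, ht]
  rw [Finset.sum_comm]
  have e1 : ∀ g : G, (∑ a : G, if g * (t * (a * t * a⁻¹)) * g⁻¹ = x then (1 : ℂ) else 0) =
      ∑ b : G, if (g * t * g⁻¹) * (b * t * b⁻¹) = x then (1 : ℂ) else 0 := by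
    intro g
    rw [← Equiv.sum_comp (Equiv.mulLeft g)
      (fun b => if (g * t * g⁻¹) * (b * t * b⁻¹) = x then (1 : ℂ) else 0)]
    refine Finset.sum_congr rfl (fun a _ => ?_)
    have : g * t * g⁻¹ * ((Equiv.mulLeft g) a * t * ((Equiv.mulLeft g) a)⁻¹) =
        g * (t * (a * t * a⁻¹)) * g⁻¹ := by
      simp only [Equiv.coe_mulLeft]; group
    rw [this]
  rw [Finset.sum_congr rfl (fun g _ => e1 g)]
  -- split over the value `u = g t g⁻¹`
  have e2 : ∀ g b : G, (if (g * t * g⁻¹) * (b * t * b⁻¹) = x then (1 : ℂ) else 0) =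
      ∑ u ∈ Finset.univ.filter (fun u : G => orderOf u = 2 ∧ orderOf (u * x) = 2),
        (if g * t * g⁻¹ = u then (1 : ℂ) else 0) * (if b * t * b⁻¹ = u * x then (1 : ℂ) else 0) := by
    intro g b
    have hgi := inv_self_of (hoc g)
    by_cases c : (g * t * g⁻¹) * (b * t * b⁻¹) = x
    · rw [if_pos c]
      have c' : b * t * b⁻¹ = (g * t * g⁻¹) * x := by
        rw [← c, ← mul_assoc, sq_one_of_order (hoc g), one_mul]
      rw [Finset.sum_eq_single (g * t * g⁻¹)]
      · rw [if_pos rfl, if_pos c', one_mul]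
      · intro u _ hu
        rw [if_neg (fun e => hu e.symm), zero_mul]
      · intro hn
        exfalso; apply hn
        rw [Finset.mem_filter]
        refine ⟨Finset.mem_univ _, hoc g, ?_⟩
        rw [← c']; exact hoc b
    · rw [if_neg c]
      symm
      apply Finset.sum_eq_zero
      intro u _
      by_cases c1 : g * t * g⁻¹ = u
      · rw [if_pos c1, one_mul, if_neg]
        intro c2
        apply c
        rw [c2, ← c1, ← mul_assoc, sq_one_of_order (hoc g), one_mul]
      · rw [if_neg c1, zero_mul]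
  have e3 : (∑ g : G, ∑ b : G, if (g * t * g⁻¹) * (b * t * b⁻¹) = x then (1 : ℂ) else 0) =
      ∑ u ∈ Finset.univ.filter (fun u : G => orderOf u = 2 ∧ orderOf (u * x) = 2),
        (∑ g : G, if g * t * g⁻¹ = u then (1 : ℂ) else 0) *
        (∑ b : G, if b * t * b⁻¹ = u * x then (1 : ℂ) else 0) := by
    simp only [e2]
    rw [Finset.sum_congr rfl (fun g _ => Finset.sum_comm), Finset.sum_comm]
    refine Finset.sum_congr rfl (fun u _ => ?_)
    rw [Finset.sum_mul]
    refine Finset.sum_congr rfl (fun g _ => ?_)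
    rw [Finset.mul_sum]
  rw [e3]
  have e4 : ∀ u ∈ Finset.univ.filter (fun u : G => orderOf u = 2 ∧ orderOf (u * x) = 2),
      (∑ g : G, if g * t * g⁻¹ = u then (1 : ℂ) else 0) *
        (∑ b : G, if b * t * b⁻¹ = u * x then (1 : ℂ) else 0) =
      (Nat.card (Subgroup.centralizer ({t} : Set G)) : ℂ) ^ 2 := by
    intro u hu
    rw [Finset.mem_filter] at hu
    rw [count_conj_tt ht hconj u hu.2.1, count_conj_tt ht hconj (u * x) hu.2.2, sq]
  rw [Finset.sum_congr rfl e4, Finset.sum_const, nsmul_eq_mul]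
  have e5 : (Finset.univ.filter (fun u : G => orderOf u = 2 ∧ orderOf (u * x) = 2)).card = nI x := by
    unfold nI
    rw [Nat.card_eq_fintype_card, Fintype.card_subtype]
  rw [e5]; ring

/-- The class-algebra formula for the number of pairs. -/
theorem sum_char_nI {G : Type u} [Group G] [Fintype G] [Fintype (IrrCharacter G)] {t : G}
    (ht : orderOf t = 2)
    (hconj : ∀ x y : G, orderOf x = 2 → orderOf y = 2 → IsConj x y) (x : G) :
    ((Subgroup.centralizer ({t} : Set G)).index : ℂ) *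
      ∑ χ : IrrCharacter G, ((χ : G → ℂ) t ^ 2 / (χ : G → ℂ) 1) * conj ((χ : G → ℂ) x) =
    (Nat.card (Subgroup.centralizer ({t} : Set G)) : ℂ) * (nI x : ℂ) := by
  classical
  have h1 := count_pairs ht hconj x
  have h2 : (∑ a : G, ∑ g : G, if g * (t * (a * t * a⁻¹)) * g⁻¹ = x then (1 : ℂ) else 0) =
      (Nat.card G : ℂ) * ∑ χ : IrrCharacter G, ((χ : G → ℂ) t ^ 2 / (χ : G → ℂ) 1) *
        conj ((χ : G → ℂ) x) := by
    have e1 : ∀ a : G, (∑ g : G, if g * (t * (a * t * a⁻¹)) * g⁻¹ = x then (1 : ℂ) else 0) =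
        ∑ χ : IrrCharacter G, (χ : G → ℂ) (t * (a * t * a⁻¹)) * conj ((χ : G → ℂ) x) := by
      intro a; rw [FourChar.col_count]
    rw [Finset.sum_congr rfl (fun a _ => e1 a), Finset.sum_comm, Finset.mul_sum]
    refine Finset.sum_congr rfl (fun χ _ => ?_)
    rw [← Finset.sum_mul, sum_conj_mul χ.2]
    ring
  rw [h2] at h1
  have h3 : (Nat.card G : ℂ) = (Nat.card (Subgroup.centralizer ({t} : Set G)) : ℂ) *
      ((Subgroup.centralizer ({t} : Set G)).index : ℂ) := by
    exact_mod_cast (Subgroup.card_mul_index _).symm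
  have h4 : (Nat.card (Subgroup.centralizer ({t} : Set G)) : ℂ) ≠ 0 := by
    exact_mod_cast Nat.card_pos.ne'
  apply mul_left_cancel₀ h4
  rw [h3] at h1
  linear_combination h1

theorem conj_back {G : Type u} [Group G] {g x b : G} (h : g * x * g⁻¹ = b) : g⁻¹ * b * g = x := by
  rw [← h]; group

theorem card_fibre {A B : Type*} [Finite A] [Finite B] (f : A → B) (c : ℕ)
    (hf : ∀ b, Nat.card {a // f a = b} = c) : Nat.card A = Nat.card B * c := by
  classical
  haveI := Fintype.ofFinite A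
  haveI := Fintype.ofFinite B
  rw [← Nat.card_congr (Equiv.sigmaFiberEquiv f), Nat.card_sigma]
  rw [Finset.sum_congr rfl (fun b _ => hf b), Finset.sum_const, smul_eq_mul, Finset.card_univ,
    Nat.card_eq_fintype_card]

theorem card_ne_one {A : Type*} [Group A] [Finite A] : Nat.card {x : A // x ≠ 1} = Nat.card A - 1 := by
  classical
  haveI := Fintype.ofFinite A
  rw [Nat.card_eq_fintype_card, Nat.card_eq_fintype_card]
  exact Set.card_ne_eq (1 : A)

/-- Size of the set of elements conjugate into a TI subgroup. -/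
theorem card_KK {G : Type u} [Group G] [Finite G] (A N : Subgroup G)
    (hN : ∀ x ∈ A, x ≠ 1 → ∀ g, g * x * g⁻¹ ∈ A ↔ g ∈ N) :
    Nat.card {g // KK A g} * Nat.card N = Nat.card G * (Nat.card A - 1) := by
  classical
  let f : G × {x : A // x ≠ 1} → {g // KK A g} := fun p =>
    ⟨p.1 * (p.2.1 : G) * p.1⁻¹, ⟨p.2.1, p.2.1.2, fun e => p.2.2 (Subtype.ext e),
      isConj_iff.2 ⟨p.1, rfl⟩⟩⟩
  have hf : ∀ b, Nat.card {a // f a = b} = Nat.card N := by
    rintro ⟨b, x0, hx0, hx01, hc⟩
    obtain ⟨h0, rfl⟩ := isConj_iff.1 hc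
    refine Nat.card_congr
      { toFun := fun a => ⟨a.1.1⁻¹ * h0, ?_⟩
        invFun := fun n => ⟨⟨h0 * (n : G)⁻¹, ⟨⟨n * x0 * (n : G)⁻¹, (hN x0 hx0 hx01 n).2 n.2⟩, ?_⟩⟩, ?_⟩
        left_inv := ?_
        right_inv := ?_ }
    · rw [← hN x0 hx0 hx01]
      have h1 : a.1.1 * (a.1.2.1 : G) * a.1.1⁻¹ = h0 * x0 * h0⁻¹ := congrArg Subtype.val a.2
      have h2 : a.1.1⁻¹ * h0 * x0 * (a.1.1⁻¹ * h0)⁻¹ = a.1.2.1 := by
        calc a.1.1⁻¹ * h0 * x0 * (a.1.1⁻¹ * h0)⁻¹ = a.1.1⁻¹ * (h0 * x0 * h0⁻¹) * a.1.1 := by group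
          _ = a.1.2.1 := conj_back h1
      rw [h2]; exact a.1.2.1.2
    · intro e
      apply hx01
      have h1 : (n : G) * x0 * (n : G)⁻¹ = 1 := congrArg Subtype.val e
      calc x0 = (n : G)⁻¹ * (n * x0 * (n : G)⁻¹) * n := by group
        _ = 1 := by rw [h1]; group
    · apply Subtype.ext
      show h0 * (n : G)⁻¹ * (n * x0 * (n : G)⁻¹) * (h0 * (n : G)⁻¹)⁻¹ = h0 * x0 * h0⁻¹
      group
    · rintro ⟨⟨g, ⟨⟨x, hx⟩, hx1⟩⟩, e⟩
      have h1 : g * x * g⁻¹ = h0 * x0 * h0⁻¹ := congrArg Subtype.val e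
      apply Subtype.ext
      apply Prod.ext
      · show h0 * (g⁻¹ * h0)⁻¹ = g
        group
      · apply Subtype.ext; apply Subtype.ext
        show (g⁻¹ * h0) * x0 * (g⁻¹ * h0)⁻¹ = x
        calc (g⁻¹ * h0) * x0 * (g⁻¹ * h0)⁻¹ = g⁻¹ * (h0 * x0 * h0⁻¹) * g := by group
          _ = x := conj_back h1
    · rintro ⟨n, hn⟩
      apply Subtype.ext
      show (h0 * n⁻¹)⁻¹ * h0 = n
      group
  have h1 := card_fibre f _ hf
  rw [Nat.card_prod, card_ne_one] at h1
  exact h1.symm

theorem int_of_rat_integral {z : ℂ} (hz : IsIntegral ℤ z) (q : ℚ) (hq : z = (q : ℂ)) :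
    ∃ n : ℤ, z = (n : ℂ) := by
  have h1 : IsIntegral ℤ (algebraMap ℚ ℂ q) := by
    rw [hq] at hz; exact hz
  have h2 : IsIntegral ℤ q :=
    (isIntegral_algebraMap_iff (algebraMap ℚ ℂ).injective).1 h1
  obtain ⟨n, hn⟩ := IsIntegrallyClosed.isIntegral_iff.1 h2
  refine ⟨n, ?_⟩
  rw [hq, ← hn]; simp

namespace SD

variable {G : Type u} [Group G] {t s : G} {K : Subgroup G} (h : SD t s K)

include h

theorem t1 : t ≠ 1 := ne_one_of_order h.ht

/-- Elements of `C(t)` outside `K`. -/
theorem eq_mul_s {g : G} (hg : g ∈ Subgroup.centralizer ({t} : Set G)) (hgK : g ∉ K) :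
    ∃ x ∈ K, g = x * s := by
  have hs2 := sq_one_of_order h.hs
  have hsi := inv_self_of h.hs
  have hsx : ∀ x ∈ K, s * x = x⁻¹ * s := by
    intro x hx
    rw [← h.inv x hx]; group
  let M : Subgroup G :=
    { carrier := {g | g ∈ K ∨ g * s ∈ K}
      one_mem' := Or.inl K.one_mem
      mul_mem' := by
        rintro a b (ha | ha) (hb | hb)
        · exact Or.inl (K.mul_mem ha hb)
        · right; rw [mul_assoc]; exact K.mul_mem ha hb
        · right
          have : a * b * s = (a * s) * b⁻¹ := by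
            calc a * b * s = a * (s * s) * b * s := by rw [hs2, mul_one]
              _ = a * s * (s * b * s⁻¹) := by rw [hsi]; group
              _ = _ := by rw [h.inv b hb]
          rw [this]; exact K.mul_mem ha (K.inv_mem hb)
        · left
          have : a * b = (a * s) * (b * s)⁻¹ := by
            calc a * b = a * (s * s) * b * (s * s) := by rw [hs2, mul_one, mul_one]
              _ = a * s * (s * (b * s) * s⁻¹) := by rw [hsi]; group
              _ = _ := by rw [h.inv _ hb]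
          rw [this]; exact K.mul_mem ha (K.inv_mem hb)
      inv_mem' := by
        rintro a (ha | ha)
        · exact Or.inl (K.inv_mem ha)
        · right
          have : a⁻¹ * s = a * s := by
            have h1 := h.inv _ ha
            rw [hsi, mul_inv_rev, hsi] at h1
            -- s * (a * s) * s = s * a⁻¹
            calc a⁻¹ * s = (s * s) * (a⁻¹ * s) := by rw [hs2, one_mul]
              _ = s * (s * a⁻¹) * s := by group
              _ = s * (s * (a * s) * s) * s := by rw [h1]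
              _ = (s * s) * (a * s) * (s * s) := by group
              _ = a * s := by rw [hs2]; group
          rw [this]; exact ha }
  have hM : Subgroup.centralizer ({t} : Set G) ≤ M := by
    rw [← h.hH]
    apply sup_le
    · intro x hx; exact Or.inl hx
    · rw [Subgroup.zpowers_le]
      right; rw [hs2]; exact K.one_mem
  rcases hM hg with h1 | h1
  · exact absurd h1 hgK
  · exact ⟨g * s, h1, by rw [mul_assoc, hs2, mul_one]⟩

theorem act {g : G} (hg : g ∈ Subgroup.centralizer ({t} : Set G)) (hgK : g ∉ K) :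
    ∀ x ∈ K, g * x * g⁻¹ = x⁻¹ := by
  intro x hx
  obtain ⟨y, hy, rfl⟩ := h.eq_mul_s hg hgK
  calc y * s * x * (y * s)⁻¹ = y * (s * x * s⁻¹) * y⁻¹ := by group
    _ = y * x⁻¹ * y⁻¹ := by rw [h.inv x hx]
    _ = x⁻¹ := by rw [h.ab y hy _ (K.inv_mem hx)]; group

theorem order_outer {g : G} (hg : g ∈ Subgroup.centralizer ({t} : Set G)) (hgK : g ∉ K) :
    orderOf g = 2 := by
  have h1 : g ≠ 1 := by rintro rfl; exact hgK K.one_mem
  refine order_two h1 ?_
  obtain ⟨y, hy, rfl⟩ := h.eq_mul_s hg hgK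
  calc y * s * (y * s) = y * (s * y * s⁻¹) * (s * s) := by group
    _ = 1 := by rw [h.inv y hy, sq_one_of_order h.hs]; group

theorem uniq : ∀ x ∈ K, x * x = 1 → x = 1 ∨ x = t := by
  intro x hx hxx
  have hxi : x⁻¹ = x := inv_eq_of_mul_eq_one_left hxx
  have h1 : x ∈ K ⊓ Subgroup.centralizer ({s} : Set G) := by
    refine Subgroup.mem_inf.2 ⟨hx, ?_⟩
    rw [Subgroup.mem_centralizer_singleton_iff]
    have h2 := h.inv x hx
    rw [hxi] at h2
    calc x * s = s * x * s⁻¹ * s := by rw [h2]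
      _ = s * x := by group
  rw [h.hCK, Subgroup.mem_zpowers_iff] at h1
  obtain ⟨n, rfl⟩ := h1
  have ht2 : t ^ 2 = 1 := by rw [sq]; exact sq_one_of_order h.ht
  rcases Int.even_or_odd' n with ⟨m, rfl | rfl⟩
  · left; rw [zpow_mul]; norm_cast; rw [ht2, one_zpow]
  · right; rw [zpow_add, zpow_mul]; norm_cast; rw [ht2, one_zpow, one_mul, pow_one]

theorem ti : ∀ x ∈ K, x ≠ 1 → ∀ g : G, g * x * g⁻¹ ∈ K → g ∈ Subgroup.centralizer ({t} : Set G) := by
  intro x hx hx1 g hg
  by_contra hgC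
  have h1 := h.TI g hgC
  have h2 : g * x * g⁻¹ ∈ K ⊓ K.map (MulAut.conj g).toMonoidHom := by
    refine Subgroup.mem_inf.2 ⟨hg, ?_⟩
    rw [Subgroup.mem_map]
    exact ⟨x, hx, by simp⟩
  rw [h1, Subgroup.mem_bot] at h2
  apply hx1
  calc x = g⁻¹ * (g * x * g⁻¹) * g := by group
    _ = 1 := by rw [h2]; group

theorem outer : ∀ g ∈ Subgroup.centralizer ({t} : Set G), g ∉ K → IsConj g t :=
  fun g hg hgK => h.hconj g t (h.order_outer hg hgK) h.ht

theorem card [Finite G] : Nat.card (Subgroup.centralizer ({t} : Set G)) = 2 * Nat.card K := by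
  have h1 : (K.subgroupOf (Subgroup.centralizer ({t} : Set G))).index = 2 := by
    rw [Subgroup.index_eq_two_iff]
    refine ⟨⟨s, h.sH⟩, ?_⟩
    intro b
    rw [Subgroup.mem_subgroupOf, Subgroup.mem_subgroupOf]
    by_cases hb : (b : G) ∈ K
    · right
      refine ⟨hb, ?_⟩
      intro h2
      apply h.sK
      have h3 : ((b * ⟨s, h.sH⟩ : Subgroup.centralizer ({t} : Set G)) : G) = b * s := rfl
      rw [h3] at h2
      exact (K.mul_mem_cancel_left hb).1 h2
    · left
      refine ⟨?_, hb⟩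
      obtain ⟨x, hx, e⟩ := h.eq_mul_s b.2 hb
      have h3 : ((b * ⟨s, h.sH⟩ : Subgroup.centralizer ({t} : Set G)) : G) = b * s := rfl
      rw [h3, e, mul_assoc, sq_one_of_order h.hs, mul_one]
      exact hx
  have h2 := Subgroup.card_mul_index (K.subgroupOf (Subgroup.centralizer ({t} : Set G)))
  rw [h1, Nat.card_congr (Subgroup.subgroupOfEquivOfLe h.KH).toEquiv] at h2
  omega

theorem normK {g : G} (hg : g ∈ Subgroup.centralizer ({t} : Set G)) {x : G} (hx : x ∈ K) :
    g * x * g⁻¹ ∈ K := by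
  by_cases hgK : g ∈ K
  · exact K.mul_mem (K.mul_mem hgK hx) (K.inv_mem hgK)
  · rw [h.act hg hgK x hx]; exact K.inv_mem hx

theorem index_odd [Finite G] : Odd (Subgroup.centralizer ({t} : Set G)).index := by
  haveI : Fact (Nat.Prime 2) := ⟨Nat.prime_two⟩
  let S : Sylow 2 G := default
  have hne : (S : Subgroup G) ≠ ⊥ := by
    intro hb
    have h1 : Nat.card (S : Subgroup G) = 1 := by rw [hb, Subgroup.card_bot]
    have h2 := S.card_eq_multiplicity
    have h3 : 2 ∣ Nat.card G := by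
      rw [← h.ht]; exact orderOf_dvd_natCard t
    have h4 : 1 ≤ (Nat.card G).factorization 2 :=
      (Nat.Prime.dvd_iff_one_le_factorization Nat.prime_two Nat.card_pos.ne').1 h3
    have h5 : Nat.card (S : Subgroup G) = 2 ^ (Nat.card G).factorization 2 := h2
    rw [h1] at h5
    have h6 : 2 ^ 1 ≤ 2 ^ (Nat.card G).factorization 2 := Nat.pow_le_pow_right (by norm_num) h4
    omega
  obtain ⟨z, hzS, hz, hzc⟩ := two_group_center_involution (S : Subgroup G) S.isPGroup' hne
  obtain ⟨g, hg⟩ := isConj_iff.1 (h.hconj z t hz h.ht)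
  -- the conjugate Sylow subgroup centralizes t
  let S' : Sylow 2 G := g • S
  have hle : (S' : Subgroup G) ≤ Subgroup.centralizer ({t} : Set G) := by
    intro y hy
    have h1 : g⁻¹ * y * g * z = z * (g⁻¹ * y * g) := hzc _ ((mem_sylow_smul S g y).1 hy)
    rw [Subgroup.mem_centralizer_singleton_iff, ← hg]
    calc y * (g * z * g⁻¹) = g * (g⁻¹ * y * g * z) * g⁻¹ := by group
      _ = g * z * g⁻¹ * y := by rw [h1]; group
  have h1 : (Subgroup.centralizer ({t} : Set G)).index ∣ (S' : Subgroup G).index :=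
    Subgroup.index_dvd_of_le hle
  have h2 : ¬ 2 ∣ (S' : Subgroup G).index := S'.not_dvd_index
  rw [← Nat.not_even_iff_odd, even_iff_two_dvd]
  intro h3
  exact h2 (dvd_trans h3 h1)

theorem two_le [Finite G] : 2 ≤ Nat.card K := by
  have h1 : 2 ∣ Nat.card K := by
    rw [← h.ht]; exact Subgroup.orderOf_dvd_natCard K h.tK
  exact Nat.le_of_dvd Nat.card_pos h1

theorem even_card [Finite G] : 2 ∣ Nat.card K := by
  rw [← h.ht]; exact Subgroup.orderOf_dvd_natCard K h.tK

theorem nI_K [Finite G] (x : G) (hx : x ∈ K) (hx1 : x ≠ 1) : nI x = Nat.card K := by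
  unfold nI
  symm
  have ks : ∀ y ∈ K, y * s ∈ Subgroup.centralizer ({t} : Set G) ∧ y * s ∉ K := by
    intro y hy
    refine ⟨Subgroup.mul_mem _ (h.KH hy) h.sH, ?_⟩
    intro h1
    exact h.sK ((K.mul_mem_cancel_left hy).1 h1)
  refine Nat.card_congr (Equiv.ofBijective (fun y : K => ⟨(y : G) * s, ?_, ?_⟩) ⟨?_, ?_⟩)
  · exact h.order_outer (ks y y.2).1 (ks y y.2).2
  · apply h.order_outer
    · exact Subgroup.mul_mem _ (ks y y.2).1 (h.KH hx)
    · intro h1
      exact (ks y y.2).2 ((K.mul_mem_cancel_right hx).1 h1)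
  · intro y y' e
    have h1 : (y : G) * s = y' * s := congrArg Subtype.val e
    exact Subtype.ext (mul_right_cancel h1)
  · rintro ⟨u, hu, hux⟩
    have h1 : u * x * u⁻¹ = x⁻¹ := by
      have h2 := sq_one_of_order hux
      rw [inv_self_of hu]
      calc u * x * u = u * x * (u * x) * x⁻¹ := by group
        _ = x⁻¹ := by rw [h2, one_mul]
    have hC := h.ti x hx hx1 u (by rw [h1]; exact K.inv_mem hx)
    have hn : u ∉ K := by
      intro huK
      have h2 := h.uniq u huK (sq_one_of_order hu)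
      have h3 : u = t := h2.resolve_left (ne_one_of_order hu)
      have h4 : x⁻¹ = x := by
        rw [← h1, h.ab u huK x hx]; group
      have h5 : x * x = 1 := by
        calc x * x = x⁻¹ * x := by rw [h4]
          _ = 1 := by group
      have h6 : x = t := (h.uniq x hx h5).resolve_left hx1
      rw [h3, h6, sq_one_of_order h.ht, orderOf_one] at hux
      omega
    obtain ⟨y, hy, e⟩ := h.eq_mul_s hC hn
    exact ⟨⟨y, hy⟩, Subtype.ext e.symm⟩

theorem kdata [Fintype G] [DecidableEq G] : BswChar.KData t K where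
  t1 := h.t1
  t2 := sq_one_of_order h.ht
  tK := h.tK
  ab := h.ab
  uniq := h.uniq
  card := h.card
  KH := h.KH
  ti := h.ti
  act := fun g hg hgK => h.act hg hgK
  outer := h.outer
  pairs := by
    intro x hx hx1
    rw [count_pairs h.ht h.hconj, h.nI_K x hx hx1]
    ring
  index_odd := h.index_odd

theorem card_KK_K [Finite G] : Nat.card {g // KK K g} =
    (Subgroup.centralizer ({t} : Set G)).index * (Nat.card K - 1) := by
  have h1 := card_KK K (Subgroup.centralizer ({t} : Set G)) (fun x hx hx1 g =>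
    ⟨fun hg => h.ti x hx hx1 g hg, fun hg => h.normK hg hx⟩)
  have h2 := Subgroup.card_mul_index (Subgroup.centralizer ({t} : Set G))
  rw [← h2] at h1
  have h3 : 0 < Nat.card (Subgroup.centralizer ({t} : Set G)) := Nat.card_pos
  apply Nat.eq_of_mul_eq_mul_right h3
  rw [h1]; ring

theorem not_KK_one : ¬ KK K (1 : G) := by
  rintro ⟨x, hx, hx1, hc⟩
  exact hx1 (isConj_one_left.1 hc)

/-- The arithmetic consequences of the character theory. -/
theorem char_out [Fintype G] : ∃ (δ : ℤ) (y : G → ℤ), (δ = 1 ∨ δ = -1) ∧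
    ((Subgroup.centralizer ({t} : Set G)).index : ℤ) =
      (2 * (Nat.card K : ℤ) + δ) * ((Nat.card K : ℤ) + δ) ∧
    y 1 = 2 * (Nat.card K : ℤ) + δ ∧ (∀ g, KK K g → y g = δ) ∧
    (∀ g, g ≠ 1 → ¬ KK K g → 2 * (nI g : ℤ) =
      (2 * (Nat.card K : ℤ) + δ) * (1 + δ) + (2 * (Nat.card K : ℤ) - 1 + δ) * y g) ∧
    ∑ g, y g = 0 ∧ ∑ g, (y g) ^ 2 = Nat.card G := by
  classical
  haveI : Fintype (IrrCharacter G) := Fintype.ofFinite _
  haveI : Fintype K := Fintype.ofFinite _
  obtain ⟨δ, θ, hδ, hθd, hθ1, hθK, hκ, hrest⟩ := h.kdata.main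
  have hk2 := h.two_le
  have hk2' : (2 : ℚ) ≤ (Nat.card K : ℚ) := by exact_mod_cast hk2
  have hcl := irr_isClassFunction θ
  have hrest' : ∀ g, g ≠ 1 → ¬ KK K g → 2 * (nI g : ℂ) =
      (2 * (Nat.card K : ℂ) + δ) * (1 + δ) + (2 * (Nat.card K : ℂ) - 1 + δ) *
        conj ((θ : G → ℂ) g) := by
    intro g hg1 hgK
    have h1 := hrest g (fun x hx hx1 hc => hgK ⟨x, hx, hx1, hc⟩) hg1
    have h2 := sum_char_nI h.ht h.hconj g
    rw [h1] at h2
    have h3 : ((Subgroup.centralizer ({t} : Set G)).index : ℂ) =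
        (2 * (Nat.card K : ℂ) + δ) * ((Nat.card K : ℂ) + δ) := by exact_mod_cast hκ
    rw [h3, h.card] at h2
    push_cast at h2
    have k0 : (Nat.card K : ℂ) ≠ 0 := by exact_mod_cast (by omega : Nat.card K ≠ 0)
    have n1 : (2 * (Nat.card K : ℂ) + δ) ≠ 0 := by
      have : (2 * (Nat.card K : ℤ) + δ) ≠ 0 := by rcases hδ with rfl | rfl <;> omega
      exact_mod_cast this
    have n2 : ((Nat.card K : ℂ) + δ) ≠ 0 := by
      have : ((Nat.card K : ℤ) + δ) ≠ 0 := by rcases hδ with rfl | rfl <;> omega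
      exact_mod_cast this
    have hd2 : (δ : ℂ) ^ 2 = 1 := by
      rcases hδ with rfl | rfl <;> norm_num
    apply mul_left_cancel₀ k0
    field_simp at h2
    linear_combination (-1 : ℂ) * h2 + 0 * hd2
  have hc0 : (2 * (Nat.card K : ℚ) - 1 + δ) ≠ 0 := by
    have : (0 : ℤ) < (2 * (Nat.card K : ℤ) - 1 + δ) := by rcases hδ with rfl | rfl <;> omega
    have h1 : (0 : ℚ) < ((2 * (Nat.card K : ℤ) - 1 + δ : ℤ) : ℚ) := by exact_mod_cast this
    push_cast at h1
    exact h1.ne'
  have hval : ∀ g : G, ∃ n : ℤ, (θ : G → ℂ) g = n := by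
    intro g
    by_cases hg1 : g = 1
    · exact ⟨2 * (Nat.card K : ℤ) + δ, by rw [hg1, hθ1]; push_cast; ring⟩
    by_cases hgK : KK K g
    · obtain ⟨x, hx, hx1, hc⟩ := hgK
      exact ⟨δ, by rw [← classFun_eq_of_isConj hcl hc, hθK x hx hx1]⟩
    · have h1 := hrest' g hg1 hgK
      have h2 : conj ((θ : G → ℂ) g) = (((2 * (nI g : ℚ) - (2 * (Nat.card K : ℚ) + δ) * (1 + δ)) /
          (2 * (Nat.card K : ℚ) - 1 + δ) : ℚ) : ℂ) := by
        have hc0' : (2 * (Nat.card K : ℂ) - 1 + δ) ≠ 0 := by exact_mod_cast hc0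
        push_cast
        rw [eq_div_iff hc0']
        linear_combination -h1
      have h3 : IsIntegral ℤ (conj ((θ : G → ℂ) g)) := by
        rw [← irr_inv]; exact irr_isIntegral θ _
      obtain ⟨n, hn⟩ := int_of_rat_integral h3 _ h2
      refine ⟨n, ?_⟩
      have h4 := congrArg conj hn
      rw [Complex.conj_conj] at h4
      rw [h4]; simp
  choose y hy using hval
  refine ⟨δ, y, hδ, hκ, ?_, ?_, ?_, ?_, ?_⟩
  · have h1 := hy 1
    rw [hθ1] at h1
    exact_mod_cast h1.symm
  · rintro g ⟨x, hx, hx1, hc⟩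
    have h1 := hy g
    rw [← classFun_eq_of_isConj hcl hc, hθK x hx hx1] at h1
    exact_mod_cast h1.symm
  · intro g hg1 hgK
    have h1 := hrest' g hg1 hgK
    rw [hy g, map_intCast] at h1
    exact_mod_cast h1
  · have h1 := classInner_irr_of_ne hθd
    unfold classInner at h1
    have h0 : (Nat.card G : ℂ)⁻¹ ≠ 0 := inv_ne_zero (by exact_mod_cast Nat.card_pos.ne')
    have h2 := (mul_eq_zero.1 h1).resolve_left h0
    have h3 : ∑ g : G, ((y g : ℤ) : ℂ) = 0 := by
      rw [← h2]
      refine Finset.sum_congr rfl (fun g _ => ?_)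
      rw [oneIrr_apply, map_one, mul_one, hy g]
    exact_mod_cast h3
  · have h1 := classInner_irr_self θ
    unfold classInner at h1
    have h0 : (Nat.card G : ℂ) ≠ 0 := by exact_mod_cast Nat.card_pos.ne'
    have h2 : ∑ g : G, (θ : G → ℂ) g * conj ((θ : G → ℂ) g) = Nat.card G := by
      rw [← mul_one (Nat.card G : ℂ), ← h1, mul_inv_cancel_left₀ h0]
    have h3 : ∑ g : G, ((y g : ℤ) : ℂ) ^ 2 = (Nat.card G : ℂ) := by
      rw [← h2]
      refine Finset.sum_congr rfl (fun g _ => ?_)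
      rw [hy g, map_intCast, sq]
    exact_mod_cast h3

theorem nI_out [Finite G] : ∃ (δ : ℤ) (y : G → ℤ), (δ = 1 ∨ δ = -1) ∧
    ((Subgroup.centralizer ({t} : Set G)).index : ℤ) =
      (2 * (Nat.card K : ℤ) + δ) * ((Nat.card K : ℤ) + δ) ∧
    (∀ g, g ≠ 1 → ¬ KK K g → 2 * (nI g : ℤ) =
      (2 * (Nat.card K : ℤ) + δ) * (1 + δ) + (2 * (Nat.card K : ℤ) - 1 + δ) * y g) ∧
    (∀ g, g ≠ 1 → ¬ KK K g → y g = 0 ∨ y g = -δ) ∧
    (Nat.card {g : G // g ≠ 1 ∧ ¬ KK K g ∧ y g = 0} : ℤ) = (2 * (Nat.card K : ℤ) + δ) ^ 2 - 1 := by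
  classical
  haveI : Fintype G := Fintype.ofFinite G
  obtain ⟨δ, y, hδ, hκ, hy1, hyK, hrest, hs, hq⟩ := h.char_out
  have hk2 := h.two_le
  set k : ℤ := (Nat.card K : ℤ) with hk
  set κ : ℤ := ((Subgroup.centralizer ({t} : Set G)).index : ℤ) with hκd
  have hd2 : δ * δ = 1 := by rcases hδ with rfl | rfl <;> norm_num
  let A : Finset G := {1}
  let B : Finset G := Finset.univ.filter (fun g => KK K g)
  let C : Finset G := Finset.univ.filter (fun g => g ≠ 1 ∧ ¬ KK K g)
  have hnK1 := h.not_KK_one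
  have hsplit : ∀ F : G → ℤ, ∑ g, F g = F 1 + ∑ g ∈ B, F g + ∑ g ∈ C, F g := by
    intro F
    rw [← Finset.sum_filter_add_sum_filter_not Finset.univ (fun g => KK K g)]
    have e1 : Finset.univ.filter (fun g => ¬ KK K g) = insert 1 C := by
      ext g
      simp only [Finset.mem_filter, Finset.mem_univ, true_and, Finset.mem_insert, C]
      constructor
      · intro h1
        by_cases hg : g = 1
        · exact Or.inl hg
        · exact Or.inr ⟨hg, h1⟩
      · rintro (rfl | h1)
        · exact hnK1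
        · exact h1.2
    rw [e1, Finset.sum_insert]
    · show ∑ g ∈ B, F g + _ = _
      ring
    · simp [C]
  have hBcard : (B.card : ℤ) = κ * (k - 1) := by
    have h1 := h.card_KK_K
    rw [Nat.card_eq_fintype_card, Fintype.card_subtype] at h1
    show ((Finset.univ.filter (fun g => KK K g)).card : ℤ) = _
    rw [h1]
    push_cast [Nat.cast_sub (by omega : 1 ≤ Nat.card K)]
    ring
  have hGcard : (Nat.card G : ℤ) = 2 * k * κ := by
    have h2 := Subgroup.card_mul_index (Subgroup.centralizer ({t} : Set G))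
    rw [h.card] at h2
    rw [← h2]; push_cast; ring
  have hBy : ∀ m : ℕ, ∑ g ∈ B, (y g) ^ m = κ * (k - 1) * δ ^ m := by
    intro m
    rw [Finset.sum_congr rfl (fun g hg => by
      rw [hyK g (by simpa [B] using hg)]), Finset.sum_const, nsmul_eq_mul, hBcard]
  have h1 := hsplit y
  have h2 := hsplit (fun g => (y g) ^ 2)
  rw [hs] at h1
  rw [hq] at h2
  have hB1 := hBy 1
  simp only [pow_one] at hB1
  rw [hy1, hB1] at h1
  simp only [hy1, hBy 2] at h2
  rw [hGcard] at h2
  have hsum : ∑ g ∈ C, y g * (y g + δ) = 0 := by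
    have e1 : ∑ g ∈ C, y g * (y g + δ) = ∑ g ∈ C, (y g) ^ 2 + δ * ∑ g ∈ C, y g := by
      rw [Finset.mul_sum, ← Finset.sum_add_distrib]
      refine Finset.sum_congr rfl (fun g _ => ?_)
      ring
    rw [e1]
    rw [hκ] at h1 h2
    rcases hδ with rfl | rfl
    · linear_combination (-1 : ℤ) * h2 - h1
    · linear_combination (-1 : ℤ) * h2 + h1
  have hnn : ∀ g ∈ C, 0 ≤ y g * (y g + δ) := by
    intro g _
    rcases hδ with rfl | rfl
    · rcases le_or_gt 0 (y g) with h3 | h3
      · exact mul_nonneg h3 (by omega)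
      · exact mul_nonneg_of_nonpos_of_nonpos h3.le (by omega)
    · rcases le_or_gt (y g) 0 with h3 | h3
      · exact mul_nonneg_of_nonpos_of_nonpos h3 (by omega)
      · exact mul_nonneg h3.le (by omega)
  have hzero := (Finset.sum_eq_zero_iff_of_nonneg hnn).1 hsum
  have hdich : ∀ g, g ≠ 1 → ¬ KK K g → y g = 0 ∨ y g = -δ := by
    intro g hg1 hgK
    have h3 := hzero g (by simp only [C, Finset.mem_filter, Finset.mem_univ, true_and]; exact ⟨hg1, hgK⟩)
    rcases mul_eq_zero.1 h3 with h4 | h4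
    · exact Or.inl h4
    · right; linarith
  refine ⟨δ, y, hδ, hκ, hrest, hdich, ?_⟩
  have hC : (C.card : ℤ) = 2 * k * κ - 1 - κ * (k - 1) := by
    have h3 := hsplit (fun _ => 1)
    simp only [Finset.sum_const, nsmul_eq_mul, mul_one, Finset.card_univ] at h3
    rw [← Nat.card_eq_fintype_card, hGcard, hBcard] at h3
    linarith
  have hC2 : C.filter (fun g => ¬ y g = 0) = C.filter (fun g => y g = -δ) := by
    apply Finset.filter_congr
    intro g hg
    simp only [C, Finset.mem_filter, Finset.mem_univ, true_and] at hg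
    rcases hdich g hg.1 hg.2 with h3 | h3
    · rw [h3]
      constructor
      · intro h4; exact absurd rfl h4
      · intro h4; rcases hδ with rfl | rfl <;> omega
    · rw [h3]
      constructor
      · intro _; rfl
      · intro _; rcases hδ with rfl | rfl <;> omega
  have hC3 : ∑ g ∈ C, (y g) ^ 2 = ((C.filter (fun g => ¬ y g = 0)).card : ℤ) := by
    rw [← Finset.sum_filter_add_sum_filter_not C (fun g => y g = 0)]
    rw [Finset.sum_eq_zero (fun g hg => by
      rw [(Finset.mem_filter.1 hg).2]; norm_num), zero_add, hC2]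
    rw [Finset.sum_congr rfl (fun g hg => by
      rw [(Finset.mem_filter.1 hg).2, neg_sq, sq, hd2]), Finset.sum_const, nsmul_eq_mul, mul_one]
  have hC4 := Finset.card_filter_add_card_filter_not (s := C) (fun g => y g = 0)
  have hC5 : Nat.card {g : G // g ≠ 1 ∧ ¬ KK K g ∧ y g = 0} = (C.filter (fun g => y g = 0)).card := by
    rw [Nat.card_eq_fintype_card, Fintype.card_subtype]
    congr 1
    ext g
    simp only [C, Finset.mem_filter, Finset.mem_univ, true_and, and_assoc]
  rw [hC5]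
  have hC6 : ((C.filter (fun g => y g = 0)).card : ℤ) = C.card - ∑ g ∈ C, (y g) ^ 2 := by
    rw [hC3]
    have : ((C.filter (fun g => y g = 0)).card : ℤ) + ((C.filter (fun g => ¬ y g = 0)).card : ℤ) =
        C.card := by exact_mod_cast hC4
    linarith
  rw [hC6, hC]
  have hd3 : δ ^ 2 = 1 := by rw [sq, hd2]
  rw [hd3] at h2
  linear_combination h2

/-- Information extracted from the characters: case `δ = 1`, `q = 2k+1`. -/
structure OutP (t : G) (K : Subgroup G) : Prop where
  index : (Subgroup.centralizer ({t} : Set G)).index = (2 * Nat.card K + 1) * (Nat.card K + 1)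
  nI : ∀ g, g ≠ 1 → ¬ KK K g → nI g = 2 * Nat.card K + 1 ∨ nI g = Nat.card K + 1
  card : Nat.card {g : G // g ≠ 1 ∧ ¬ KK K g ∧ BswGrp.nI g = 2 * Nat.card K + 1} =
    (2 * Nat.card K + 1) ^ 2 - 1

/-- Information extracted from the characters: case `δ = -1`, `q = 2k-1`. -/
structure OutM (t : G) (K : Subgroup G) : Prop where
  index : (Subgroup.centralizer ({t} : Set G)).index = (2 * Nat.card K - 1) * (Nat.card K - 1)
  nI : ∀ g, g ≠ 1 → ¬ KK K g → nI g = 0 ∨ nI g = Nat.card K - 1
  card : Nat.card {g : G // g ≠ 1 ∧ ¬ KK K g ∧ BswGrp.nI g = 0} = (2 * Nat.card K - 1) ^ 2 - 1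

theorem out [Finite G] : OutP t K ∨ OutM t K := by
  obtain ⟨δ, y, hδ, hκ, hrest, hdich, hcard⟩ := h.nI_out
  have hk2 := h.two_le
  rcases hδ with rfl | rfl
  · left
    have e1 : ∀ g, g ≠ 1 → ¬ KK K g → (BswGrp.nI g : ℤ) = 2 * (Nat.card K : ℤ) + 1 + (Nat.card K : ℤ) * y g := by
      intro g hg1 hgK
      have h1 := hrest g hg1 hgK
      linarith
    have hk0 : (Nat.card K : ℤ) ≠ 0 := by omega
    refine ⟨?_, ?_, ?_⟩
    · exact_mod_cast hκ
    · intro g hg1 hgK
      have h1 := e1 g hg1 hgK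
      rcases hdich g hg1 hgK with h2 | h2
      · left; rw [h2] at h1; have : (BswGrp.nI g : ℤ) = ((2 * Nat.card K + 1 : ℕ) : ℤ) := by
          push_cast; linarith
        exact_mod_cast this
      · right; rw [h2] at h1; have : (BswGrp.nI g : ℤ) = ((Nat.card K + 1 : ℕ) : ℤ) := by
          push_cast; linarith
        exact_mod_cast this
    · have h1 : Nat.card {g : G // g ≠ 1 ∧ ¬ KK K g ∧ BswGrp.nI g = 2 * Nat.card K + 1} =
          Nat.card {g : G // g ≠ 1 ∧ ¬ KK K g ∧ y g = 0} := by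
        apply Nat.card_congr
        apply Equiv.subtypeEquivRight
        intro g
        constructor
        · rintro ⟨h1, h2, h3⟩
          refine ⟨h1, h2, ?_⟩
          have h4 := e1 g h1 h2
          rw [h3] at h4
          push_cast at h4
          have h5 : (Nat.card K : ℤ) * y g = 0 := by linarith
          exact (mul_eq_zero.1 h5).resolve_left hk0
        · rintro ⟨h1, h2, h3⟩
          refine ⟨h1, h2, ?_⟩
          have h4 := e1 g h1 h2
          rw [h3, mul_zero, add_zero] at h4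
          exact_mod_cast h4
      rw [h1]
      have h2 : 1 ≤ (2 * Nat.card K + 1) ^ 2 := Nat.one_le_pow _ _ (by omega)
      zify [h2]
      rw [hcard]
  · right
    have e1 : ∀ g, g ≠ 1 → ¬ KK K g → (BswGrp.nI g : ℤ) = ((Nat.card K : ℤ) - 1) * y g := by
      intro g hg1 hgK
      have h1 := hrest g hg1 hgK
      linarith
    have hk0 : ((Nat.card K : ℤ) - 1) ≠ 0 := by omega
    refine ⟨?_, ?_, ?_⟩
    · zify [(by omega : 1 ≤ 2 * Nat.card K), (by omega : 1 ≤ Nat.card K)]
      rw [hκ]; ring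
    · intro g hg1 hgK
      have h1 := e1 g hg1 hgK
      rcases hdich g hg1 hgK with h2 | h2
      · left; rw [h2, mul_zero] at h1; exact_mod_cast h1
      · right; rw [h2] at h1
        zify [(by omega : 1 ≤ Nat.card K)]
        linarith
    · have h1 : Nat.card {g : G // g ≠ 1 ∧ ¬ KK K g ∧ BswGrp.nI g = 0} =
          Nat.card {g : G // g ≠ 1 ∧ ¬ KK K g ∧ y g = 0} := by
        apply Nat.card_congr
        apply Equiv.subtypeEquivRight
        intro g
        constructor
        · rintro ⟨h1, h2, h3⟩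
          refine ⟨h1, h2, ?_⟩
          have h4 := e1 g h1 h2
          rw [h3] at h4
          push_cast at h4
          exact (mul_eq_zero.1 h4.symm).resolve_left hk0
        · rintro ⟨h1, h2, h3⟩
          refine ⟨h1, h2, ?_⟩
          have h4 := e1 g h1 h2
          rw [h3, mul_zero] at h4
          exact_mod_cast h4
      rw [h1]
      have h2 : 1 ≤ (2 * Nat.card K - 1) ^ 2 := Nat.one_le_pow _ _ (by omega)
      zify [h2, (by omega : 1 ≤ 2 * Nat.card K)]
      rw [hcard]; ring

end SD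

end Cfsg.Agent.H55.BswGrp
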