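import Mathlib
import Cfsg.Agent.H55.BswGrp

set_option autoImplicit false
set_option linter.style.haveILetI false
set_option linter.unusedSectionVars false

/-!
# Local analysis in the Brauer–Suzuki–Wall situation and the case `q = 2k+1`
-/

namespace Cfsg.Agent.H55.BswGrp

universe u

/-- An involution acting fixed-point-freely inverts. -/
theorem inverts {G : Type u} [Group G] (Q : Subgroup G) [Finite Q] {u : G} (hu : u * u = 1)
    (hn : ∀ c ∈ Q, u * c * u⁻¹ ∈ Q) (hf : ∀ c ∈ Q, u * c * u⁻¹ = c → c = 1) :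
    (∀ c ∈ Q, u * c * u⁻¹ = c⁻¹) ∧ ∀ a ∈ Q, ∀ b ∈ Q, a * b = b * a := by
  have hui : u⁻¹ = u := inv_eq_of_mul_eq_one_left hu
  let φ : Q →* Q :=
    { toFun := fun c => ⟨u * c * u⁻¹, hn c c.2⟩
      map_one' := by apply Subtype.ext; show u * 1 * u⁻¹ = 1; group
      map_mul' := by
        intro a b
        apply Subtype.ext
        show u * (a * b) * u⁻¹ = (u * a * u⁻¹) * (u * b * u⁻¹)
        group }
  have hφ : MonoidHom.FixedPointFree φ := by
    intro c hc
    have h1 : u * (c : G) * u⁻¹ = c := congrArg Subtype.val hc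
    exact Subtype.ext (hf c c.2 h1)
  have h2 : Function.Involutive φ := by
    intro c
    apply Subtype.ext
    show u * (u * c * u⁻¹) * u⁻¹ = c
    rw [hui]
    calc u * (u * c * u) * u = (u * u) * c * (u * u) := by group
      _ = c := by rw [hu]; group
  constructor
  · intro c hc
    have h3 := congrFun (hφ.coe_eq_inv_of_involutive h2) ⟨c, hc⟩
    exact congrArg Subtype.val h3
  · intro a ha b hb
    have h3 := hφ.commute_all_of_involutive h2 ⟨a, ha⟩ ⟨b, hb⟩
    exact congrArg Subtype.val h3.eq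

theorem nI_conj {G : Type u} [Group G] (g x : G) : nI (g * x * g⁻¹) = nI x := by
  unfold nI
  symm
  apply Nat.card_congr
  refine Equiv.subtypeEquiv (MulAut.conj g).toEquiv (fun u => ?_)
  have h1 : (MulAut.conj g).toEquiv u = g * u * g⁻¹ := rfl
  rw [h1, orderOf_conj]
  have h2 : g * u * g⁻¹ * (g * x * g⁻¹) = g * (u * x) * g⁻¹ := by group
  rw [h2, orderOf_conj]

theorem inv_of_two_orders {G : Type u} [Group G] {u x : G} (hu : orderOf u = 2)
    (hux : orderOf (u * x) = 2) : u * x * u⁻¹ = x⁻¹ := by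
  have h2 := sq_one_of_order hux
  rw [inv_self_of hu]
  calc u * x * u = u * x * (u * x) * x⁻¹ := by group
    _ = x⁻¹ := by rw [h2, one_mul]

theorem exists_of_nI {G : Type u} [Group G] {x : G} (hx : nI x ≠ 0) :
    ∃ u, orderOf u = 2 ∧ u * x * u⁻¹ = x⁻¹ := by
  unfold nI at hx
  have h1 : Nonempty {u : G // orderOf u = 2 ∧ orderOf (u * x) = 2} := by
    by_contra hn
    rw [not_nonempty_iff] at hn
    exact hx (Nat.card_of_isEmpty)
  obtain ⟨u, hu, hux⟩ := h1
  exact ⟨u, hu, inv_of_two_orders hu hux⟩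

theorem KK_conj {G : Type u} [Group G] {K : Subgroup G} {x y : G} (hx : KK K x) (hc : IsConj x y) :
    KK K y := by
  obtain ⟨a, ha, ha1, hac⟩ := hx
  exact ⟨a, ha, ha1, hac.trans hc⟩

theorem KK_conj' {G : Type u} [Group G] {K : Subgroup G} {x : G} (g : G) (hx : KK K (g * x * g⁻¹)) :
    KK K x := KK_conj hx (isConj_iff.2 ⟨g⁻¹, by group⟩)

theorem mem_cen {G : Type u} [Group G] {x y : G} :
    y ∈ Subgroup.centralizer ({x} : Set G) ↔ y * x = x * y := Subgroup.mem_centralizer_singleton_iff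

namespace SD

variable {G : Type u} [Group G] {t s : G} {K : Subgroup G} (h : SD t s K)

include h

theorem KK_of_mem {y : G} (hy : y ∈ Subgroup.centralizer ({t} : Set G)) (hy1 : y ≠ 1) : KK K y := by
  by_cases hyK : y ∈ K
  · exact ⟨y, hyK, hy1, IsConj.refl y⟩
  · exact ⟨t, h.tK, h.t1, (h.outer y hy hyK).symm⟩

theorem KK_inv {u : G} (hu : orderOf u = 2) : KK K u := ⟨t, h.tK, h.t1, h.hconj t u h.ht hu⟩

theorem KK_of_commute {u y : G} (hu : orderOf u = 2) (hy : y * u = u * y) (hy1 : y ≠ 1) : KK K y := by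
  obtain ⟨g, hg⟩ := isConj_iff.1 (h.hconj u t hu h.ht)
  have h1 : g * y * g⁻¹ ∈ Subgroup.centralizer ({t} : Set G) := by
    rw [mem_cen, ← hg]
    calc g * y * g⁻¹ * (g * u * g⁻¹) = g * (y * u) * g⁻¹ := by group
      _ = g * u * g⁻¹ * (g * y * g⁻¹) := by rw [hy]; group
  have h2 : g * y * g⁻¹ ≠ 1 := by
    intro e
    apply hy1
    calc y = g⁻¹ * (g * y * g⁻¹) * g := by group
      _ = 1 := by rw [e]; group
  exact KK_conj' g (h.KK_of_mem h1 h2)

theorem not_KK_commute {x z : G} (hx1 : x ≠ 1) (hx : ¬ KK K x) (hz : z * x = x * z) :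
    ¬ KK K z := by
  rintro ⟨z0, hz0, hz01, hc⟩
  obtain ⟨g, hg⟩ := isConj_iff.1 hc
  have h1 : (g⁻¹ * x * g) * z0 * (g⁻¹ * x * g)⁻¹ = z0 := by
    have h2 : z0 = g⁻¹ * z * g := by rw [← hg]; group
    rw [h2]
    calc g⁻¹ * x * g * (g⁻¹ * z * g) * (g⁻¹ * x * g)⁻¹ = g⁻¹ * (x * z) * x⁻¹ * g := by group
      _ = g⁻¹ * z * g := by rw [← hz]; group
  have h2 := h.ti z0 hz0 hz01 (g⁻¹ * x * g) (by rw [h1]; exact hz0)
  have h3 : g⁻¹ * x * g ≠ 1 := by
    intro e
    apply hx1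
    calc x = g * (g⁻¹ * x * g) * g⁻¹ := by group
      _ = 1 := by rw [e]; group
  have h4 := h.KK_of_mem h2 h3
  apply hx
  have h5 := KK_conj h4 (y := x) (isConj_iff.2 ⟨g, by group⟩)
  exact h5

theorem KK_inv' {x : G} (hx : KK K x) : KK K x⁻¹ := by
  obtain ⟨a, ha, ha1, hc⟩ := hx
  obtain ⟨g, hg⟩ := isConj_iff.1 hc
  refine ⟨a⁻¹, K.inv_mem ha, inv_ne_one.2 ha1, isConj_iff.2 ⟨g, ?_⟩⟩
  rw [← hg]; group

variable [Finite G]

theorem inv_cen {x u : G} (hx1 : x ≠ 1) (hx : ¬ KK K x) (hu : orderOf u = 2)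
    (hux : u * x * u⁻¹ = x⁻¹) :
    (∀ c ∈ Subgroup.centralizer ({x} : Set G), u * c * u⁻¹ = c⁻¹) ∧
    ∀ a ∈ Subgroup.centralizer ({x} : Set G), ∀ b ∈ Subgroup.centralizer ({x} : Set G),
      a * b = b * a := by
  refine inverts _ (sq_one_of_order hu) ?_ ?_
  · intro c hc
    rw [mem_cen] at hc ⊢
    have h1 : x = u * x⁻¹ * u⁻¹ := by
      calc x = (x⁻¹)⁻¹ := by group
        _ = (u * x * u⁻¹)⁻¹ := by rw [hux]
        _ = _ := by group
    have h2 : c * x⁻¹ = x⁻¹ * c := by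
      calc c * x⁻¹ = x⁻¹ * (x * c) * x⁻¹ := by group
        _ = x⁻¹ * c := by rw [← hc]; group
    rw [h1]
    calc u * c * u⁻¹ * (u * x⁻¹ * u⁻¹) = u * (c * x⁻¹) * u⁻¹ := by group
      _ = u * x⁻¹ * u⁻¹ * (u * c * u⁻¹) := by rw [h2]; group
  · intro c hc hcu
    by_contra hc1
    rw [mem_cen] at hc
    apply h.not_KK_commute hx1 hx hc
    apply h.KK_of_commute hu _ hc1
    calc c * u = (u * c * u⁻¹) * u := by rw [hcu]
      _ = u * c := by group

theorem nI_eq {x u : G} (hx1 : x ≠ 1) (hx : ¬ KK K x) (hu : orderOf u = 2)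
    (hux : u * x * u⁻¹ = x⁻¹) : nI x = Nat.card (Subgroup.centralizer ({x} : Set G)) := by
  obtain ⟨hi, hab⟩ := h.inv_cen hx1 hx hu hux
  have key : ∀ c ∈ Subgroup.centralizer ({x} : Set G), orderOf (u * c) = 2 := by
    intro c hc
    apply order_two
    · intro e
      have h1 : u = c⁻¹ := eq_inv_of_mul_eq_one_left e
      have h2 : u ∈ Subgroup.centralizer ({x} : Set G) := by rw [h1]; exact Subgroup.inv_mem _ hc
      exact h.not_KK_commute hx1 hx (mem_cen.1 h2) (h.KK_inv hu)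
    · have h1 := hi c hc
      calc u * c * (u * c) = (u * c * u⁻¹) * (u * u) * c := by group
        _ = 1 := by rw [h1, sq_one_of_order hu]; group
  unfold nI
  symm
  refine Nat.card_congr (Equiv.ofBijective
    (fun c : Subgroup.centralizer ({x} : Set G) => ⟨u * (c : G), key c c.2, ?_⟩) ⟨?_, ?_⟩)
  · rw [mul_assoc]
    apply key
    exact Subgroup.mul_mem _ c.2 (mem_cen.2 rfl)
  · intro a b e
    have h1 : u * (a : G) = u * b := congrArg Subtype.val e
    exact Subtype.ext (mul_left_cancel h1)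
  · rintro ⟨v, hv, hvx⟩
    have h1 := inv_of_two_orders hv hvx
    refine ⟨⟨u * v, ?_⟩, ?_⟩
    · rw [mem_cen]
      have h2 : v * x = x⁻¹ * v := by rw [← h1]; group
      have h3 : u * x⁻¹ = x * u := by
        have : u * x⁻¹ * u⁻¹ = x := by
          calc u * x⁻¹ * u⁻¹ = (u * x * u⁻¹)⁻¹ := by group
            _ = x := by rw [hux]; group
        calc u * x⁻¹ = u * x⁻¹ * u⁻¹ * u := by group
          _ = x * u := by rw [this]
      calc u * v * x = u * (v * x) := by group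
        _ = u * x⁻¹ * v := by rw [h2]; group
        _ = x * (u * v) := by rw [h3]; group
    · apply Subtype.ext
      show u * (u * v) = v
      rw [← mul_assoc, sq_one_of_order hu, one_mul]

theorem cen_eq {x z u : G} (hx1 : x ≠ 1) (hx : ¬ KK K x) (hu : orderOf u = 2)
    (hux : u * x * u⁻¹ = x⁻¹) (hz : z ∈ Subgroup.centralizer ({x} : Set G)) (hz1 : z ≠ 1) :
    Subgroup.centralizer ({z} : Set G) = Subgroup.centralizer ({x} : Set G) := by
  obtain ⟨hi, hab⟩ := h.inv_cen hx1 hx hu hux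
  have hzK : ¬ KK K z := h.not_KK_commute hx1 hx (mem_cen.1 hz)
  obtain ⟨hi', hab'⟩ := h.inv_cen hz1 hzK hu (hi z hz)
  apply le_antisymm
  · intro y hy
    rw [mem_cen]
    exact hab' y hy x (mem_cen.2 (mem_cen.1 hz).symm)
  · intro y hy
    rw [mem_cen]
    exact hab y hy z hz

end SD

/-- The conclusion. -/
def Concl (G : Type u) [Group G] : Prop :=
    ∃ Q D : Subgroup G, 2 * Nat.card G = Nat.card ↥Q * (Nat.card ↥Q + 1) * (Nat.card ↥Q - 1) ∧
      (∀ x ∈ Q, x ≠ 1 → Subgroup.centralizer ({x} : Set G) = Q) ∧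
      (∀ a ∈ D, ∀ b ∈ D, a * b = b * a) ∧ 2 * Nat.card ↥D + 1 = Nat.card ↥Q ∧ Q ⊓ D = ⊥ ∧
      Subgroup.normalizer (Q : Set G) = Q ⊔ D ∧
      ∀ X : Subgroup G, X ≤ D → X ≠ ⊥ →
        Subgroup.normalizer (X : Set G) = Subgroup.normalizer (D : Set G) ∧
        ∃ u : G, orderOf u = 2 ∧ u ∉ D ∧ (∀ d ∈ D, u * d * u⁻¹ = d⁻¹) ∧
          Subgroup.normalizer (D : Set G) = D ⊔ Subgroup.zpowers u

theorem mem_norm {G : Type u} [Group G] [Finite G] {X : Subgroup G} {g : G} :
    g ∈ Subgroup.normalizer (X : Set G) ↔ ∀ x ∈ X, g * x * g⁻¹ ∈ X := by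
  constructor
  · intro hg x hx
    exact (Subgroup.mem_normalizer_iff.1 hg x).1 hx
  · intro hg
    rw [Subgroup.mem_normalizer_iff]
    intro x
    refine ⟨hg x, fun hx => ?_⟩
    -- the conjugation map is a bijection of the finite set X
    have hinj : Function.Injective (fun x : X => (⟨g * x * g⁻¹, hg x x.2⟩ : X)) := by
      intro a b e
      have h1 : g * (a : G) * g⁻¹ = g * b * g⁻¹ := congrArg Subtype.val e
      exact Subtype.ext (mul_left_cancel (mul_right_cancel h1))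
    have hsurj := Finite.surjective_of_injective hinj
    obtain ⟨⟨y, hy⟩, e⟩ := hsurj ⟨g * x * g⁻¹, hx⟩
    have h1 : g * y * g⁻¹ = g * x * g⁻¹ := congrArg Subtype.val e
    have h2 : y = x := mul_left_cancel (mul_right_cancel h1)
    rw [← h2]; exact hy

namespace SD

variable {G : Type u} [Group G] {t s : G} {K : Subgroup G} (h : SD t s K) [Finite G]

include h

theorem norm_sub {X : Subgroup G} (hX : X ≤ K) (hX1 : X ≠ ⊥) :
    Subgroup.normalizer (X : Set G) = Subgroup.centralizer ({t} : Set G) := by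
  apply le_antisymm
  · intro g hg
    obtain ⟨x, hx⟩ := (Subgroup.ne_bot_iff_exists_ne_one.1 hX1)
    exact h.ti x (hX x.2) (fun e => hx (Subtype.ext e)) g (hX (mem_norm.1 hg x x.2))
  · intro g hg
    rw [mem_norm]
    intro x hx
    by_cases hgK : g ∈ K
    · rw [h.ab g hgK x (hX hx), mul_inv_cancel_right]; exact hx
    · rw [h.act hg hgK x (hX hx)]; exact X.inv_mem hx

theorem caseP (o : OutP t K) : Concl G := by
  classical
  set k := Nat.card K with hk
  have hk2 := h.two_le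
  have hGcard : Nat.card G = 2 * k * ((2 * k + 1) * (k + 1)) := by
    rw [← Subgroup.card_mul_index (Subgroup.centralizer ({t} : Set G)), h.card, o.index]
  -- an element of `U` inverted by `t`
  obtain ⟨x, hx1, hxK, hnx, htx⟩ : ∃ x : G, x ≠ 1 ∧ ¬ KK K x ∧ BswGrp.nI x = 2 * k + 1 ∧
      t * x * t⁻¹ = x⁻¹ := by
    have h1 : 0 < Nat.card {g : G // g ≠ 1 ∧ ¬ KK K g ∧ BswGrp.nI g = 2 * k + 1} := by
      rw [o.card]
      have : 2 ^ 2 ≤ (2 * k + 1) ^ 2 := Nat.pow_le_pow_left (by omega) 2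
      have h2 : (2 * Nat.card K + 1) ^ 2 = (2 * k + 1) ^ 2 := rfl
      rw [h2]; omega
    obtain ⟨⟨x, hx1, hxK, hnx⟩⟩ := (Nat.card_pos_iff.1 h1).1
    obtain ⟨u, hu, hux⟩ := exists_of_nI (x := x) (by rw [hnx]; omega)
    obtain ⟨g, hg⟩ := isConj_iff.1 (h.hconj u t hu h.ht)
    refine ⟨g * x * g⁻¹, ?_, fun hc => hxK (KK_conj' g hc), by rw [nI_conj, hnx], ?_⟩
    · intro e
      apply hx1
      calc x = g⁻¹ * (g * x * g⁻¹) * g := by group
        _ = 1 := by rw [e]; group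
    · rw [← hg]
      calc g * u * g⁻¹ * (g * x * g⁻¹) * (g * u * g⁻¹)⁻¹ = g * (u * x * u⁻¹) * g⁻¹ := by group
        _ = (g * x * g⁻¹)⁻¹ := by rw [hux]; group
  obtain ⟨Q, hQ⟩ : ∃ Q : Subgroup G, Q = Subgroup.centralizer ({x} : Set G) := ⟨_, rfl⟩
  have hQc : Nat.card Q = 2 * k + 1 := by
    rw [hQ, ← h.nI_eq hx1 hxK h.ht htx, hnx]
  obtain ⟨hti, hQab⟩ := h.inv_cen hx1 hxK h.ht htx
  rw [← hQ] at hti hQab
  have hcen : ∀ z ∈ Q, z ≠ 1 → Subgroup.centralizer ({z} : Set G) = Q := by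
    intro z hz hz1
    rw [hQ] at hz ⊢
    exact h.cen_eq hx1 hxK h.ht htx hz hz1
  have hQK : ∀ z ∈ Q, z ≠ 1 → ¬ KK K z := by
    intro z hz _
    rw [hQ] at hz
    exact h.not_KK_commute hx1 hxK (mem_cen.1 hz)
  have hQU : ∀ z ∈ Q, z ≠ 1 → BswGrp.nI z = 2 * k + 1 := by
    intro z hz hz1
    rw [h.nI_eq hz1 (hQK z hz hz1) h.ht (hti z hz), hcen z hz hz1, hQc]
  have hnorm : ∀ z ∈ Q, z ≠ 1 → ∀ g, g * z * g⁻¹ ∈ Q ↔ g ∈ Subgroup.normalizer (Q : Set G) := by
    intro z hz hz1 g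
    constructor
    · intro hg
      rw [mem_norm]
      intro y hy
      have hg1 : g * z * g⁻¹ ≠ 1 := by
        intro e
        apply hz1
        calc z = g⁻¹ * (g * z * g⁻¹) * g := by group
          _ = 1 := by rw [e]; group
      rw [← hcen _ hg hg1, mem_cen]
      have h1 : y * z = z * y := hQab y hy z hz
      calc g * y * g⁻¹ * (g * z * g⁻¹) = g * (y * z) * g⁻¹ := by group
        _ = g * z * g⁻¹ * (g * y * g⁻¹) := by rw [h1]; group
    · intro hg
      exact mem_norm.1 hg z hz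
  have hcount := card_KK Q (Subgroup.normalizer (Q : Set G)) hnorm
  have hle : Nat.card {g // KK Q g} ≤ (2 * k + 1) ^ 2 - 1 := by
    have h1 : Nat.card {g // KK Q g} ≤
        Nat.card {g : G // g ≠ 1 ∧ ¬ KK K g ∧ BswGrp.nI g = 2 * k + 1} := by
      have himp : ∀ g, KK Q g → g ≠ 1 ∧ ¬ KK K g ∧ BswGrp.nI g = 2 * k + 1 := by
        rintro g ⟨z, hz, hz1, hc⟩
        obtain ⟨a, rfl⟩ := isConj_iff.1 hc
        refine ⟨?_, fun hc => hQK z hz hz1 (KK_conj' a hc), by rw [nI_conj, hQU z hz hz1]⟩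
        intro e
        apply hz1
        calc z = a⁻¹ * (a * z * a⁻¹) * a := by group
          _ = 1 := by rw [e]; group
      exact Nat.card_le_card_of_injective
        (fun g : {g // KK Q g} => (⟨g.1, himp g.1 g.2⟩ : {g : G // g ≠ 1 ∧ ¬ KK K g ∧ BswGrp.nI g = 2 * k + 1}))
        (by
          intro a b e
          have e1 : (a : G) = b :=
            congrArg (fun z : {g : G // g ≠ 1 ∧ ¬ KK K g ∧ BswGrp.nI g = 2 * k + 1} => (z : G)) e
          exact Subtype.ext e1)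
    rw [o.card] at h1
    exact h1
  -- the centralizer of `t` in the normalizer
  obtain ⟨L, hL⟩ : ∃ L : Subgroup G, L = Subgroup.normalizer (Q : Set G) ⊓
    Subgroup.centralizer ({t} : Set G) := ⟨_, rfl⟩
  have hmL : ∀ g, g ∈ L ↔ g ∈ Subgroup.normalizer (Q : Set G) ∧
      g ∈ Subgroup.centralizer ({t} : Set G) := by
    intro g; rw [hL]; exact Subgroup.mem_inf
  have htN : t ∈ Subgroup.normalizer (Q : Set G) := by
    rw [mem_norm]
    intro z hz
    rw [hti z hz]; exact Q.inv_mem hz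
  have hdec : ∀ n ∈ Subgroup.normalizer (Q : Set G), ∃ d ∈ Q, d⁻¹ * n ∈ L := by
    intro n hn
    have h1 : n * t * n⁻¹ * t ∈ Q := by
      rw [hQ, mem_cen]
      have hxQ : x ∈ Q := by rw [hQ, mem_cen]
      have h2 : n⁻¹ * x⁻¹ * n ∈ Q := by
        have := mem_norm.1 (Subgroup.inv_mem _ hn) x⁻¹ (Q.inv_mem hxQ)
        rwa [inv_inv] at this
      have h3 := hti _ h2
      have h4 : t * x = x⁻¹ * t := by rw [← htx]; group
      have h5 : t * (n⁻¹ * x⁻¹ * n) = (n⁻¹ * x * n) * t := by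
        calc t * (n⁻¹ * x⁻¹ * n) = t * (n⁻¹ * x⁻¹ * n) * t⁻¹ * t := by group
          _ = (n⁻¹ * x * n) * t := by rw [h3]; group
      calc n * t * n⁻¹ * t * x = n * t * n⁻¹ * (t * x) := by group
        _ = n * (t * (n⁻¹ * x⁻¹ * n)) * n⁻¹ * t := by rw [h4]; group
        _ = x * (n * t * n⁻¹ * t) := by rw [h5]; group
    have hcq : (n * t * n⁻¹ * t) ^ (2 * k + 1) = 1 := by
      rw [← hQc]
      exact orderOf_dvd_iff_pow_eq_one.1 (Subgroup.orderOf_dvd_natCard Q h1)
    obtain ⟨c, hc⟩ : ∃ c, c = n * t * n⁻¹ * t := ⟨_, rfl⟩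
    rw [← hc] at h1 hcq
    have hd : c ^ (k + 1) * c ^ (k + 1) = c := by
      rw [← pow_add]
      have : k + 1 + (k + 1) = (2 * k + 1) + 1 := by ring
      rw [this, pow_add, hcq, one_mul, pow_one]
    have hdQ : c ^ (k + 1) ∈ Q := Q.pow_mem h1 _
    refine ⟨c ^ (k + 1), hdQ, ?_⟩
    obtain ⟨d, hdd⟩ : ∃ d, d = c ^ (k + 1) := ⟨_, rfl⟩
    rw [← hdd] at hd hdQ ⊢
    rw [hmL]
    refine ⟨Subgroup.mul_mem _ (Subgroup.inv_mem _ (Subgroup.le_normalizer hdQ)) hn, ?_⟩
    rw [mem_cen]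
    have htt := sq_one_of_order h.ht
    have h2 : n * t * n⁻¹ = c * t := by
      rw [hc]
      calc n * t * n⁻¹ = n * t * n⁻¹ * (t * t) := by rw [htt, mul_one]
        _ = _ := by group
    have h3 : t * d⁻¹ = d * t := by
      have := hti d⁻¹ (Q.inv_mem hdQ)
      rw [inv_inv] at this
      calc t * d⁻¹ = t * d⁻¹ * t⁻¹ * t := by group
        _ = d * t := by rw [this]
    calc d⁻¹ * n * t = d⁻¹ * (n * t * n⁻¹) * n := by group
      _ = d⁻¹ * (d * d * t) * n := by rw [h2, hd]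
      _ = d * t * n := by group
      _ = t * (d⁻¹ * n) := by rw [← h3]; group
  have hNle : Nat.card (Subgroup.normalizer (Q : Set G)) ≤ (2 * k + 1) * Nat.card L := by
    rw [← hQc, ← Nat.card_prod]
    have hmem : ∀ p : Q × L, (p.1 : G) * p.2 ∈ Subgroup.normalizer (Q : Set G) := by
      intro p
      exact Subgroup.mul_mem _ (Subgroup.le_normalizer p.1.2) ((hmL _).1 p.2.2).1
    refine Nat.card_le_card_of_surjective
      (fun p : Q × L => (⟨(p.1 : G) * p.2, hmem p⟩ : Subgroup.normalizer (Q : Set G))) ?_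
    rintro ⟨n, hn⟩
    obtain ⟨d, hd, hl⟩ := hdec n hn
    refine ⟨⟨⟨d, hd⟩, ⟨d⁻¹ * n, hl⟩⟩, ?_⟩
    apply Subtype.ext
    show d * (d⁻¹ * n) = n
    group
  have hLK : L ≤ K := by
    intro l hl
    obtain ⟨hlN, hlC⟩ := (hmL l).1 hl
    by_contra hlK
    have hol := h.order_outer hlC hlK
    have h1 := inverts Q (sq_one_of_order hol) (mem_norm.1 hlN) (by
      intro c hc hcl
      by_contra hc1
      apply hQK c hc hc1
      apply h.KK_of_commute hol _ hc1
      calc c * l = (l * c * l⁻¹) * l := by rw [hcl]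
        _ = l * c := by group)
    have hxQ : x ∈ Q := by rw [hQ, mem_cen]
    have h2 : l * t ∈ Q := by
      rw [hQ, mem_cen]
      have h3 := h1.1 x⁻¹ (Q.inv_mem hxQ)
      rw [inv_inv] at h3
      have h4 : t * x = x⁻¹ * t := by rw [← htx]; group
      have h5 : l * x⁻¹ = x * l := by
        calc l * x⁻¹ = l * x⁻¹ * l⁻¹ * l := by group
          _ = x * l := by rw [h3]
      calc l * t * x = l * (t * x) := by group
        _ = l * x⁻¹ * t := by rw [h4]; group
        _ = x * (l * t) := by rw [h5]; group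
    have h3 : l * t ≠ 1 := by
      intro e
      have : l = t := by
        have h4 := eq_inv_of_mul_eq_one_left e
        rw [inv_self_of h.ht] at h4
        exact h4
      rw [this] at hlK
      exact hlK h.tK
    exact hQK _ h2 h3 (h.KK_of_mem (Subgroup.mul_mem _ hlC (h.KH h.tK)) h3)
  have hLcard : k ≤ Nat.card L := by
    have h1 : Nat.card G * (2 * k) ≤ ((2 * k + 1) ^ 2 - 1) * ((2 * k + 1) * Nat.card L) := by
      calc Nat.card G * (2 * k) = Nat.card {g // KK Q g} * Nat.card (Subgroup.normalizer (Q : Set G)) := by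
            rw [hcount, hQc]; rfl
        _ ≤ _ := Nat.mul_le_mul hle hNle
    rw [hGcard] at h1
    have h2 : (2 * k + 1) ^ 2 - 1 = 2 * k * (2 * (k + 1)) := by
      have : (2 * k + 1) ^ 2 = 2 * k * (2 * (k + 1)) + 1 := by ring
      omega
    rw [h2] at h1
    have h3 : (2 * k * (2 * k + 1) * (2 * (k + 1))) * k ≤
        (2 * k * (2 * k + 1) * (2 * (k + 1))) * Nat.card L := by
      calc (2 * k * (2 * k + 1) * (2 * (k + 1))) * k = 2 * k * ((2 * k + 1) * (k + 1)) * (2 * k) := by ring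
        _ ≤ _ := h1
        _ = _ := by ring
    exact Nat.le_of_mul_le_mul_left h3 (by positivity)
  have hLeq : L = K := Subgroup.eq_of_le_of_card_ge hLK hLcard
  have hKN : K ≤ Subgroup.normalizer (Q : Set G) := by
    intro y hy
    rw [← hLeq] at hy
    exact ((hmL y).1 hy).1
  refine ⟨Q, K, ?_, hcen, h.ab, ?_, ?_, ?_, ?_⟩
  · rw [hGcard, hQc]
    have : 2 * k + 1 - 1 = 2 * k := by omega
    rw [this]; ring
  · rw [hQc]
  · rw [eq_bot_iff]
    intro y hy
    obtain ⟨hyQ, hyK⟩ := Subgroup.mem_inf.1 hy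
    rw [Subgroup.mem_bot]
    by_contra hy1
    exact hQK y hyQ hy1 ⟨y, hyK, hy1, IsConj.refl y⟩
  · apply le_antisymm
    · intro n hn
      obtain ⟨d, hd, hl⟩ := hdec n hn
      rw [hLeq] at hl
      have : n = d * (d⁻¹ * n) := by group
      rw [this]
      exact Subgroup.mul_mem _ (Subgroup.mem_sup_left hd) (Subgroup.mem_sup_right hl)
    · exact sup_le Subgroup.le_normalizer hKN
  · intro X hX hX1
    have hKb : K ≠ ⊥ := fun e => h.t1 (by
      have := h.tK
      rw [e, Subgroup.mem_bot] at this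
      exact this)
    refine ⟨by rw [h.norm_sub hX hX1, h.norm_sub le_rfl hKb], s, h.hs, h.sK, h.inv, ?_⟩
    rw [h.norm_sub le_rfl hKb, h.hH]

end SD

end Cfsg.Agent.H55.BswGrp
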