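import Mathlib
import Cfsg.Agent.H55.BswR

set_option autoImplicit false
set_option linter.style.haveILetI false
set_option linter.unusedSectionVars false

/-!
# The case `q = 2k-1` of the Brauer–Suzuki–Wall theorem
-/

namespace Cfsg.Agent.H55.BswGrp

open Cfsg.Agent.CharBase

universe u

theorem exists_conj_mem {G : Type u} [Group G] [Finite G] {p : ℕ} [Fact p.Prime] (H : Subgroup G)
    (hp : ¬ p ∣ H.index) {z : G} (hz : orderOf z = p) : ∃ g : G, g⁻¹ * z * g ∈ H := by
  haveI : Finite (G ⧸ H) := inferInstance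
  have hP : IsPGroup p (Subgroup.zpowers z) := by
    apply IsPGroup.of_card (n := 1)
    rw [Nat.card_zpowers, hz, pow_one]
  obtain ⟨q, hq⟩ := hP.nonempty_fixed_point_of_prime_not_dvd_card (G ⧸ H) (by
    rw [← Subgroup.index_eq_card] at *; exact hp)
  induction q using QuotientGroup.induction_on with
  | H g =>
    refine ⟨g, ?_⟩
    have h1 := hq ⟨z, Subgroup.mem_zpowers z⟩
    have h2 : (QuotientGroup.mk (z * g) : G ⧸ H) = QuotientGroup.mk g := h1
    have h3 := QuotientGroup.eq.1 h2.symm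
    have h4 : g⁻¹ * z * g = g⁻¹ * (z * g) := by group
    rw [h4]; exact h3

/-- The set `U`. -/
def UU {G : Type u} [Group G] (K : Subgroup G) (x : G) : Prop := x ≠ 1 ∧ ¬ KK K x ∧ nI x = 0

theorem UU_conj {G : Type u} [Group G] {K : Subgroup G} {x y : G} (hx : UU K x) (hc : IsConj x y) :
    UU K y := by
  obtain ⟨g, rfl⟩ := isConj_iff.1 hc
  obtain ⟨h1, h2, h3⟩ := hx
  refine ⟨?_, fun hk => h2 (KK_conj' g hk), by rw [nI_conj, h3]⟩
  intro e
  apply h1
  calc x = g⁻¹ * (g * x * g⁻¹) * g := by group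
    _ = 1 := by rw [e]; group

/-- Data for the case `δ = -1`; here `q = 2m+1`. -/
structure MD {G : Type u} [Group G] (t s : G) (K : Subgroup G) (m : ℕ) : Prop where
  sd : SD t s K
  km : Nat.card K = m + 1
  mo : Odd m
  index : (Subgroup.centralizer ({t} : Set G)).index = (2 * m + 1) * m
  nI : ∀ g, g ≠ 1 → ¬ KK K g → nI g = 0 ∨ nI g = m
  card : Nat.card {g : G // UU K g} = (2 * m + 1) ^ 2 - 1

theorem SD.md {G : Type u} [Group G] [Finite G] {t s : G} {K : Subgroup G} (h : SD t s K)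
    (o : SD.OutM t K) : ∃ m, MD t s K m := by
  have hk2 := h.two_le
  obtain ⟨m, hm⟩ : ∃ m, Nat.card K = m + 1 := ⟨Nat.card K - 1, by omega⟩
  have e1 : 2 * (m + 1) - 1 = 2 * m + 1 := by omega
  have e2 : m + 1 - 1 = m := by omega
  refine ⟨m, h, hm, ?_, ?_, ?_, ?_⟩
  · have := h.even_card
    rw [hm] at this
    rw [← Nat.not_even_iff_odd]
    intro h1
    obtain ⟨a, ha⟩ := h1
    omega
  · rw [o.index, hm, e1, e2]
  · intro g hg1 hgK
    have := o.nI g hg1 hgK
    rwa [hm, e2] at this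
  · have := o.card
    rw [hm, e1] at this
    exact this

namespace MD

variable {G : Type u} [Group G] [Finite G] {t s : G} {K : Subgroup G} {m : ℕ} (h : MD t s K m)

include h

theorem mpos : 0 < m := h.mo.pos

theorem cardG : Nat.card G = 2 * (m + 1) * ((2 * m + 1) * m) := by
  rw [← Subgroup.card_mul_index (Subgroup.centralizer ({t} : Set G)), h.sd.card, h.index, h.km]

theorem UU_of_inv {x : G} (hx1 : x ≠ 1) (hxK : ¬ KK K x) (hx : BswGrp.nI x ≠ 0) :
    ∃ u, orderOf u = 2 ∧ u * x * u⁻¹ = x⁻¹ := exists_of_nI hx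

theorem not_inverted {x u : G} (hx : UU K x) (hu : orderOf u = 2) : u * x * u⁻¹ ≠ x⁻¹ := by
  intro e
  have h1 := h.sd.nI_eq hx.1 hx.2.1 hu e
  rw [hx.2.2] at h1
  have h2 : 0 < Nat.card (Subgroup.centralizer ({x} : Set G)) := Nat.card_pos
  omega

theorem not_commute {x u : G} (hx : UU K x) (hu : orderOf u = 2) : x * u ≠ u * x := by
  intro e
  exact hx.2.1 (h.sd.KK_of_commute hu e hx.1)

theorem UU_inv {x : G} (hx : UU K x) : UU K x⁻¹ := by
  refine ⟨inv_ne_one.2 hx.1, fun hc => hx.2.1 ?_, ?_⟩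
  · have := h.sd.KK_inv' hc
    rwa [inv_inv] at this
  · by_contra hn
    obtain ⟨u, hu, hux⟩ := exists_of_nI hn
    apply h.not_inverted hx hu
    calc u * x * u⁻¹ = (u * x⁻¹ * u⁻¹)⁻¹ := by group
      _ = x⁻¹ := by rw [hux, inv_inv]

theorem not_conj_inv {x : G} (hx : UU K x) : ¬ IsConj x x⁻¹ := by
  intro hc
  obtain ⟨g, hg⟩ := isConj_iff.1 hc
  have hpow : ∀ n : ℕ, g ^ n * x * (g ^ n)⁻¹ = x ∨ g ^ n * x * (g ^ n)⁻¹ = x⁻¹ := by
    intro n
    induction n with
    | zero => left; simp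
    | succ n ih =>
      have e : g ^ (n + 1) * x * (g ^ (n + 1))⁻¹ = g * (g ^ n * x * (g ^ n)⁻¹) * g⁻¹ := by
        rw [pow_succ']; group
      rw [e]
      rcases ih with h1 | h1
      · right; rw [h1, hg]
      · left; rw [h1]
        calc g * x⁻¹ * g⁻¹ = (g * x * g⁻¹)⁻¹ := by group
          _ = x := by rw [hg, inv_inv]
  have hg2 : g ^ 2 * x = x * g ^ 2 := by
    have e : g ^ 2 * x * (g ^ 2)⁻¹ = x := by
      calc g ^ 2 * x * (g ^ 2)⁻¹ = g * (g * x * g⁻¹) * g⁻¹ := by rw [sq]; group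
        _ = g * x⁻¹ * g⁻¹ := by rw [hg]
        _ = (g * x * g⁻¹)⁻¹ := by group
        _ = x := by rw [hg, inv_inv]
    calc g ^ 2 * x = g ^ 2 * x * (g ^ 2)⁻¹ * g ^ 2 := by group
      _ = x * g ^ 2 := by rw [e]
  rcases Nat.even_or_odd' (orderOf g) with ⟨c, hc | hc⟩
  · -- an involution
    have hpos : 0 < orderOf g := orderOf_pos g
    have hc0 : 0 < c := by omega
    have hv : orderOf (g ^ c) = 2 := by
      apply order_two
      · intro e
        have := orderOf_dvd_of_pow_eq_one e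
        have := Nat.le_of_dvd hc0 this
        omega
      · rw [← pow_add, ← two_mul, ← hc, pow_orderOf_eq_one]
    rcases hpow c with h1 | h1
    · apply h.not_commute hx hv
      calc x * g ^ c = (g ^ c * x * (g ^ c)⁻¹) * g ^ c := by rw [h1]
        _ = g ^ c * x := by group
    · exact h.not_inverted hx hv h1
  · have h1 : (g ^ 2) ^ (c + 1) = g := by
      rw [← pow_mul, show 2 * (c + 1) = orderOf g + 1 by omega, pow_add, pow_orderOf_eq_one, one_mul,
        pow_one]
    have h2 : Commute (g ^ 2) x := hg2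
    have h3 := (h2.pow_left (c + 1)).eq
    rw [h1] at h3
    have h4 : x = x⁻¹ := by
      rw [← hg, h3]; group
    have h5 : orderOf x = 2 := order_two hx.1 (by
      calc x * x = x * x⁻¹ := by rw [← h4]
        _ = 1 := by group)
    exact hx.2.1 (h.sd.KK_inv h5)

theorem cen_inv (x : G) : Subgroup.centralizer ({x⁻¹} : Set G) = Subgroup.centralizer ({x} : Set G) := by
  ext y
  rw [mem_cen, mem_cen]
  constructor
  · intro e
    calc y * x = x * (x⁻¹ * y) * x := by group
      _ = x * y := by rw [← e]; group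
  · intro e
    calc y * x⁻¹ = x⁻¹ * (x * y) * x⁻¹ := by group
      _ = x⁻¹ * y := by rw [← e]; group

/-- the map of two classes into `U` -/
def emb (x : G) (hx : UU K x) : {y // IsConj x y} ⊕ {y // IsConj x⁻¹ y} → {g : G // UU K g} :=
  Sum.elim (fun y => ⟨y.1, UU_conj hx y.2⟩) (fun y => ⟨y.1, UU_conj (h.UU_inv hx) y.2⟩)

theorem emb_inj (x : G) (hx : UU K x) : Function.Injective (h.emb x hx) := by
  rintro (a | a) (b | b) e
  · have e1 : (a : G) = b := congrArg (fun z : {g : G // UU K g} => (z : G)) e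
    rw [Subtype.ext e1]
  · exfalso
    have e1 : (a : G) = b := congrArg (fun z : {g : G // UU K g} => (z : G)) e
    apply h.not_conj_inv hx
    have := a.2
    rw [e1] at this
    exact this.trans b.2.symm
  · exfalso
    have e1 : (a : G) = b := congrArg (fun z : {g : G // UU K g} => (z : G)) e
    apply h.not_conj_inv hx
    have := a.2
    rw [e1] at this
    exact b.2.trans this.symm
  · have e1 : (a : G) = b := congrArg (fun z : {g : G // UU K g} => (z : G)) e
    rw [Subtype.ext e1]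

theorem two_index (x : G) : Nat.card ({y // IsConj x y} ⊕ {y // IsConj x⁻¹ y}) =
    2 * (Subgroup.centralizer ({x} : Set G)).index := by
  rw [Nat.card_sum, card_isConj_eq_index, card_isConj_eq_index, h.cen_inv x]
  ring

theorem index_le (x : G) (hx : UU K x) : 2 * (Subgroup.centralizer ({x} : Set G)).index ≤
    (2 * m + 1) ^ 2 - 1 := by
  rw [← h.card, ← h.two_index x]
  exact Nat.card_le_card_of_injective _ (h.emb_inj x hx)

theorem q_le (x : G) (hx : UU K x) : 2 * m + 1 ≤ Nat.card (Subgroup.centralizer ({x} : Set G)) := by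
  have h1 := h.index_le x hx
  have h2 := Subgroup.card_mul_index (Subgroup.centralizer ({x} : Set G))
  rw [h.cardG] at h2
  have h3 : (2 * m + 1) ^ 2 - 1 = 4 * (m * (m + 1)) := by
    have : (2 * m + 1) ^ 2 = 4 * (m * (m + 1)) + 1 := by ring
    omega
  rw [h3] at h1
  have h4 : (4 * (m * (m + 1))) * (2 * m + 1) ≤
      (4 * (m * (m + 1))) * Nat.card (Subgroup.centralizer ({x} : Set G)) := by
    calc (4 * (m * (m + 1))) * (2 * m + 1) = 2 * (2 * (m + 1) * ((2 * m + 1) * m)) := by ring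
      _ = Nat.card (Subgroup.centralizer ({x} : Set G)) *
        (2 * (Subgroup.centralizer ({x} : Set G)).index) := by rw [← h2]; ring
      _ ≤ Nat.card (Subgroup.centralizer ({x} : Set G)) * (4 * (m * (m + 1))) :=
        Nat.mul_le_mul_left _ h1
      _ = _ := by ring
  have := h.mpos
  exact Nat.le_of_mul_le_mul_left h4 (by positivity)

/-- The third set is nonempty unless `m = 1`. -/
theorem exists_V (hm : 1 < m) : ∃ v : G, v ≠ 1 ∧ ¬ KK K v ∧ BswGrp.nI v = m := by
  by_contra hn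
  push Not at hn
  have h1 : ∀ g : G, g = 1 ∨ KK K g ∨ UU K g := by
    intro g
    by_cases hg1 : g = 1
    · exact Or.inl hg1
    by_cases hgK : KK K g
    · exact Or.inr (Or.inl hgK)
    · right; right
      exact ⟨hg1, hgK, (h.nI g hg1 hgK).resolve_right (hn g hg1 hgK)⟩
  have h2 : Nat.card G ≤ Nat.card (Unit ⊕ ({g // KK K g} ⊕ {g : G // UU K g})) := by
    refine Nat.card_le_card_of_surjective
      (Sum.elim (fun _ => (1 : G)) (Sum.elim (fun y => y.1) (fun y => y.1))) ?_
    intro g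
    rcases h1 g with h2 | h2 | h2
    · exact ⟨Sum.inl (), h2.symm⟩
    · exact ⟨Sum.inr (Sum.inl ⟨g, h2⟩), rfl⟩
    · exact ⟨Sum.inr (Sum.inr ⟨g, h2⟩), rfl⟩
  rw [Nat.card_sum, Nat.card_sum, h.card, h.sd.card_KK_K, h.index, h.km, h.cardG, Nat.card_unique] at h2
  have e1 : m + 1 - 1 = m := by omega
  have e2 : 1 + ((2 * m + 1) * m * m + ((2 * m + 1) ^ 2 - 1)) =
      (2 * m + 1) * m * m + (2 * m + 1) ^ 2 := by
    have : 1 ≤ (2 * m + 1) ^ 2 := Nat.one_le_pow _ _ (by omega)
    omega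
  rw [e1, e2] at h2
  have h3 : (2 * m + 1) * (2 * (m + 1) * m) ≤ (2 * m + 1) * (m * m + (2 * m + 1)) := by
    calc (2 * m + 1) * (2 * (m + 1) * m) = 2 * (m + 1) * ((2 * m + 1) * m) := by ring
      _ ≤ _ := h2
      _ = _ := by ring
  have h4 := Nat.le_of_mul_le_mul_left h3 (by omega)
  nlinarith

theorem coprime_aux {p : ℕ} (hp : p.Prime) : ¬ (p ∣ 2 * (m + 1) ∧ p ∣ (2 * m + 1) * m) := by
  rintro ⟨h1, h2⟩
  rcases hp.dvd_mul.1 h2 with h3 | h3
  · have : p ∣ 1 := by
      have := (Nat.dvd_add_right h3).1 (show p ∣ (2 * m + 1) + 1 by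
        have : 2 * m + 1 + 1 = 2 * (m + 1) := by ring
        rw [this]; exact h1)
      exact this
    exact hp.one_lt.ne' (Nat.dvd_one.1 this)
  · have h4 : p ∣ 2 := by
      have : 2 * (m + 1) = 2 * m + 2 := by ring
      rw [this] at h1
      exact (Nat.dvd_add_right (dvd_mul_of_dvd_right h3 2)).1 h1
    have h5 : p = 2 := (Nat.prime_dvd_prime_iff_eq hp Nat.prime_two).1 h4
    rw [h5] at h3
    obtain ⟨a, ha⟩ := h.mo
    omega

theorem coprime_aux2 {p : ℕ} (hp : p.Prime) : ¬ (p ∣ m ∧ p ∣ 2 * (m + 1) * (2 * m + 1)) := by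
  rintro ⟨h1, h2⟩
  rcases hp.dvd_mul.1 h2 with h3 | h3
  · exact h.coprime_aux hp ⟨h3, dvd_mul_of_dvd_right h1 _⟩
  · have : p ∣ 1 := (Nat.dvd_add_right (dvd_mul_of_dvd_right h1 2)).1 h3
    exact hp.one_lt.ne' (Nat.dvd_one.1 this)

theorem cen_dvd (x : G) (hx : UU K x) : Nat.card (Subgroup.centralizer ({x} : Set G)) ∣ 2 * m + 1 := by
  have hcop : Nat.Coprime (Nat.card (Subgroup.centralizer ({x} : Set G))) (2 * (m + 1) * m) := by
    apply Nat.Coprime.symm
    rw [Nat.coprime_iff_gcd_eq_one] at *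
    by_contra hne
    obtain ⟨p, hp, hpd⟩ := Nat.exists_prime_and_dvd hne
    have hp1 : p ∣ 2 * (m + 1) * m := dvd_trans hpd (Nat.gcd_dvd_left _ _)
    have hp2 : p ∣ Nat.card (Subgroup.centralizer ({x} : Set G)) :=
      dvd_trans hpd (Nat.gcd_dvd_right _ _)
    haveI : Fact p.Prime := ⟨hp⟩
    obtain ⟨z, hz⟩ := exists_prime_orderOf_dvd_card' p hp2
    have hzo : orderOf (z : G) = p := by rw [Subgroup.orderOf_coe, hz]
    have hz1 : (z : G) ≠ 1 := by
      intro e; rw [e, orderOf_one] at hzo; exact hp.one_lt.ne hzo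
    have hzc := mem_cen.1 z.2
    have hzK : ¬ KK K (z : G) := h.sd.not_KK_commute hx.1 hx.2.1 hzc
    rcases hp.dvd_mul.1 hp1 with h3 | h3
    · obtain ⟨g, hg⟩ := exists_conj_mem (Subgroup.centralizer ({t} : Set G)) (by
        rw [h.index]; intro h4; exact h.coprime_aux hp ⟨h3, h4⟩) hzo
      apply hzK
      have h5 : g⁻¹ * (z : G) * g ≠ 1 := by
        intro e
        apply hz1
        calc (z : G) = g * (g⁻¹ * z * g) * g⁻¹ := by group
          _ = 1 := by rw [e]; group
      exact KK_conj (h.sd.KK_of_mem hg h5) (isConj_iff.2 ⟨g, by group⟩)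
    · have hm1 : 1 < m := lt_of_lt_of_le hp.one_lt (Nat.le_of_dvd h.mpos h3)
      obtain ⟨v, hv1, hvK, hvn⟩ := h.exists_V hm1
      obtain ⟨u, hu, huv⟩ := exists_of_nI (x := v) (by rw [hvn]; omega)
      have hcv := h.sd.nI_eq hv1 hvK hu huv
      rw [hvn] at hcv
      have hidx : (Subgroup.centralizer ({v} : Set G)).index = 2 * (m + 1) * (2 * m + 1) := by
        have h4 := Subgroup.card_mul_index (Subgroup.centralizer ({v} : Set G))
        rw [← hcv, h.cardG] at h4
        apply Nat.eq_of_mul_eq_mul_left h.mpos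
        rw [h4]; ring
      obtain ⟨g, hg⟩ := exists_conj_mem (Subgroup.centralizer ({v} : Set G)) (by
        rw [hidx]; intro h4; exact h.coprime_aux2 hp ⟨h3, h4⟩) hzo
      have h5 : g⁻¹ * (z : G) * g ≠ 1 := by
        intro e
        apply hz1
        calc (z : G) = g * (g⁻¹ * z * g) * g⁻¹ := by group
          _ = 1 := by rw [e]; group
      have h6 := h.sd.cen_eq hv1 hvK hu huv hg h5
      have h7 : g⁻¹ * x * g ∈ Subgroup.centralizer ({v} : Set G) := by
        rw [← h6, mem_cen]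
        calc g⁻¹ * x * g * (g⁻¹ * z * g) = g⁻¹ * (x * z) * g := by group
          _ = g⁻¹ * z * g * (g⁻¹ * x * g) := by rw [← hzc]; group
      have h8 := (h.sd.inv_cen hv1 hvK hu huv).1 _ h7
      exact h.not_inverted (UU_conj hx (isConj_iff.2 ⟨g⁻¹, by group⟩)) hu h8
  have h1 : Nat.card (Subgroup.centralizer ({x} : Set G)) ∣ (2 * (m + 1) * m) * (2 * m + 1) := by
    have : (2 * (m + 1) * m) * (2 * m + 1) = Nat.card G := by rw [h.cardG]; ring
    rw [this]; exact Subgroup.card_subgroup_dvd_card _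
  exact hcop.dvd_of_dvd_mul_left h1

theorem cen_card (x : G) (hx : UU K x) : Nat.card (Subgroup.centralizer ({x} : Set G)) = 2 * m + 1 :=
  le_antisymm (Nat.le_of_dvd (by omega) (h.cen_dvd x hx)) (h.q_le x hx)

theorem all_conj (x : G) (hx : UU K x) (y : G) (hy : UU K y) : IsConj x y ∨ IsConj x⁻¹ y := by
  classical
  haveI := Fintype.ofFinite ({y // IsConj x y} ⊕ {y // IsConj x⁻¹ y})
  haveI := Fintype.ofFinite {g : G // UU K g}
  have hcard : Nat.card ({y // IsConj x y} ⊕ {y // IsConj x⁻¹ y}) = Nat.card {g : G // UU K g} := by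
    rw [h.two_index, h.card]
    have h2 := Subgroup.card_mul_index (Subgroup.centralizer ({x} : Set G))
    rw [h.cardG, h.cen_card x hx] at h2
    have h3 : (2 * m + 1) ^ 2 - 1 = 4 * (m * (m + 1)) := by
      have : (2 * m + 1) ^ 2 = 4 * (m * (m + 1)) + 1 := by ring
      omega
    rw [h3]
    apply Nat.eq_of_mul_eq_mul_left (show 0 < 2 * m + 1 by omega)
    calc (2 * m + 1) * (2 * (Subgroup.centralizer ({x} : Set G)).index) =
        2 * ((2 * m + 1) * (Subgroup.centralizer ({x} : Set G)).index) := by ring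
      _ = _ := by rw [h2]; ring
  rw [Nat.card_eq_fintype_card, Nat.card_eq_fintype_card] at hcard
  have hbij := (Fintype.bijective_iff_injective_and_card (h.emb x hx)).2 ⟨h.emb_inj x hx, hcard⟩
  obtain ⟨a | a, ha⟩ := hbij.2 ⟨y, hy⟩
  · left
    have e : (a : G) = y := congrArg Subtype.val ha
    rw [← e]; exact a.2
  · right
    have e : (a : G) = y := congrArg Subtype.val ha
    rw [← e]; exact a.2

end MD

end Cfsg.Agent.H55.BswGrp
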