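import Mathlib

set_option autoImplicit false
set_option linter.style.haveILetI false
set_option linter.unusedSectionVars false

/-!
# Fixed-point-free automorphisms of order three: nilpotency class at most two
-/

namespace Cfsg.Agent.H55.Fpf3

open scoped commutatorElement

universe u

section Auto

variable {N : Type u} [Group N] [Finite N] (φ : N →* N) (hφ : ∀ n, φ n = n → n = 1)
  (h3 : ∀ n, φ (φ (φ n)) = n)

include hφ h3

theorem prod3 (n : N) : n * φ n * φ (φ n) = 1 := by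
  have h : MonoidHom.FixedPointFree φ := hφ
  have h1 := h.prod_pow_eq_one (n := 3) (by
    funext x
    exact h3 x) n
  simpa [List.range_succ, mul_assoc] using h1

theorem comm1 (n : N) : Commute n (φ n) := by
  have h1 := prod3 φ hφ h3 n
  have h2 := prod3 φ hφ h3 n⁻¹
  have e1 : n * φ n = (φ (φ n))⁻¹ := eq_inv_of_mul_eq_one_left h1
  have e2 : φ n * n = (φ (φ n))⁻¹ := by
    rw [map_inv, map_inv] at h2
    have h4 : (φ (φ n) * φ n * n)⁻¹ = 1 := by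
      rw [← h2]; group
    rw [inv_eq_one] at h4
    rw [mul_assoc] at h4
    exact eq_inv_of_mul_eq_one_right h4
  show n * φ n = φ n * n
  rw [e1, e2]

theorem B1 (n g : N) : Commute n (g * φ n * g⁻¹) := by
  have h : MonoidHom.FixedPointFree φ := hφ
  obtain ⟨k, hk⟩ := h.commutatorMap_surjective g
  have hk' : k * (φ k)⁻¹ = g := by rw [← hk]; rw [MonoidHom.commutatorMap_apply, div_eq_mul_inv]
  have h1 := comm1 φ hφ h3 (k⁻¹ * n * k)
  have h2 : g * φ n * g⁻¹ = k * φ (k⁻¹ * n * k) * k⁻¹ := by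
    rw [← hk', map_mul, map_mul, map_inv]; group
  rw [h2]
  show n * (k * φ (k⁻¹ * n * k) * k⁻¹) = (k * φ (k⁻¹ * n * k) * k⁻¹) * n
  have h3' := h1.eq
  calc n * (k * φ (k⁻¹ * n * k) * k⁻¹) = k * ((k⁻¹ * n * k) * φ (k⁻¹ * n * k)) * k⁻¹ := by group
    _ = k * (φ (k⁻¹ * n * k) * (k⁻¹ * n * k)) * k⁻¹ := by rw [h3']
    _ = _ := by group

theorem B2 (n g : N) : Commute n (g * φ (φ n) * g⁻¹) := by
  have h1 := B1 φ hφ h3 (φ (φ n)) g⁻¹
  rw [h3, inv_inv] at h1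
  show n * (g * φ (φ n) * g⁻¹) = (g * φ (φ n) * g⁻¹) * n
  have h2 := h1.eq
  calc n * (g * φ (φ n) * g⁻¹) = g * ((g⁻¹ * n * g) * φ (φ n)) * g⁻¹ := by group
    _ = g * (φ (φ n) * (g⁻¹ * n * g)) * g⁻¹ := by rw [h2]
    _ = _ := by group

theorem B3 (n g : N) : Commute n (g * n * g⁻¹) := by
  have h1 := prod3 φ hφ h3 n
  have h2 : g * n * g⁻¹ = ((g * φ n * g⁻¹) * (g * φ (φ n) * g⁻¹))⁻¹ := by
    have h4 : n = (φ n * φ (φ n))⁻¹ := by
      rw [mul_assoc] at h1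
      exact eq_inv_of_mul_eq_one_left h1
    calc g * n * g⁻¹ = g * (φ n * φ (φ n))⁻¹ * g⁻¹ := by rw [← h4]
      _ = _ := by group
  rw [h2]
  exact ((B1 φ hφ h3 n g).mul_right (B2 φ hφ h3 n g)).inv_right

omit [Finite N] hφ h3 in
/-- The elements all of whose conjugates commute with `a`. -/
def Bz (a : N) : Subgroup N where
  carrier := {b | ∀ g, Commute a (g * b * g⁻¹)}
  one_mem' := by intro g; simp
  mul_mem' := by
    intro b c hb hc g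
    have h1 : g * (b * c) * g⁻¹ = (g * b * g⁻¹) * (g * c * g⁻¹) := by group
    rw [h1]; exact (hb g).mul_right (hc g)
  inv_mem' := by
    intro b hb g
    have h1 : g * b⁻¹ * g⁻¹ = (g * b * g⁻¹)⁻¹ := by group
    rw [h1]; exact (hb g).inv_right

omit [Finite N] hφ h3 in
theorem mem_Bz {a b : N} : b ∈ Bz a ↔ ∀ g, Commute a (g * b * g⁻¹) := Iff.rfl

omit [Finite N] hφ h3 in
theorem Bz_conj {a b : N} (hb : b ∈ Bz a) (k : N) : k * b * k⁻¹ ∈ Bz a := by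
  intro g
  have h1 : g * (k * b * k⁻¹) * g⁻¹ = (g * k) * b * (g * k)⁻¹ := by group
  rw [h1]; exact hb _

omit [Finite N] hφ h3 in
theorem Bz_comm {a b : N} (hb : b ∈ Bz a) : Commute a b := by
  have := hb 1; simpa using this

omit [Finite N] hφ h3 in
theorem Bz_symm {a b : N} (hb : b ∈ Bz a) : a ∈ Bz b := by
  intro g
  have h1 := (hb g⁻¹).eq
  show b * (g * a * g⁻¹) = (g * a * g⁻¹) * b
  rw [inv_inv] at h1
  calc b * (g * a * g⁻¹) = g * ((g⁻¹ * b * g) * a) * g⁻¹ := by group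
    _ = g * (a * (g⁻¹ * b * g)) * g⁻¹ := by rw [h1]
    _ = _ := by group

omit [Finite N] hφ h3 in
theorem Bz_bracket_left {a b : N} (hb : b ∈ Bz a) (c : N) : ⁅b, c⁆ ∈ Bz a := by
  have h1 : ⁅b, c⁆ = b * (c * b⁻¹ * c⁻¹) := by rw [commutatorElement_def]; group
  rw [h1]
  exact (Bz a).mul_mem hb (Bz_conj ((Bz a).inv_mem hb) c)

omit [Finite N] hφ h3 in
theorem Bz_bracket_right {a b : N} (hb : b ∈ Bz a) (c : N) : ⁅c, b⁆ ∈ Bz a := by
  have h1 : ⁅c, b⁆ = (c * b * c⁻¹) * b⁻¹ := by rw [commutatorElement_def]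
  rw [h1]
  exact (Bz a).mul_mem (Bz_conj hb c) ((Bz a).inv_mem hb)

theorem self_Bz (a : N) : a ∈ Bz a := fun g => B3 φ hφ h3 a g
theorem phi_Bz (a : N) : φ a ∈ Bz a := fun g => B1 φ hφ h3 a g
theorem phi2_Bz (a : N) : φ (φ a) ∈ Bz a := fun g => B2 φ hφ h3 a g

theorem L1 (x y : N) : ⁅y, φ x⁆ = ⁅φ y, x⁆ := by
  have h0 : Commute (x * y) (φ x * φ y) := by
    have := comm1 φ hφ h3 (x * y)
    rwa [map_mul] at this
  have hx := comm1 φ hφ h3 x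
  have hy := comm1 φ hφ h3 y
  -- `[y, φ x]` commutes with `x`
  have c1 : Commute x ⁅y, φ x⁆ := Bz_comm (Bz_bracket_right (phi_Bz φ hφ h3 x) y)
  -- `[φ y, x]` commutes with `φ x`
  have c2 : Commute (φ x) ⁅φ y, x⁆ :=
    Bz_comm (Bz_bracket_right (Bz_symm (phi_Bz φ hφ h3 x)) (φ y))
  have e1 : x * y * (φ x * φ y) = ⁅y, φ x⁆ * (x * φ x * (y * φ y)) := by
    have : y * φ x = ⁅y, φ x⁆ * φ x * y := by rw [commutatorElement_def]; group
    calc x * y * (φ x * φ y) = x * (y * φ x) * φ y := by group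
      _ = (x * ⁅y, φ x⁆) * φ x * y * φ y := by rw [this]; group
      _ = (⁅y, φ x⁆ * x) * φ x * y * φ y := by rw [c1.eq]
      _ = _ := by group
  have e2 : φ x * φ y * (x * y) = ⁅φ y, x⁆ * (φ x * x * (φ y * y)) := by
    have : φ y * x = ⁅φ y, x⁆ * x * φ y := by rw [commutatorElement_def]; group
    calc φ x * φ y * (x * y) = φ x * (φ y * x) * y := by group
      _ = (φ x * ⁅φ y, x⁆) * x * φ y * y := by rw [this]; group
      _ = (⁅φ y, x⁆ * φ x) * x * φ y * y := by rw [c2.eq]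
      _ = _ := by group
  have e3 := h0.eq
  rw [e1, e2, hx.eq, hy.eq] at e3
  exact mul_right_cancel e3

omit [Finite N] hφ h3 in
/-- On an abelian normal subgroup on which all elements act "quadratically". -/
theorem L2 (A : Subgroup N) [hAn : A.Normal] (hA : ∀ a ∈ A, ∀ b ∈ A, a * b = b * a)
    (hE : ∀ a ∈ A, ∀ g : N, Commute g ⁅a, g⁆) {a : N} (ha : a ∈ A) (x z : N) :
    ⁅⁅a, x⁆, z⁆ * ⁅⁅a, z⁆, x⁆ = 1 := by
  letI : CommGroup A := { (inferInstance : Group A) with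
    mul_comm := fun a b => Subtype.ext (hA a a.2 b b.2) }
  let ρ : N → A → A := fun g a => ⟨g * a * g⁻¹, hAn.conj_mem a a.2 g⟩
  have ρm : ∀ g (a b : A), ρ g (a * b) = ρ g a * ρ g b := by
    intro g a b; apply Subtype.ext
    show g * (a * b) * g⁻¹ = (g * a * g⁻¹) * (g * b * g⁻¹)
    group
  have ρi : ∀ g (a : A), ρ g a⁻¹ = (ρ g a)⁻¹ := by
    intro g a; apply Subtype.ext
    show g * (a : N)⁻¹ * g⁻¹ = (g * a * g⁻¹)⁻¹
    group
  have ρg : ∀ g k (a : A), ρ (g * k) a = ρ g (ρ k a) := by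
    intro g k a; apply Subtype.ext
    show g * k * a * (g * k)⁻¹ = g * (k * a * k⁻¹) * g⁻¹
    group
  have ρv : ∀ g (a : A), ρ g⁻¹ a = a * a * (ρ g a)⁻¹ := by
    intro g a
    have h1 := (hE a a.2 g).eq
    rw [commutatorElement_def] at h1
    -- g * (a g a⁻¹ g⁻¹) = (a g a⁻¹ g⁻¹) * g
    have h2 : ρ g (a * (ρ g a)⁻¹) = a * (ρ g a)⁻¹ := by
      apply Subtype.ext
      show g * ((a : N) * (g * a * g⁻¹)⁻¹) * g⁻¹ = (a : N) * (g * a * g⁻¹)⁻¹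
      calc g * ((a : N) * (g * a * g⁻¹)⁻¹) * g⁻¹ = (g * (a * g * (a : N)⁻¹ * g⁻¹)) * g⁻¹ := by group
        _ = ((a * g * (a : N)⁻¹ * g⁻¹) * g) * g⁻¹ := by rw [h1]
        _ = _ := by group
    have h4 : ρ g⁻¹ (ρ g (a * (ρ g a)⁻¹)) = a * (ρ g a)⁻¹ := by
      apply Subtype.ext
      show g⁻¹ * (g * ((a : N) * (g * a * g⁻¹)⁻¹) * g⁻¹) * g⁻¹⁻¹ = (a : N) * (g * a * g⁻¹)⁻¹
      group
    rw [h2, ρm, ρi] at h4
    have h5 : ρ g⁻¹ (ρ g a) = a := by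
      apply Subtype.ext
      show g⁻¹ * (g * (a : N) * g⁻¹) * g⁻¹⁻¹ = a
      group
    rw [h5] at h4
    calc ρ g⁻¹ a = (ρ g⁻¹ a * a⁻¹) * a := by rw [inv_mul_cancel_right]
      _ = (a * (ρ g a)⁻¹) * a := by rw [h4]
      _ = a * a * (ρ g a)⁻¹ := by rw [mul_assoc, mul_comm ((ρ g a)⁻¹) a, ← mul_assoc]
  let a' : A := ⟨a, ha⟩
  have k1 : ρ (x * z)⁻¹ a' = a' * a' * (ρ x (ρ z a'))⁻¹ := by rw [ρv, ρg]
  have k2 : ρ (x * z)⁻¹ a' = (a' * a' * (ρ z a')⁻¹) * (a' * a' * (ρ z a')⁻¹) *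
      (ρ x a' * ρ x a' * (ρ z (ρ x a'))⁻¹)⁻¹ := by
    rw [mul_inv_rev, ρg, ρv x a', ρm, ρm, ρi, ρv z a', ρv z (ρ x a')]
  rw [k1] at k2
  have k3 : (a' * (ρ x a')⁻¹ * (ρ z a')⁻¹ * ρ z (ρ x a')) *
      (a' * (ρ z a')⁻¹ * (ρ x a')⁻¹ * ρ x (ρ z a')) = 1 := by
    have k4 := congrArg Additive.ofMul k2
    apply Additive.ofMul.injective
    simp only [ofMul_mul, ofMul_inv, ofMul_one] at k4 ⊢
    have k5 := sub_eq_zero.2 k4.symm
    rw [← k5]
    abel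
  have k6 : ⁅⁅a, x⁆, z⁆ = ((a' * (ρ x a')⁻¹ * (ρ z a')⁻¹ * ρ z (ρ x a') : A) : N) := by
    have e1 : ⁅⁅a, x⁆, z⁆ = ((a' * (ρ x a')⁻¹) * (ρ z (a' * (ρ x a')⁻¹))⁻¹ : A) := by
      show ⁅⁅a, x⁆, z⁆ = (a * (x * a * x⁻¹)⁻¹) * (z * (a * (x * a * x⁻¹)⁻¹) * z⁻¹)⁻¹
      rw [commutatorElement_def, commutatorElement_def]; group
    rw [e1]
    congr 1
    rw [ρm, ρi, mul_inv_rev, inv_inv, mul_comm (ρ z (ρ x a')) ((ρ z a')⁻¹), ← mul_assoc]
  have k7 : ⁅⁅a, z⁆, x⁆ = ((a' * (ρ z a')⁻¹ * (ρ x a')⁻¹ * ρ x (ρ z a') : A) : N) := by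
    have e1 : ⁅⁅a, z⁆, x⁆ = ((a' * (ρ z a')⁻¹) * (ρ x (a' * (ρ z a')⁻¹))⁻¹ : A) := by
      show ⁅⁅a, z⁆, x⁆ = (a * (z * a * z⁻¹)⁻¹) * (x * (a * (z * a * z⁻¹)⁻¹) * x⁻¹)⁻¹
      rw [commutatorElement_def, commutatorElement_def]; group
    rw [e1]
    congr 1
    rw [ρm, ρi, mul_inv_rev, inv_inv, mul_comm (ρ x (ρ z a')) ((ρ x a')⁻¹), ← mul_assoc]
  rw [k6, k7, ← Subgroup.coe_mul, k3]
  rfl

/-- Alternating property. -/
theorem L2' (y x z : N) : ⁅⁅y, x⁆, z⁆ = ⁅⁅y, z⁆, x⁆⁻¹ := by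
  -- the abelian normal subgroup: normal closure of `y`
  have hcomm : ∀ a ∈ Subgroup.normalClosure ({y} : Set N), ∀ b ∈ Subgroup.normalClosure ({y} : Set N),
      a * b = b * a := by
    haveI hn : (Bz y).Normal := ⟨fun b hb g => Bz_conj hb g⟩
    have h1 : Subgroup.normalClosure ({y} : Set N) ≤ Bz y :=
      Subgroup.normalClosure_le_normal (Set.singleton_subset_iff.2 (self_Bz φ hφ h3 y))
    intro a ha b hb
    -- `a ∈ Bz y`, so `y ∈ Bz a`, so the normal closure is in `Bz a`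
    haveI hn2 : (Bz a).Normal := ⟨fun b hb g => Bz_conj hb g⟩
    have h2 : y ∈ Bz a := Bz_symm (h1 ha)
    have h4 : Subgroup.normalClosure ({y} : Set N) ≤ Bz a :=
      Subgroup.normalClosure_le_normal (Set.singleton_subset_iff.2 h2)
    exact (Bz_comm (h4 hb)).eq
  have h1 := L2 (Subgroup.normalClosure ({y} : Set N)) hcomm
    (fun a _ g => Bz_comm (Bz_bracket_right (self_Bz φ hφ h3 g) a))
    (Subgroup.subset_normalClosure (Set.mem_singleton y)) x z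
  exact eq_inv_of_mul_eq_one_left h1

/-- **Class at most two.** -/
theorem class_two (y x z : N) : ⁅⁅y, x⁆, z⁆ = 1 := by
  have l4 : ∀ y x z : N, ⁅⁅y, φ x⁆, z⁆ = ⁅⁅φ y, x⁆, z⁆ := by
    intro y x z; rw [L1 φ hφ h3]
  have l3 : ∀ y x z : N, ⁅⁅y, x⁆, φ z⁆ = ⁅⁅φ (φ y), x⁆, z⁆ := by
    intro y x z
    rw [L1 φ hφ h3 z ⁅y, x⁆, map_commutatorElement, L1 φ hφ h3]
  have l5 : ∀ y x z : N, ⁅⁅φ (φ y), x⁆, z⁆ = ⁅⁅φ y, x⁆, z⁆ := by
    intro y x z
    rw [← l3, L2' φ hφ h3 y x (φ z), l4, ← L2' φ hφ h3 (φ y) x z]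
  have l6 : ∀ y x z : N, ⁅⁅φ y, x⁆, z⁆ = ⁅⁅y, x⁆, z⁆ := by
    intro y x z
    have h1 := l5 (φ (φ y)) x z
    rw [h3 (φ y), h3 y] at h1
    exact h1
  apply hφ
  rw [map_commutatorElement, map_commutatorElement, l3, h3, l4, l6]

end Auto

section Conj

variable {G : Type u} [Group G] {N : Subgroup G} [Finite N] {x : G} (hx3 : x ^ 3 = 1)
  (hxN : ∀ n ∈ N, x * n * x⁻¹ ∈ N) (hf : ∀ n ∈ N, x * n * x⁻¹ = n → n = 1)

/-- The automorphism of `N` given by conjugation. -/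
def phi (hxN : ∀ n ∈ N, x * n * x⁻¹ ∈ N) : N →* N where
  toFun n := ⟨x * n * x⁻¹, hxN n n.2⟩
  map_one' := by apply Subtype.ext; show x * 1 * x⁻¹ = 1; group
  map_mul' a b := by
    apply Subtype.ext
    show x * (a * b) * x⁻¹ = (x * a * x⁻¹) * (x * b * x⁻¹)
    group

theorem phi_coe (n : N) : (phi hxN n : G) = x * n * x⁻¹ := rfl

include hf in
theorem phi_fpf (n : N) (hn : phi hxN n = n) : n = 1 :=
  Subtype.ext (hf n n.2 (congrArg Subtype.val hn))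

include hx3 in
theorem phi_cube (n : N) : phi hxN (phi hxN (phi hxN n)) = n := by
  apply Subtype.ext
  show x * (x * (x * n * x⁻¹) * x⁻¹) * x⁻¹ = n
  have h1 : x * x * x = 1 := by rw [← hx3, pow_succ, pow_two]
  calc x * (x * (x * n * x⁻¹) * x⁻¹) * x⁻¹ = (x * x * x) * n * (x * x * x)⁻¹ := by group
    _ = n := by rw [h1]; group

include hx3 hxN hf

/-- `n · n^x · n^{x²} = 1`. -/
theorem conj_prod {n : G} (hn : n ∈ N) : n * (x * n * x⁻¹) * (x * (x * n * x⁻¹) * x⁻¹) = 1 := by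
  have h1 := prod3 (phi hxN) (phi_fpf hxN hf) (phi_cube hx3 hxN) ⟨n, hn⟩
  exact congrArg Subtype.val h1

theorem mul_cube {n : G} (hn : n ∈ N) : (n * x) ^ 3 = 1 := by
  have h1 := conj_prod hx3 hxN hf hn
  have h2 : x * x * x = 1 := by rw [← hx3, pow_succ, pow_two]
  calc (n * x) ^ 3 = (n * (x * n * x⁻¹) * (x * (x * n * x⁻¹) * x⁻¹)) * (x * x * x) := by
        rw [pow_succ, pow_two]; group
    _ = 1 := by rw [h1, h2, one_mul]

theorem mul_cube' {n : G} (hn : n ∈ N) : (x * n) ^ 3 = 1 := by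
  have h1 := mul_cube hx3 hxN hf hn
  have h2 : (x * n) ^ 3 = x * (n * x) ^ 3 * x⁻¹ := by
    rw [pow_succ, pow_two, pow_succ, pow_two]; group
  rw [h2, h1]; group

theorem conj_comm {n : G} (hn : n ∈ N) : Commute n (x * n * x⁻¹) := by
  have h1 := comm1 (phi hxN) (phi_fpf hxN hf) (phi_cube hx3 hxN) ⟨n, hn⟩
  exact congrArg Subtype.val h1.eq

/-- The coset `N x` is one `N`-class. -/
theorem exists_conj {n : G} (hn : n ∈ N) : ∃ m ∈ N, n * x = m * x * m⁻¹ := by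
  have h : MonoidHom.FixedPointFree (phi hxN) := phi_fpf hxN hf
  obtain ⟨g, hg⟩ := h.commutatorMap_surjective ⟨n, hn⟩
  refine ⟨g, g.2, ?_⟩
  rw [MonoidHom.commutatorMap_apply, div_eq_mul_inv] at hg
  have h1 : (g : G) * (x * g * x⁻¹)⁻¹ = n := congrArg Subtype.val hg
  rw [← h1]; group

theorem class2 {a b c : G} (ha : a ∈ N) (hb : b ∈ N) (hc : c ∈ N) : ⁅⁅a, b⁆, c⁆ = 1 := by
  have h1 := class_two (phi hxN) (phi_fpf hxN hf) (phi_cube hx3 hxN) ⟨a, ha⟩ ⟨b, hb⟩ ⟨c, hc⟩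
  exact congrArg Subtype.val h1

theorem nilp : Group.IsNilpotent N := by
  refine (Subgroup.isNilpotent_iff_lowerCentralSeries N).2 ⟨2, ?_⟩
  show ⁅⁅N, N⁆, N⁆ = ⊥
  rw [Subgroup.commutator_eq_bot_iff_le_centralizer, Subgroup.commutator_le]
  intro a ha b hb
  rw [Subgroup.mem_centralizer_iff]
  intro c hc
  have h2 := class2 hx3 hxN hf ha hb hc
  rw [commutatorElement_eq_one_iff_mul_comm] at h2
  exact h2.symm

theorem card_mod : Nat.card N % 3 = 1 := by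
  classical
  haveI := Fintype.ofFinite N
  let f : Function.End N := fun n => phi hxN n
  have h1 : f ^ 3 ^ 1 = 1 := by
    funext n
    exact phi_cube hx3 hxN n
  haveI : Fact (Nat.Prime 3) := ⟨Nat.prime_three⟩
  have h2 := Equiv.Perm.card_fixedPoints_modEq (f := f) h1
  have h3 : Fintype.card (Function.fixedPoints f) = 1 := by
    rw [Fintype.card_eq_one_iff]
    refine ⟨⟨1, map_one (phi hxN)⟩, ?_⟩
    rintro ⟨n, hn⟩
    exact Subtype.ext (phi_fpf hxN hf n hn)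
  rw [h3] at h2
  rw [Nat.card_eq_fintype_card]
  exact h2

end Conj

end Cfsg.Agent.H55.Fpf3
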