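import Mathlib
import Cfsg.Agent.H55.FpfThree
import Cfsg.Agent.H55.BswR
import Cfsg.Agent.H75.Tools

set_option autoImplicit false
set_option linter.style.haveILetI false
set_option linter.unusedSectionVars false

/-!
# Groups with a self-centralizing subgroup of order three: the three characters
-/

namespace Cfsg.Agent.H55.Three

open scoped ComplexConjugate BigOperators
open Cfsg Cfsg.Agent.CharBase Cfsg.Agent.H55.BswGrp

universe u

/-- `x` has order three and is self-centralizing. -/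
structure X3 {G : Type u} [Group G] (x : G) : Prop where
  ox : orderOf x = 3
  cen : ∀ g, g * x = x * g → g = 1 ∨ g = x ∨ g = x⁻¹

theorem pow3_of_order {G : Type u} [Group G] {x : G} (h : orderOf x = 3) : x ^ 3 = 1 := by
  rw [← h]; exact pow_orderOf_eq_one x

theorem inv_eq_sq {G : Type u} [Group G] {x : G} (h : x ^ 3 = 1) : x⁻¹ = x * x := by
  apply inv_eq_of_mul_eq_one_left
  rw [← h, pow_succ, pow_two]

theorem order_three {G : Type u} [Group G] {x : G} (h1 : x ≠ 1) (h : x ^ 3 = 1) : orderOf x = 3 :=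
  orderOf_eq_prime h h1

/-- Product formula for pairs of conjugates with given product. -/
theorem count_eq {G : Type u} [Group G] [Fintype G] [DecidableEq G] [Fintype (IrrCharacter G)]
    (g1 g2 x : G) :
    (∑ a : G, ∑ b : G, if (a * g1 * a⁻¹) * (b * g2 * b⁻¹) = x then (1 : ℂ) else 0) =
      (Nat.card G : ℂ) * ∑ χ : IrrCharacter G,
        ((χ : G → ℂ) g1 * (χ : G → ℂ) g2 / (χ : G → ℂ) 1) * conj ((χ : G → ℂ) x) := by
  have e0 : ∀ a : G, (∑ b : G, if (a * g1 * a⁻¹) * (b * g2 * b⁻¹) = x then (1 : ℂ) else 0) =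
      ∑ c : G, if a * (g1 * (c * g2 * c⁻¹)) * a⁻¹ = x then (1 : ℂ) else 0 := by
    intro a
    rw [← Equiv.sum_comp (Equiv.mulLeft a)
      (fun b => if (a * g1 * a⁻¹) * (b * g2 * b⁻¹) = x then (1 : ℂ) else 0)]
    refine Finset.sum_congr rfl (fun c _ => ?_)
    have : a * g1 * a⁻¹ * ((Equiv.mulLeft a) c * g2 * ((Equiv.mulLeft a) c)⁻¹) =
        a * (g1 * (c * g2 * c⁻¹)) * a⁻¹ := by
      simp only [Equiv.coe_mulLeft]; group
    rw [this]
  rw [Finset.sum_congr rfl (fun a _ => e0 a), Finset.sum_comm]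
  have e1 : ∀ c : G, (∑ a : G, if a * (g1 * (c * g2 * c⁻¹)) * a⁻¹ = x then (1 : ℂ) else 0) =
      ∑ χ : IrrCharacter G, (χ : G → ℂ) (g1 * (c * g2 * c⁻¹)) * conj ((χ : G → ℂ) x) := by
    intro c; rw [FourChar.col_count]
  rw [Finset.sum_congr rfl (fun c _ => e1 c), Finset.sum_comm, Finset.mul_sum]
  refine Finset.sum_congr rfl (fun χ _ => ?_)
  rw [← Finset.sum_mul, sum_conj_mul χ.2]
  ring

/-- Sum of a character over a cyclic group. -/
theorem sum_zpowers {G : Type u} [Group G] [Finite G] {χ : G → ℂ} (hχ : IsCharacter G χ) (g : G) :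
    ∃ n : ℕ, ∑ i ∈ Finset.range (orderOf g), χ (g ^ i) = (orderOf g : ℂ) * n := by
  classical
  haveI : Fintype (Subgroup.zpowers g) := Fintype.ofFinite _
  obtain ⟨n, hn⟩ := classInner_natCast (isCharacter_restrict hχ (Subgroup.zpowers g))
    (irr_isCharacter (oneIrr (Subgroup.zpowers g)))
  refine ⟨n, ?_⟩
  unfold classInner at hn
  have h0 : (Nat.card (Subgroup.zpowers g) : ℂ) ≠ 0 := by exact_mod_cast Nat.card_pos.ne'
  have h1 : ∑ y : Subgroup.zpowers g, χ y = (Nat.card (Subgroup.zpowers g) : ℂ) * n := by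
    rw [← hn, mul_inv_cancel_left₀ h0]
    refine Finset.sum_congr rfl (fun y _ => ?_)
    rw [oneIrr_apply, map_one, mul_one]
  rw [Nat.card_zpowers] at h1
  rw [← h1, Finset.sum_range (fun i => χ (g ^ i))]
  rw [← Equiv.sum_comp (finEquivZPowers (isOfFinOrder_of_finite g)) (fun y => χ (y : G))]
  refine Finset.sum_congr rfl (fun i _ => ?_)
  rw [finEquivZPowers_apply]

/-- Values at involutions are integers. -/
theorem int_inv {G : Type u} [Group G] [Finite G] {χ : G → ℂ} (hχ : IsCharacter G χ) {t : G}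
    (ht : orderOf t = 2) : ∃ z : ℤ, χ t = z := by
  obtain ⟨n, hn⟩ := sum_zpowers hχ t
  obtain ⟨d, hd⟩ := exists_nat_degree hχ
  rw [ht] at hn
  simp only [Finset.sum_range_succ, Finset.sum_range_zero, pow_zero, pow_one, zero_add] at hn
  refine ⟨2 * n - d, ?_⟩
  rw [hd] at hn
  push_cast at hn ⊢
  linear_combination hn

namespace X3

variable {G : Type u} [Group G] {x : G} (h : X3 x)

include h

theorem cube : x ^ 3 = 1 := pow3_of_order h.ox

theorem x1 : x ≠ 1 := by
  intro e; have := h.ox; rw [e, orderOf_one] at this; omega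

theorem xinv_ne : x⁻¹ ≠ x := by
  intro e
  have h1 : x * x = 1 := by
    calc x * x = x * x⁻¹ := by rw [e]
      _ = 1 := by group
  have h2 : x ^ 2 = 1 := by rw [sq]; exact h1
  have h3 := orderOf_dvd_of_pow_eq_one h2
  rw [h.ox] at h3
  omega

theorem card_cen [Finite G] : Nat.card (Subgroup.centralizer ({x} : Set G)) = 3 := by
  have h1 : Subgroup.centralizer ({x} : Set G) = Subgroup.zpowers x := by
    apply le_antisymm
    · intro g hg
      rw [Subgroup.mem_centralizer_singleton_iff] at hg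
      rcases h.cen g hg with rfl | rfl | rfl
      · exact Subgroup.one_mem _
      · exact Subgroup.mem_zpowers _
      · exact Subgroup.inv_mem _ (Subgroup.mem_zpowers _)
    · rw [Subgroup.zpowers_le, Subgroup.mem_centralizer_singleton_iff]
  rw [h1, Nat.card_zpowers, h.ox]

/-- Conjugates. -/
theorem conjg (g : G) : X3 (g * x * g⁻¹) := by
  refine ⟨by rw [orderOf_conj, h.ox], ?_⟩
  intro k hk
  have h1 : g⁻¹ * k * g * x = x * (g⁻¹ * k * g) := by
    calc g⁻¹ * k * g * x = g⁻¹ * (k * (g * x * g⁻¹)) * g := by group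
      _ = g⁻¹ * ((g * x * g⁻¹) * k) * g := by rw [hk]
      _ = _ := by group
  rcases h.cen _ h1 with e | e | e
  · left
    calc k = g * (g⁻¹ * k * g) * g⁻¹ := by group
      _ = 1 := by rw [e]; group
  · right; left
    calc k = g * (g⁻¹ * k * g) * g⁻¹ := by group
      _ = _ := by rw [e]
  · right; right
    calc k = g * (g⁻¹ * k * g) * g⁻¹ := by group
      _ = _ := by rw [e]; group

/-- The Sylow 3-subgroups have order three. -/
theorem sylow [Finite G] (S : Sylow 3 G) : Nat.card (S : Subgroup G) = 3 := by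
  haveI : Fact (Nat.Prime 3) := ⟨Nat.prime_three⟩
  have hp : IsPGroup 3 (Subgroup.zpowers x) := by
    apply IsPGroup.of_card (n := 1)
    rw [Nat.card_zpowers, h.ox, pow_one]
  obtain ⟨T, hT⟩ := hp.exists_le_sylow
  have hxT : x ∈ (T : Subgroup G) := hT (Subgroup.mem_zpowers x)
  have hT3 : Nat.card (T : Subgroup G) = 3 := by
    haveI : Nontrivial (T : Subgroup G) := ⟨⟨⟨x, hxT⟩, 1, fun e => h.x1 (congrArg Subtype.val e)⟩⟩
    haveI := T.isPGroup'.center_nontrivial
    obtain ⟨z, hz⟩ := exists_ne (1 : Subgroup.center (T : Subgroup G))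
    have hzc : ∀ g ∈ (T : Subgroup G), g * ((z : (T : Subgroup G)) : G) = ((z : (T : Subgroup G)) : G) * g := by
      intro g hg
      exact congrArg Subtype.val (Subgroup.mem_center_iff.1 z.2 ⟨g, hg⟩)
    have hz1 : ((z : (T : Subgroup G)) : G) ≠ 1 := fun e => hz (Subtype.ext (Subtype.ext e))
    have hle : (T : Subgroup G) ≤ Subgroup.centralizer ({x} : Set G) := by
      intro g hg
      rw [Subgroup.mem_centralizer_singleton_iff]
      have h1 := hzc g hg
      rcases h.cen _ (hzc x hxT).symm with e | e | e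
      · exact absurd e hz1
      · rw [e] at h1; exact h1
      · rw [e] at h1
        calc g * x = x * (x⁻¹ * g) * x := by group
          _ = x * g := by rw [← h1]; group
    have h2 := Subgroup.card_le_of_le hle
    rw [h.card_cen] at h2
    have h3 := Subgroup.card_le_of_le hT
    rw [Nat.card_zpowers, h.ox] at h3
    omega
  have hS := S.card_eq_multiplicity
  have hT' := T.card_eq_multiplicity
  rw [hS, ← hT', hT3]

theorem isConj_or [Finite G] {y : G} (hy : orderOf y = 3) : IsConj x y ∨ IsConj x⁻¹ y := by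
  haveI : Fact (Nat.Prime 3) := ⟨Nat.prime_three⟩
  have hp : IsPGroup 3 (Subgroup.zpowers x) := by
    apply IsPGroup.of_card (n := 1)
    rw [Nat.card_zpowers, h.ox, pow_one]
  obtain ⟨T, hT⟩ := hp.exists_le_sylow
  have hp' : IsPGroup 3 (Subgroup.zpowers y) := by
    apply IsPGroup.of_card (n := 1)
    rw [Nat.card_zpowers, hy, pow_one]
  obtain ⟨T', hT'⟩ := hp'.exists_le_sylow
  obtain ⟨g, hg⟩ := MulAction.exists_smul_eq G T' T
  have hTx : (T : Subgroup G) = Subgroup.zpowers x := by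
    symm
    apply Subgroup.eq_of_le_of_card_ge hT
    rw [h.sylow T, Nat.card_zpowers, h.ox]
  have h1 : g * y * g⁻¹ ∈ (T : Subgroup G) := by
    rw [← hg, mem_sylow_smul]
    have : g⁻¹ * (g * y * g⁻¹) * g = y := by group
    rw [this]; exact hT' (Subgroup.mem_zpowers y)
  rw [hTx] at h1
  have h2 : g * y * g⁻¹ * x = x * (g * y * g⁻¹) := by
    obtain ⟨k, hk⟩ := Subgroup.mem_zpowers_iff.1 h1
    rw [← hk]; exact ((Commute.refl x).zpow_left k).eq
  rcases h.cen _ h2 with e | e | e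
  · exfalso
    have : y = 1 := by
      calc y = g⁻¹ * (g * y * g⁻¹) * g := by group
        _ = 1 := by rw [e]; group
    rw [this, orderOf_one] at hy; omega
  · left; exact isConj_iff.2 ⟨g⁻¹, by rw [← e]; group⟩
  · right; exact isConj_iff.2 ⟨g⁻¹, by rw [← e]; group⟩

theorem isConj3 [Finite G] (hr : IsConj x x⁻¹) {y : G} (hy : orderOf y = 3) : IsConj x y := by
  rcases h.isConj_or hy with e | e
  · exact e
  · exact hr.trans e

theorem all [Finite G] {y : G} (hy : orderOf y = 3) : X3 y := by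
  rcases h.isConj_or hy with e | e
  · obtain ⟨g, rfl⟩ := isConj_iff.1 e
    exact h.conjg g
  · obtain ⟨g, rfl⟩ := isConj_iff.1 e
    have h1 : X3 x⁻¹ := by
      refine ⟨by rw [orderOf_inv, h.ox], ?_⟩
      intro k hk
      have h2 : k * x = x * k := by
        calc k * x = x * (x⁻¹ * k) * x := by group
          _ = x * k := by rw [← hk]; group
      rcases h.cen k h2 with e | e | e
      · exact Or.inl e
      · exact Or.inr (Or.inr (by rw [e, inv_inv]))
      · exact Or.inr (Or.inl e)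
    exact h1.conjg g

/-- Centralizers of elements not of order 3 are `3'`-groups. -/
theorem not_dvd_cen [Finite G] {t : G} (ht1 : t ≠ 1) (ht3 : orderOf t ≠ 3) :
    ¬ 3 ∣ Nat.card (Subgroup.centralizer ({t} : Set G)) := by
  intro hd
  haveI : Fact (Nat.Prime 3) := ⟨Nat.prime_three⟩
  obtain ⟨y, hy⟩ := exists_prime_orderOf_dvd_card' 3 hd
  have hyo : orderOf (y : G) = 3 := by rw [Subgroup.orderOf_coe, hy]
  have h1 := Subgroup.mem_centralizer_singleton_iff.1 y.2
  have h2 := h.all hyo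
  rcases h2.cen t h1.symm with e | e | e
  · exact ht1 e
  · apply ht3; rw [e]; exact hyo
  · apply ht3; rw [e, orderOf_inv]; exact hyo

section Char

variable [Fintype G] (hr : IsConj x x⁻¹)

include hr

theorem sum_x {χ : G → ℂ} (hχ : IsCharacter G χ) : ∃ n : ℕ, χ 1 + 2 * χ x = 3 * n := by
  obtain ⟨n, hn⟩ := sum_zpowers hχ x
  refine ⟨n, ?_⟩
  rw [h.ox] at hn
  simp only [Finset.sum_range_succ, Finset.sum_range_zero, pow_zero, pow_one, zero_add] at hn
  have h1 : χ (x ^ 2) = χ x := by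
    have h2 : x ^ 2 = x⁻¹ := by rw [inv_eq_sq h.cube, sq]
    rw [h2]
    exact (classFun_eq_of_isConj (isClassFunction_of_isCharacter hχ) hr).symm
  rw [h1] at hn
  push_cast at hn
  linear_combination hn

theorem int_x {χ : G → ℂ} (hχ : IsCharacter G χ) : ∃ z : ℤ, χ x = z := by
  obtain ⟨n, hn⟩ := h.sum_x hr hχ
  obtain ⟨d, hd⟩ := exists_nat_degree hχ
  rw [hd] at hn
  apply int_of_rat_integral (isIntegral_of_isCharacter hχ x) ((3 * n - d) / 2 : ℚ)
  push_cast
  linear_combination hn / 2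

/-- The three characters. -/
structure Chars (x : G) (χ₁ χ₂ : IrrCharacter G) (f : ℤ) : Prop where
  n1 : χ₁ ≠ oneIrr G
  n2 : χ₂ ≠ oneIrr G
  n12 : χ₁ ≠ χ₂
  d1 : (χ₁ : G → ℂ) 1 = f
  d2 : (χ₂ : G → ℂ) 1 = f + 1
  v1 : (χ₁ : G → ℂ) x = 1
  v2 : (χ₂ : G → ℂ) x = -1
  v0 : ∀ χ : IrrCharacter G, χ ≠ oneIrr G → χ ≠ χ₁ → χ ≠ χ₂ → (χ : G → ℂ) x = 0
  f1 : 1 ≤ f
  fmod : f % 3 = 1
  sum : ∀ g, ¬ IsConj x g → (χ₂ : G → ℂ) g = 1 + (χ₁ : G → ℂ) g

omit h hr in
theorem Chars.sum_three [Fintype (IrrCharacter G)] {χ₁ χ₂ : IrrCharacter G} {f : ℤ}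
    (c : Chars x χ₁ χ₂ f) (F : IrrCharacter G → ℂ) :
    ∑ χ : IrrCharacter G, F χ * conj ((χ : G → ℂ) x) = F (oneIrr G) + F χ₁ - F χ₂ := by
  classical
  have h1 : ∑ χ : IrrCharacter G, F χ * conj ((χ : G → ℂ) x) =
      ∑ χ ∈ {oneIrr G, χ₁, χ₂}, F χ * conj ((χ : G → ℂ) x) := by
    symm
    apply Finset.sum_subset (Finset.subset_univ _)
    intro χ _ hχ
    simp only [Finset.mem_insert, Finset.mem_singleton, not_or] at hχ
    rw [c.v0 χ hχ.1 hχ.2.1 hχ.2.2, map_zero, mul_zero]
  rw [h1, Finset.sum_insert, Finset.sum_insert, Finset.sum_singleton, c.v1, c.v2, oneIrr_apply]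
  · simp only [map_one, map_neg]; ring
  · simp only [Finset.mem_singleton]; exact c.n12
  · simp only [Finset.mem_insert, Finset.mem_singleton, not_or]
    exact ⟨c.n1.symm, c.n2.symm⟩

theorem exists_chars : ∃ (χ₁ χ₂ : IrrCharacter G) (f : ℤ), Chars x χ₁ χ₂ f := by
  classical
  haveI : Fintype (IrrCharacter G) := Fintype.ofFinite _
  choose z hz using fun χ : IrrCharacter G => h.int_x hr (irr_isCharacter χ)
  have hz1 : z (oneIrr G) = 1 := by
    have := hz (oneIrr G)
    rw [oneIrr_apply] at this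
    exact_mod_cast this.symm
  have hsq : ∑ χ, z χ ^ 2 = 3 := by
    have h1 := column_orthogonality (G := G) x x
    rw [if_pos (IsConj.refl x), h.card_cen] at h1
    have h2 : (∑ χ, ((z χ : ℤ) : ℂ) ^ 2) = 3 := by
      rw [show (3 : ℂ) = ((3 : ℕ) : ℂ) by norm_num, ← h1]
      refine Finset.sum_congr rfl (fun χ _ => ?_)
      rw [hz, map_intCast, sq]
    exact_mod_cast h2
  have hdeg : ∑ χ, z χ * FourChar.degI χ = 0 := by
    have h1 := column_orthogonality (G := G) x 1
    rw [if_neg (fun hc => h.x1 (isConj_one_left.1 hc))] at h1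
    have h2 : (∑ χ, ((z χ : ℤ) : ℂ) * (FourChar.degI χ : ℂ)) = 0 := by
      rw [← h1]
      refine Finset.sum_congr rfl (fun χ _ => ?_)
      rw [hz, FourChar.degI_spec, map_intCast]
    exact_mod_cast h2
  let S : Finset (IrrCharacter G) := Finset.univ.filter (fun χ => χ ≠ oneIrr G ∧ z χ ≠ 0)
  have hsplit : ∀ F : IrrCharacter G → ℤ, (∀ χ, z χ = 0 → F χ = 0) →
      ∑ χ, F χ = F (oneIrr G) + ∑ χ ∈ S, F χ := by
    intro F hF
    rw [← Finset.add_sum_erase Finset.univ F (Finset.mem_univ (oneIrr G))]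
    congr 1
    symm
    apply Finset.sum_subset
    · intro χ hχ
      simp only [S, Finset.mem_filter, Finset.mem_univ, true_and] at hχ
      simp [hχ.1]
    · intro χ hχ hn
      simp only [S, Finset.mem_filter, Finset.mem_univ, true_and, not_and, not_not] at hn
      simp only [Finset.mem_erase, Finset.mem_univ, and_true] at hχ
      exact hF χ (hn hχ)
  have hS2 : ∑ χ ∈ S, z χ ^ 2 = 2 := by
    have h1 := hsplit (fun χ => z χ ^ 2) (fun χ hχ => by rw [hχ]; norm_num)
    rw [hsq, hz1] at h1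
    linarith
  have hSd : ∑ χ ∈ S, z χ * FourChar.degI χ = - FourChar.degI (oneIrr G) := by
    have h1 := hsplit (fun χ => z χ * FourChar.degI χ) (fun χ hχ => by rw [hχ]; ring)
    rw [hdeg, hz1] at h1
    linarith
  have hd1 : FourChar.degI (oneIrr G) = 1 := by
    have := FourChar.degI_spec (oneIrr G)
    rw [oneIrr_apply] at this
    exact_mod_cast this.symm
  rw [hd1] at hSd
  have hpos : ∀ χ ∈ S, 1 ≤ z χ ^ 2 := by
    intro χ hχ
    simp only [S, Finset.mem_filter, Finset.mem_univ, true_and] at hχ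
    have := sq_nonneg (z χ)
    have h2 : z χ ^ 2 ≠ 0 := pow_ne_zero 2 hχ.2
    omega
  have hcard : S.card ≤ 2 := by
    have h1 := Finset.sum_le_sum hpos
    rw [hS2, Finset.sum_const, nsmul_eq_mul, mul_one] at h1
    exact_mod_cast h1
  have hS : ∃ χ₁ χ₂, χ₁ ≠ χ₂ ∧ S = {χ₁, χ₂} := by
    have h0 : S.card ≠ 0 := by
      intro e
      rw [Finset.card_eq_zero] at e
      rw [e, Finset.sum_empty] at hS2
      omega
    have h1 : S.card ≠ 1 := by
      intro e
      obtain ⟨χ, hχ⟩ := Finset.card_eq_one.1 e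
      rw [hχ, Finset.sum_singleton] at hS2
      have h3 : z χ ≤ 1 := by nlinarith
      have h4 : -1 ≤ z χ := by nlinarith
      have h5 : z χ = -1 ∨ z χ = 0 ∨ z χ = 1 := by omega
      rcases h5 with h5 | h5 | h5 <;> rw [h5] at hS2 <;> norm_num at hS2
    have h2 : S.card = 2 := by omega
    exact Finset.card_eq_two.1 h2
  obtain ⟨α, β, hαβ, hS⟩ := hS
  have hαS : α ∈ S := by rw [hS]; simp
  have hβS : β ∈ S := by rw [hS]; simp
  have hα1 := hpos α hαS
  have hβ1 := hpos β hβS
  have hs := hS2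
  rw [hS, Finset.sum_pair hαβ] at hs
  rw [hS, Finset.sum_pair hαβ] at hSd
  have hzα : z α = 1 ∨ z α = -1 := by
    have : (z α - 1) * (z α + 1) = 0 := by nlinarith
    rcases mul_eq_zero.1 this with e | e
    · left; omega
    · right; omega
  have hzβ : z β = 1 ∨ z β = -1 := by
    have : (z β - 1) * (z β + 1) = 0 := by nlinarith
    rcases mul_eq_zero.1 this with e | e
    · left; omega
    · right; omega
  have hdα := FourChar.degI_pos α
  have hdβ := FourChar.degI_pos β
  have hv0 : ∀ χ : IrrCharacter G, χ ≠ oneIrr G → χ ≠ α → χ ≠ β → (χ : G → ℂ) x = 0 := by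
    intro χ h1 h2 h3
    rw [hz]
    have : χ ∉ S := by rw [hS]; simp [h2, h3]
    simp only [S, Finset.mem_filter, Finset.mem_univ, true_and, not_and, not_not] at this
    rw [this h1]; simp
  have hα0 : α ≠ oneIrr G := by
    simp only [S, Finset.mem_filter, Finset.mem_univ, true_and] at hαS; exact hαS.1
  have hβ0 : β ≠ oneIrr G := by
    simp only [S, Finset.mem_filter, Finset.mem_univ, true_and] at hβS; exact hβS.1
  -- package
  have key : ∀ χ₁ χ₂ : IrrCharacter G, χ₁ ≠ oneIrr G → χ₂ ≠ oneIrr G → χ₁ ≠ χ₂ →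
      z χ₁ = 1 → z χ₂ = -1 → FourChar.degI χ₂ = FourChar.degI χ₁ + 1 → 1 ≤ FourChar.degI χ₁ →
      (∀ χ : IrrCharacter G, χ ≠ oneIrr G → χ ≠ χ₁ → χ ≠ χ₂ → (χ : G → ℂ) x = 0) →
      Chars x χ₁ χ₂ (FourChar.degI χ₁) := by
    intro χ₁ χ₂ n1 n2 n12 z1 z2 hd hf h0
    have w1 : (χ₁ : G → ℂ) x = 1 := by rw [hz, z1]; simp
    have w2 : (χ₂ : G → ℂ) x = -1 := by rw [hz, z2]; simp
    have hmod : FourChar.degI χ₁ % 3 = 1 := by
      obtain ⟨n, hn⟩ := h.sum_x hr (irr_isCharacter χ₁)
      rw [FourChar.degI_spec, w1] at hn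
      have : FourChar.degI χ₁ + 2 = 3 * n := by
        have h3 : ((FourChar.degI χ₁ + 2 : ℤ) : ℂ) = ((3 * n : ℤ) : ℂ) := by
          push_cast; linear_combination hn
        exact_mod_cast h3
      omega
    refine ⟨n1, n2, n12, FourChar.degI_spec _, by rw [FourChar.degI_spec, hd]; push_cast; ring,
      w1, w2, h0, hf, hmod, ?_⟩
    intro g hg
    have h3 := column_orthogonality (G := G) g x
    rw [if_neg (fun hc => hg hc.symm)] at h3
    have h4 : ∑ χ : IrrCharacter G, (χ : G → ℂ) g * conj ((χ : G → ℂ) x) =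
        1 + (χ₁ : G → ℂ) g - (χ₂ : G → ℂ) g := by
      have h5 : ∑ χ : IrrCharacter G, (χ : G → ℂ) g * conj ((χ : G → ℂ) x) =
          ∑ χ ∈ {oneIrr G, χ₁, χ₂}, (χ : G → ℂ) g * conj ((χ : G → ℂ) x) := by
        symm
        apply Finset.sum_subset (Finset.subset_univ _)
        intro χ _ hχ
        simp only [Finset.mem_insert, Finset.mem_singleton, not_or] at hχ
        rw [h0 χ hχ.1 hχ.2.1 hχ.2.2, map_zero, mul_zero]
      rw [h5, Finset.sum_insert, Finset.sum_insert, Finset.sum_singleton, w1, w2, oneIrr_apply,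
        oneIrr_apply]
      · simp only [map_one, map_neg]; ring
      · simp only [Finset.mem_singleton]; exact n12
      · simp only [Finset.mem_insert, Finset.mem_singleton, not_or]
        exact ⟨n1.symm, n2.symm⟩
    rw [h4] at h3
    linear_combination -h3
  rcases hzα with e1 | e1 <;> rcases hzβ with e2 | e2
  · exfalso; rw [e1, e2] at hSd; linarith
  · refine ⟨α, β, _, key α β hα0 hβ0 hαβ e1 e2 ?_ hdα hv0⟩
    rw [e1, e2] at hSd; linarith
  · refine ⟨β, α, _, key β α hβ0 hα0 hαβ.symm e2 e1 ?_ hdβ (fun χ a b c => hv0 χ a c b)⟩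
    rw [e1, e2] at hSd; linarith
  · exfalso; rw [e1, e2] at hSd; linarith

end Char

end X3

end Cfsg.Agent.H55.Three
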