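import Mathlib
import Cfsg.Agent.H55.ThreeChar

set_option autoImplicit false
set_option linter.style.haveILetI false
set_option linter.unusedSectionVars false

/-!
# Groups with a self-centralizing subgroup of order three: numerical consequences
-/

namespace Cfsg.Agent.H55.Three

open scoped ComplexConjugate BigOperators
open Cfsg Cfsg.Agent.CharBase Cfsg.Agent.H55.BswGrp

universe u

/-- Sum of a character over a (semidirect) product of two subgroups. -/
theorem sum_semidirect {G : Type u} [Group G] [Finite G] {χ : G → ℂ} (hχ : IsCharacter G χ)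
    (T Y : Subgroup G) [Fintype T] [Fintype Y] (hn : Y ≤ Subgroup.normalizer (T : Set G)) :
    ∃ m : ℕ, ∑ z : Y, ∑ n : T, χ (n * z) = (Nat.card Y : ℂ) * (Nat.card T : ℂ) * m := by
  classical
  let F := SemidirectProduct.monoidHomSubgroup hn
  let S := T ⋊[(T.normalizerMonoidHom).comp (Subgroup.inclusion hn)] Y
  let e : S ≃ T × Y := SemidirectProduct.equivProd
  haveI : Finite S := Finite.of_equiv _ e.symm
  haveI : Fintype S := Fintype.ofFinite _
  obtain ⟨m, hm⟩ := classInner_natCast (isCharacter_comp hχ F) (irr_isCharacter (oneIrr S))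
  refine ⟨m, ?_⟩
  unfold classInner at hm
  have hc : Nat.card S = Nat.card T * Nat.card Y := by
    rw [Nat.card_congr e, Nat.card_prod]
  have h0 : (Nat.card S : ℂ) ≠ 0 := by exact_mod_cast Nat.card_pos.ne'
  have h1 : ∑ y : S, (χ ∘ F) y = (Nat.card S : ℂ) * m := by
    rw [← hm, mul_inv_cancel_left₀ h0]
    refine Finset.sum_congr rfl (fun y _ => ?_)
    rw [oneIrr_apply, map_one, mul_one]
  rw [hc, ← Equiv.sum_comp e.symm, Fintype.sum_prod_type, Finset.sum_comm] at h1
  rw [show (Nat.card Y : ℂ) * (Nat.card T : ℂ) * m = ((Nat.card T * Nat.card Y : ℕ) : ℂ) * m by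
    push_cast; ring, ← h1]
  rfl

namespace X3

variable {G : Type u} [Group G] {x : G} (h : X3 x)

include h

theorem exists_inv (hr : IsConj x x⁻¹) : ∃ v : G, orderOf v = 2 ∧ v * x * v⁻¹ = x⁻¹ := by
  obtain ⟨g, hg⟩ := isConj_iff.1 hr
  have h1 : (g*g) * x = x * (g*g) := by
    have h2 : g * x⁻¹ * g⁻¹ = x := by
      calc g * x⁻¹ * g⁻¹ = (g * x * g⁻¹)⁻¹ := by group
        _ = x := by rw [hg, inv_inv]
    calc (g*g) * x = g * (g * x * g⁻¹) * g⁻¹ * (g * g) := by group
      _ = (g * x⁻¹ * g⁻¹) * (g*g) := by rw [hg]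
      _ = x * (g * g) := by rw [h2]
  have hne : g ≠ 1 := by
    rintro rfl
    apply h.xinv_ne; rw [← hg]; group
  have hnc : ¬ g * x = x * g := by
    intro e
    apply h.xinv_ne
    rw [← hg, e]; group
  rcases h.cen _ h1 with e | e | e
  · exact ⟨g, order_two hne e, hg⟩
  · exfalso; apply hnc; rw [← e]; group
  · exfalso; apply hnc
    have : x = (g*g)⁻¹ := by rw [e, inv_inv]
    rw [this]; group

theorem ord_vc {v c : G} (hv : orderOf v = 2) (hvx : v * x * v⁻¹ = x⁻¹) (hc : c * x = x * c) :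
    orderOf (v * c) = 2 := by
  have hvv := sq_one_of_order hv
  have hvi := inv_self_of hv
  have h1 : v * c * v⁻¹ = c⁻¹ := by
    rcases h.cen c hc with e | e | e
    · rw [e]; group
    · rw [e]; exact hvx
    · rw [e, inv_inv]
      calc v * x⁻¹ * v⁻¹ = (v * x * v⁻¹)⁻¹ := by group
        _ = x := by rw [hvx, inv_inv]
  refine order_two ?_ ?_
  · intro e
    have e1 : v⁻¹ = c := by
      calc v⁻¹ = v⁻¹ * (v * c) := by rw [e, mul_one]
        _ = c := by group
    rw [hvi] at e1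
    rw [← e1] at hc
    apply h.xinv_ne
    rw [← hvx, hc]; group
  · calc v * c * (v * c) = (v * c * v⁻¹) * (v * v) * c := by group
      _ = 1 := by rw [h1, hvv]; group

theorem nI_eq3 [Finite G] (hr : IsConj x x⁻¹) : nI x = 3 := by
  obtain ⟨v, hv, hvx⟩ := h.exists_inv hr
  rw [← h.card_cen]
  have hvi := inv_self_of hv
  have hvv := sq_one_of_order hv
  have hvx' : v⁻¹ * x⁻¹ * v = x := by rw [← hvx]; group
  refine Nat.card_congr
    { toFun := fun u => ⟨v⁻¹ * u.1, ?_⟩
      invFun := fun c => ⟨v * c.1, ?_⟩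
      left_inv := ?_
      right_inv := ?_ }
  · rw [Subgroup.mem_centralizer_singleton_iff]
    have h1 := inv_of_two_orders u.2.1 u.2.2
    calc v⁻¹ * u.1 * x = v⁻¹ * (u.1 * x * u.1⁻¹) * v * (v⁻¹ * u.1) := by group
      _ = x * (v⁻¹ * u.1) := by rw [h1, hvx']
  · have hc := Subgroup.mem_centralizer_singleton_iff.1 c.2
    refine ⟨h.ord_vc hv hvx hc, ?_⟩
    rw [mul_assoc]
    apply h.ord_vc hv hvx
    calc (c.1 * x) * x = (x * c.1) * x := by rw [hc]
      _ = x * (c.1 * x) := mul_assoc _ _ _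
  · intro u; apply Subtype.ext
    show v * (v⁻¹ * u.1) = u.1
    group
  · intro c; apply Subtype.ext
    show v⁻¹ * (v * c.1) = c.1
    group

end X3

/-- The numerical information attached to an involution `t`. -/
structure Num {G : Type u} [Group G] (t : G) (f s c : ℤ) : Prop where
  f4 : 4 ≤ f
  fmod : f % 3 = 1
  s0 : 0 < s
  c0 : 0 < c
  cardC : (Nat.card (Subgroup.centralizer ({t} : Set G)) : ℤ) = c * s
  cardG : (Nat.card G : ℤ) = 3 * c ^ 2 * (f * (f + 1))
  cnt : 3 * (Nat.card {y : G // orderOf y = 3 ∧ orderOf (y * t) = 3} : ℤ) =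
    c ^ 2 * (3 * f * (f + 1) - s * (2 * f + 1))
  tb : ∀ (y : G) (T : Subgroup G), orderOf y = 3 → (∀ g ∈ T, y * g * y⁻¹ ∈ T) →
    (∀ g ∈ T, g * g = 1) → ((Nat.card T : ℤ) - 1) * s ≤ Nat.card T * (f - 1)

theorem ker_bot {G : Type u} [Group G] [Finite G] [IsSimpleGroup G] {χ : G → ℂ}
    (hχ : IsCharacter G χ) (y : G) (hy : χ y ≠ χ 1) (g : G) (hg : g ≠ 1) : χ g ≠ χ 1 := by
  intro e
  have hN := H75.charKer_normal hχ
  rcases hN.eq_bot_or_eq_top with h | h
  · have : g ∈ H75.charKer hχ := e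
    rw [h, Subgroup.mem_bot] at this; exact hg this
  · have : y ∈ H75.charKer hχ := by rw [h]; trivial
    exact hy this

theorem col_count' {G : Type u} [Group G] [Fintype G] [DecidableEq G] {x : G} (h : X3 x)
    (hr : IsConj x x⁻¹) (y : G) :
    (∑ g : G, if g * x * g⁻¹ = y then (1 : ℂ) else 0) = if orderOf y = 3 then 3 else 0 := by
  classical
  haveI : Fintype (IrrCharacter G) := Fintype.ofFinite _
  by_cases hy : orderOf y = 3
  · rw [if_pos hy, ← FourChar.col_count, column_orthogonality_of_isConj, h.card_cen]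
    · norm_num
    · exact h.isConj3 hr hy
  · rw [if_neg hy]
    apply Finset.sum_eq_zero
    intro g _
    rw [if_neg]
    intro e
    apply hy
    rw [← e, orderOf_conj, h.ox]

theorem mem_norm3 {G : Type u} [Group G] {y : G} (hy3 : y ^ 3 = 1) {T : Subgroup G}
    (hyT : ∀ g ∈ T, y * g * y⁻¹ ∈ T) : y ∈ Subgroup.normalizer (T : Set G) := by
  rw [Subgroup.mem_normalizer_iff]
  intro g
  refine ⟨hyT g, fun hg => ?_⟩
  have h1 := hyT _ (hyT _ hg)
  have h3 : y * y * y = 1 := by rw [← hy3, pow_succ, pow_two]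
  have h2 : y * (y * (y * g * y⁻¹) * y⁻¹) * y⁻¹ = g := by
    calc y * (y * (y * g * y⁻¹) * y⁻¹) * y⁻¹ = (y * y * y) * g * (y * y * y)⁻¹ := by group
      _ = g := by rw [h3]; group
  rw [← h2]; exact h1

theorem X3.inv {G : Type u} [Group G] {x : G} (h : X3 x) : X3 x⁻¹ := by
  refine ⟨by rw [orderOf_inv, h.ox], ?_⟩
  intro k hk
  have h2 : k * x = x * k := by
    calc k * x = x * (x⁻¹ * k) * x := by group
      _ = x * k := by rw [← hk]; group
  rcases h.cen k h2 with e | e | e
  · exact Or.inl e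
  · exact Or.inr (Or.inr (by rw [e, inv_inv]))
  · exact Or.inr (Or.inl e)

theorem X3.zpow {G : Type u} [Group G] {x z : G} (h : X3 x) (hz : z ∈ Subgroup.zpowers x)
    (hz1 : z ≠ 1) : z = x ∨ z = x⁻¹ := by
  obtain ⟨k, rfl⟩ := Subgroup.mem_zpowers_iff.1 hz
  rcases h.cen _ ((Commute.refl x).zpow_left k).eq with e | e | e
  · exact absurd e hz1
  · exact Or.inl e
  · exact Or.inr e

/-- Fixed-point-freeness on a `2`-elementary (or any `3'`-) subgroup. -/
theorem X3.fpf {G : Type u} [Group G] {x : G} (h : X3 x) {T : Subgroup G}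
    (hT : ∀ g ∈ T, orderOf g ≠ 3) : ∀ n ∈ T, x * n * x⁻¹ = n → n = 1 := by
  intro n hn e
  have h1 : n * x = x * n := by
    nth_rewrite 1 [← e]; group
  rcases h.cen n h1 with e1 | e1 | e1
  · exact e1
  · exact absurd (by rw [e1]; exact h.ox) (hT n hn)
  · exact absurd (by rw [e1, orderOf_inv]; exact h.ox) (hT n hn)

theorem X3.order_mul {G : Type u} [Group G] {x : G} (h : X3 x) {T : Subgroup G} [Finite T]
    (hT : ∀ g ∈ T, orderOf g ≠ 3) (hxT : ∀ g ∈ T, x * g * x⁻¹ ∈ T) {n : G} (hn : n ∈ T) :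
    orderOf (n * x) = 3 := by
  refine order_three ?_ (Fpf3.mul_cube h.cube hxT (h.fpf hT) hn)
  intro e
  have h1 : x = n⁻¹ := eq_inv_of_mul_eq_one_right e
  exact hT x (by rw [h1]; exact T.inv_mem hn) h.ox

/-- Counting pairs. -/
theorem count_xx {G : Type u} [Group G] [Fintype G] [DecidableEq G] {x : G} (h : X3 x)
    (hr : IsConj x x⁻¹) (t : G) :
    (∑ a : G, ∑ b : G, if (a * x * a⁻¹) * (b * x * b⁻¹) = t then (1 : ℂ) else 0) =
      9 * (Nat.card {y : G // orderOf y = 3 ∧ orderOf (y * t) = 3} : ℂ) := by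
  classical
  have e1 : ∀ a : G, (∑ b : G, if (a * x * a⁻¹) * (b * x * b⁻¹) = t then (1 : ℂ) else 0) =
      if orderOf ((a * x * a⁻¹)⁻¹ * t) = 3 then 3 else 0 := by
    intro a
    rw [← col_count' h hr]
    refine Finset.sum_congr rfl (fun b _ => ?_)
    refine if_congr ?_ rfl rfl
    exact eq_inv_mul_iff_mul_eq.symm
  have e2 : ∀ a : G, (if orderOf ((a * x * a⁻¹)⁻¹ * t) = 3 then (3 : ℂ) else 0) =
      ∑ z ∈ Finset.univ.filter (fun z : G => orderOf z = 3 ∧ orderOf (z⁻¹ * t) = 3),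
        3 * (if a * x * a⁻¹ = z then (1 : ℂ) else 0) := by
    intro a
    by_cases c : orderOf ((a * x * a⁻¹)⁻¹ * t) = 3
    · rw [if_pos c, Finset.sum_eq_single (a * x * a⁻¹)]
      · rw [if_pos rfl, mul_one]
      · intro z _ hz
        rw [if_neg (fun e => hz e.symm), mul_zero]
      · intro hn
        exfalso; apply hn
        rw [Finset.mem_filter]
        exact ⟨Finset.mem_univ _, by rw [orderOf_conj, h.ox], c⟩
    · rw [if_neg c]
      symm
      apply Finset.sum_eq_zero
      intro z hz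
      rw [Finset.mem_filter] at hz
      rw [if_neg, mul_zero]
      intro e
      apply c
      rw [e]; exact hz.2.2
  rw [Finset.sum_congr rfl (fun a _ => e1 a), Finset.sum_congr rfl (fun a _ => e2 a),
    Finset.sum_comm]
  have e3 : ∀ z ∈ Finset.univ.filter (fun z : G => orderOf z = 3 ∧ orderOf (z⁻¹ * t) = 3),
      (∑ a : G, 3 * (if a * x * a⁻¹ = z then (1 : ℂ) else 0)) = 9 := by
    intro z hz
    rw [Finset.mem_filter] at hz
    rw [← Finset.mul_sum, col_count' h hr, if_pos hz.2.1]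
    norm_num
  rw [Finset.sum_congr rfl e3, Finset.sum_const, nsmul_eq_mul, mul_comm]
  congr 2
  rw [← Fintype.card_subtype, ← Nat.card_eq_fintype_card]
  refine Nat.card_congr ((Equiv.inv G).subtypeEquiv (fun z => ?_))
  rw [Equiv.inv_apply, orderOf_inv]

section Simple

variable {G : Type u} [Group G] [Finite G] [IsSimpleGroup G] {x : G} (h : X3 x)
  (hr : IsConj x x⁻¹) {χ₁ χ₂ : IrrCharacter G} {f : ℤ} (c : X3.Chars x χ₁ χ₂ f)

include h hr c

theorem f4 : 4 ≤ f := by
  have h1 := c.fmod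
  have h2 := c.f1
  by_contra hf
  have hf1 : f = 1 := by omega
  obtain ⟨v, hv, -⟩ := h.exists_inv hr
  -- the kernel of `χ₁` contains `x`
  have hN := H75.charKer_normal (irr_isCharacter χ₁)
  have hx : x ∈ H75.charKer (irr_isCharacter χ₁) := by
    show (χ₁ : G → ℂ) x = (χ₁ : G → ℂ) 1
    rw [c.v1, c.d1, hf1]; simp
  rcases hN.eq_bot_or_eq_top with e | e
  · rw [e, Subgroup.mem_bot] at hx
    exact h.x1 hx
  · have hv1 : v ∈ H75.charKer (irr_isCharacter χ₁) := by rw [e]; trivial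
    have hv2 : (χ₁ : G → ℂ) v = (χ₁ : G → ℂ) 1 := hv1
    have hxv : ¬ IsConj x v := by
      intro hc
      obtain ⟨g, rfl⟩ := isConj_iff.1 hc
      rw [orderOf_conj, h.ox] at hv; omega
    have h3 := c.sum v hxv
    rw [hv2, c.d1] at h3
    refine ker_bot (irr_isCharacter χ₂) x ?_ v (ne_one_of_order hv) ?_
    · rw [c.v2, c.d2, hf1]; norm_num
    · rw [h3, c.d2]; ring

/-- The integer `f - χ₁(t)` is positive. -/
theorem exists_s {t : G} (ht : orderOf t = 2) : ∃ s : ℤ, 0 < s ∧
    (χ₁ : G → ℂ) t = f - s ∧ (χ₂ : G → ℂ) t = 1 + (f - s) := by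
  obtain ⟨a, ha⟩ := int_inv (irr_isCharacter χ₁) ht
  have hxv : ¬ IsConj x t := by
    intro hc
    obtain ⟨g, rfl⟩ := isConj_iff.1 hc
    rw [orderOf_conj, h.ox] at ht; omega
  have h3 := c.sum t hxv
  refine ⟨f - a, ?_, by rw [ha]; push_cast; ring, by rw [h3, ha]; push_cast; ring⟩
  have hf := f4 h hr c
  have hne : a ≠ f := by
    intro e
    refine ker_bot (irr_isCharacter χ₂) x ?_ t (ne_one_of_order ht) ?_
    · rw [c.v2, c.d2]
      intro e1
      have e2 : (-1 : ℤ) = f + 1 := by exact_mod_cast e1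
      omega
    · rw [h3, ha, e, c.d2]; ring
  have hle : a ≤ f := by
    obtain ⟨n, hn1, hn2⟩ := norm_le_of_isCharacter (irr_isCharacter χ₁) t
    rw [c.d1] at hn1
    have hn3 : f = n := by exact_mod_cast hn1
    rw [ha, Complex.norm_intCast] at hn2
    have hn4 : |a| ≤ (n : ℤ) := by exact_mod_cast hn2
    rw [← hn3] at hn4
    exact (le_abs_self a).trans hn4
  omega

/-- All involutions are conjugate. -/
theorem all_conj {t u : G} (ht : orderOf t = 2) (hu : orderOf u = 2) : IsConj t u := by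
  classical
  haveI : Fintype G := Fintype.ofFinite _
  haveI : Fintype (IrrCharacter G) := Fintype.ofFinite _
  obtain ⟨s, hs, ht1, ht2⟩ := exists_s h hr c ht
  obtain ⟨s', hs', hu1, hu2⟩ := exists_s h hr c hu
  have hf := f4 h hr c
  have h1 := count_eq t u x
  rw [c.sum_three] at h1
  rw [oneIrr_apply, oneIrr_apply, oneIrr_apply, ht1, hu1, ht2, hu2, c.d1, c.d2] at h1
  have hf0 : (f : ℂ) ≠ 0 := by
    have : (f : ℤ) ≠ 0 := by omega
    exact_mod_cast this
  have hf1 : (f : ℂ) + 1 ≠ 0 := by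
    have : (f : ℤ) + 1 ≠ 0 := by omega
    exact_mod_cast this
  have h2 : (1 * 1 / 1 : ℂ) + (f - s) * (f - s') / f - (1 + (f - s)) * (1 + (f - s')) / (f + 1) =
      s * s' / (f * (f + 1)) := by
    field_simp
    ring
  rw [h2] at h1
  have hex : ∃ a b : G, (a * t * a⁻¹) * (b * u * b⁻¹) = x := by
    by_contra hn
    push Not at hn
    have h3 : (∑ a : G, ∑ b : G, if (a * t * a⁻¹) * (b * u * b⁻¹) = x then (1 : ℂ) else 0) = 0 := by
      apply Finset.sum_eq_zero; intro a _
      apply Finset.sum_eq_zero; intro b _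
      rw [if_neg (hn a b)]
    rw [h3] at h1
    have h4 : (Nat.card G : ℂ) ≠ 0 := by exact_mod_cast Nat.card_pos.ne'
    have h5 : (s : ℂ) ≠ 0 := by exact_mod_cast hs.ne'
    have h6 : (s' : ℂ) ≠ 0 := by exact_mod_cast hs'.ne'
    have h7 : (Nat.card G : ℂ) * (s * s' / (f * (f + 1))) ≠ 0 :=
      mul_ne_zero h4 (div_ne_zero (mul_ne_zero h5 h6) (mul_ne_zero hf0 hf1))
    exact h7 h1.symm
  obtain ⟨a, b, hab⟩ := hex
  set p := a * t * a⁻¹ with hp
  set q := b * u * b⁻¹ with hq
  have hp2 : orderOf p = 2 := by rw [hp, orderOf_conj, ht]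
  have hq2 : orderOf q = 2 := by rw [hq, orderOf_conj, hu]
  have hpq : (p * q) * p * (p * q)⁻¹ = q := by
    have h3 : p * q * (p * q) * (p * q) = 1 := by
      rw [hab]
      have := h.cube
      rw [pow_succ, pow_two] at this
      exact this
    rw [mul_inv_rev, inv_self_of hp2, inv_self_of hq2]
    calc p * q * p * (q * p) = (p * q * (p * q) * (p * q)) * q⁻¹ := by group
      _ = q := by rw [h3, one_mul, inv_self_of hq2]
  exact ((isConj_iff.2 ⟨a, hp.symm⟩).trans (isConj_iff.2 ⟨p * q, hpq⟩)).trans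
    (isConj_iff.2 ⟨b, hq.symm⟩).symm

theorem exists_num {t : G} (ht : orderOf t = 2) : ∃ s c : ℤ, Num t f s c := by
  classical
  haveI : Fintype G := Fintype.ofFinite _
  haveI : Fintype (IrrCharacter G) := Fintype.ofFinite _
  obtain ⟨s, hs, ht1, ht2⟩ := exists_s h hr c ht
  have hf := f4 h hr c
  have hconj : ∀ y z : G, orderOf y = 2 → orderOf z = 2 → IsConj y z :=
    fun y z hy hz => all_conj h hr c hy hz
  have hf0 : (f : ℂ) ≠ 0 := by
    have : (f : ℤ) ≠ 0 := by omega
    exact_mod_cast this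
  have hf1 : (f : ℂ) + 1 ≠ 0 := by
    have : (f : ℤ) + 1 ≠ 0 := by omega
    exact_mod_cast this
  have hs0 : (s : ℂ) ≠ 0 := by exact_mod_cast hs.ne'
  set C : ℤ := (Nat.card (Subgroup.centralizer ({t} : Set G)) : ℤ) with hC
  set I : ℤ := ((Subgroup.centralizer ({t} : Set G)).index : ℤ) with hI
  have hCpos : 0 < C := by rw [hC]; exact_mod_cast Nat.card_pos
  have hGCI : (Nat.card G : ℤ) = C * I := by
    rw [hC, hI]; exact_mod_cast (Subgroup.card_mul_index _).symm
  -- the count of involutions inverting `x`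
  have k1 : I * s ^ 2 = 3 * C * (f * (f + 1)) := by
    have h1 := sum_char_nI ht hconj x
    rw [c.sum_three, h.nI_eq3 hr] at h1
    rw [oneIrr_apply, oneIrr_apply, ht1, ht2, c.d1, c.d2] at h1
    have h2 : ((1 : ℂ) ^ 2 / 1) + (f - s) ^ 2 / f - (1 + (f - s)) ^ 2 / (f + 1) =
        s ^ 2 / (f * (f + 1)) := by
      field_simp
      ring
    rw [h2] at h1
    have h3 : (I : ℂ) * (s ^ 2 / (f * (f + 1))) = (C : ℂ) * 3 := by
      rw [hI, hC]; push_cast; exact_mod_cast h1
    have h4 : (I : ℂ) * s ^ 2 = 3 * C * (f * (f + 1)) := by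
      have h5 : (I : ℂ) * s ^ 2 = ((I : ℂ) * (s ^ 2 / (f * (f + 1)))) * (f * (f + 1)) := by
        field_simp
      rw [h5, h3]; ring
    exact_mod_cast h4
  -- central characters
  have k2 : s ∣ 3 * C := by
    have i1 := isIntegral_centralChar χ₁.2 t
    have i2 := isIntegral_centralChar χ₂.2 t
    have i3 := i1.sub i2
    rw [ht1, ht2, c.d1, c.d2] at i3
    have hI' : (((Subgroup.centralizer ({t} : Set G)).index : ℕ) : ℂ) = (I : ℂ) := by
      rw [hI]; push_cast; rfl
    rw [hI'] at i3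
    have h4 : (I : ℂ) * s ^ 2 = 3 * C * (f * (f + 1)) := by exact_mod_cast k1
    have h5 : (I : ℂ) * (f - s) / f - I * (1 + (f - s)) / (f + 1) = -(3 * C / s) := by
      field_simp
      linear_combination (-1 : ℂ) * h4
    obtain ⟨n, hn⟩ := int_of_rat_integral i3 (-(3 * (C : ℚ) / (s : ℚ))) (by rw [h5]; push_cast; ring)
    rw [h5] at hn
    refine ⟨-n, ?_⟩
    have h6 : (3 * C : ℂ) = s * (-n) := by
      rw [← hn]; field_simp
    exact_mod_cast h6
  have hC3 : ¬ (3 : ℤ) ∣ C := by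
    intro hd
    have hne3 : orderOf t ≠ 3 := by rw [ht]; norm_num
    apply h.not_dvd_cen (ne_one_of_order ht) hne3
    rw [hC] at hd
    exact_mod_cast hd
  have hs3 : ¬ (3 : ℤ) ∣ s := by
    rintro ⟨s', hs'⟩
    have hd : 3 ∣ Nat.card G := by rw [← h.ox]; exact orderOf_dvd_natCard x
    obtain ⟨m, hm⟩ := hd
    have h1 : (3 * m : ℤ) * s ^ 2 = 3 * C ^ 2 * (f * (f + 1)) := by
      have h2 : (Nat.card G : ℤ) = 3 * m := by exact_mod_cast hm
      rw [← h2, hGCI]
      linear_combination C * k1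
    have h3 : (m : ℤ) * s ^ 2 = C ^ 2 * (f * (f + 1)) := by linarith
    have h4 : (3 : ℤ) ∣ C ^ 2 * (f * (f + 1)) := by
      rw [← h3, hs']
      exact ⟨m * (3 * s' ^ 2), by ring⟩
    have hp : Prime (3 : ℤ) := by
      exact_mod_cast Int.prime_three
    rcases hp.dvd_or_dvd h4 with h5 | h5
    · exact hC3 (hp.dvd_of_dvd_pow h5)
    · have h6 := c.fmod
      obtain ⟨k, hk⟩ : ∃ k, f = 3 * k + 1 := ⟨f / 3, by omega⟩
      have h7 : f * (f + 1) = 3 * (3 * k * k + 3 * k) + 2 := by rw [hk]; ring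
      omega
  have k3 : s ∣ C := by
    have hcop : IsCoprime s 3 := by
      have hp : Prime (3 : ℤ) := by exact_mod_cast Int.prime_three
      exact ((hp.coprime_iff_not_dvd).2 hs3).symm
    exact hcop.dvd_of_dvd_mul_left k2
  obtain ⟨c0, hc0⟩ := k3
  have hc0' : C = c0 * s := by rw [hc0]; ring
  have hc0pos : 0 < c0 := by
    by_contra hn
    have : C ≤ 0 := by rw [hc0']; exact mul_nonpos_of_nonpos_of_nonneg (by omega) hs.le
    omega
  have k4 : (Nat.card G : ℤ) = 3 * c0 ^ 2 * (f * (f + 1)) := by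
    have h1 : (Nat.card G : ℤ) * s ^ 2 = (3 * c0 ^ 2 * (f * (f + 1))) * s ^ 2 := by
      rw [hGCI]
      have : C * I * s ^ 2 = C * (I * s ^ 2) := by ring
      rw [this, k1, hc0']; ring
    exact mul_right_cancel₀ (pow_ne_zero 2 hs.ne') h1
  refine ⟨s, c0, hf, c.fmod, hs, hc0pos, hc0', k4, ?_, ?_⟩
  · have h1 := count_eq x x t
    rw [count_xx h hr t] at h1
    have h2 : ∀ χ : IrrCharacter G, ((χ : G → ℂ) x * (χ : G → ℂ) x / (χ : G → ℂ) 1) *
        conj ((χ : G → ℂ) t) = ((χ : G → ℂ) x / (χ : G → ℂ) 1 * conj ((χ : G → ℂ) t)) *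
        conj ((χ : G → ℂ) x) := by
      intro χ
      obtain ⟨z, hz⟩ := h.int_x hr (irr_isCharacter χ)
      rw [hz, map_intCast]; ring
    rw [Finset.sum_congr rfl (fun χ _ => h2 χ), c.sum_three, oneIrr_apply, oneIrr_apply,
      oneIrr_apply, ht1, ht2, c.d1, c.d2, c.v1, c.v2] at h1
    have h3 : (1 : ℂ) / 1 * conj (1 : ℂ) + 1 / f * conj ((f : ℂ) - s) -
        -1 / (f + 1) * conj (1 + ((f : ℂ) - s)) =
        (3 * f * (f + 1) - s * (2 * f + 1)) / (f * (f + 1)) := by
      rw [map_add, map_sub, map_one, map_intCast, map_intCast]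
      field_simp
      ring
    rw [h3] at h1
    have h4 : (Nat.card G : ℂ) = 3 * c0 ^ 2 * (f * (f + 1)) := by exact_mod_cast k4
    rw [h4] at h1
    have h5 : (3 : ℂ) * (Nat.card {y : G // orderOf y = 3 ∧ orderOf (y * t) = 3} : ℂ) =
        c0 ^ 2 * (3 * f * (f + 1) - s * (2 * f + 1)) := by
      have h6 : (3 : ℂ) * c0 ^ 2 * (f * (f + 1)) * ((3 * f * (f + 1) - s * (2 * f + 1)) /
          (f * (f + 1))) = 3 * (c0 ^ 2 * (3 * f * (f + 1) - s * (2 * f + 1))) := by
        field_simp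
      rw [h6] at h1
      linear_combination h1 / 3
    exact_mod_cast h5
  · intro y T hy hyT hT2
    have hY := h.all hy
    haveI : Fintype T := Fintype.ofFinite _
    haveI : Fintype (Subgroup.zpowers y) := Fintype.ofFinite _
    have hn : Subgroup.zpowers y ≤ Subgroup.normalizer (T : Set G) := by
      rw [Subgroup.zpowers_le]
      exact mem_norm3 hY.cube hyT
    have hT3 : ∀ g ∈ T, orderOf g ≠ 3 := by
      intro g hg e
      have h1 := hT2 g hg
      have h2 : orderOf g ∣ 2 := orderOf_dvd_of_pow_eq_one (by rw [sq]; exact h1)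
      rw [e] at h2
      omega
    obtain ⟨m, hm⟩ := sum_semidirect (irr_isCharacter χ₂) T (Subgroup.zpowers y) hn
    rw [← Finset.add_sum_erase Finset.univ _ (Finset.mem_univ (1 : Subgroup.zpowers y))] at hm
    have e1 : ∀ z ∈ Finset.univ.erase (1 : Subgroup.zpowers y),
        (∑ n : T, (χ₂ : G → ℂ) ((n : G) * (z : G))) = -(Nat.card T : ℂ) := by
      intro z hz
      have hz1 : (z : G) ≠ 1 := fun e => (Finset.mem_erase.1 hz).1 (Subtype.ext e)
      have e2 : ∀ n : T, (χ₂ : G → ℂ) ((n : G) * (z : G)) = -1 := by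
        intro n
        have h1 : orderOf ((n : G) * (z : G)) = 3 := by
          rcases hY.zpow z.2 hz1 with e | e
          · rw [e]; exact hY.order_mul hT3 hyT n.2
          · rw [e]
            refine hY.inv.order_mul hT3 ?_ n.2
            intro g hg
            exact (Subgroup.mem_normalizer_iff.1 (Subgroup.inv_mem _ (mem_norm3 hY.cube hyT)) g).1 hg
        rw [← classFun_eq_of_isConj (irr_isClassFunction χ₂) (h.isConj3 hr h1), c.v2]
      rw [Finset.sum_congr rfl (fun n _ => e2 n), Finset.sum_const, Finset.card_univ,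
        Nat.card_eq_fintype_card, nsmul_eq_mul]
      ring
    rw [Finset.sum_congr rfl e1, Finset.sum_const, Finset.card_erase_of_mem (Finset.mem_univ _),
      Finset.card_univ, ← Nat.card_eq_fintype_card, Nat.card_zpowers, hy, nsmul_eq_mul] at hm
    have e3 : (∑ n : T, (χ₂ : G → ℂ) ((n : G) * ((1 : Subgroup.zpowers y) : G))) =
        (f + 1) + ((Nat.card T : ℂ) - 1) * (1 + (f - s)) := by
      rw [← Finset.add_sum_erase Finset.univ _ (Finset.mem_univ (1 : T))]
      have e4 : ∀ n ∈ Finset.univ.erase (1 : T),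
          (χ₂ : G → ℂ) ((n : G) * ((1 : Subgroup.zpowers y) : G)) = 1 + (f - s) := by
        intro n hn
        have hn1 : (n : G) ≠ 1 := fun e => (Finset.mem_erase.1 hn).1 (Subtype.ext e)
        rw [Subgroup.coe_one, mul_one, ← ht2]
        exact (classFun_eq_of_isConj (irr_isClassFunction χ₂)
          (hconj t n ht (order_two hn1 (hT2 n n.2)))).symm
      rw [Finset.sum_congr rfl e4, Finset.sum_const, Finset.card_erase_of_mem (Finset.mem_univ _),
        Finset.card_univ, ← Nat.card_eq_fintype_card, nsmul_eq_mul, Subgroup.coe_one,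
        Subgroup.coe_one, mul_one, c.d2, Nat.cast_sub Nat.card_pos, Nat.cast_one]
    rw [e3] at hm
    have h5 : ((f : ℤ) + 1) + ((Nat.card T : ℤ) - 1) * (1 + (f - s)) - 2 * Nat.card T =
        3 * Nat.card T * m := by
      have h6 : ((f : ℂ) + 1) + ((Nat.card T : ℂ) - 1) * (1 + (f - s)) - 2 * (Nat.card T : ℂ) =
          3 * (Nat.card T : ℂ) * m := by
        push_cast at hm
        linear_combination hm
      exact_mod_cast h6
    have h7 : (0 : ℤ) ≤ 3 * Nat.card T * m := by positivity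
    linarith

end Simple

end Cfsg.Agent.H55.Three
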