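import Mathlib
import Cfsg.Agent.H55.ThreeNum

set_option autoImplicit false
set_option linter.style.haveILetI false
set_option linter.unusedSectionVars false

/-!
# Groups with a self-centralizing subgroup of order three: four-groups and orbits
-/

namespace Cfsg.Agent.H55.Three

open Cfsg.Agent.H55.BswGrp

universe u

/-- `t` an involution, `y` of order three, `(y t)^3 = 1`. -/
structure Good {G : Type u} [Group G] (t y : G) : Prop where
  ht : orderOf t = 2
  hy : orderOf y = 3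
  hyt : orderOf (y * t) = 3

/-- The centralizer of the four-group. -/
def KK {G : Type u} [Group G] (t y : G) : Subgroup G :=
  Subgroup.centralizer ({t} : Set G) ⊓ Subgroup.centralizer ({y * t * y⁻¹} : Set G)

theorem mem_KK {G : Type u} [Group G] {t y g : G} :
    g ∈ KK t y ↔ g * t = t * g ∧ g * (y * t * y⁻¹) = (y * t * y⁻¹) * g := by
  unfold KK
  rw [Subgroup.mem_inf, Subgroup.mem_centralizer_singleton_iff,
    Subgroup.mem_centralizer_singleton_iff]

namespace Good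

variable {G : Type u} [Group G] {t y : G} (h : Good t y)

include h

theorem cube : y * y * y = 1 := by
  have := pow3_of_order h.hy
  rw [pow_succ, pow_two] at this; exact this

theorem yi : y⁻¹ = y * y := inv_eq_sq (pow3_of_order h.hy)

theorem w1 : y * (y * t * y⁻¹) * y⁻¹ = y * t * y⁻¹ * t := by
  have h1 : (y * t) * (y * t) * (y * t) = 1 := by
    have := pow3_of_order h.hyt
    rw [pow_succ, pow_two] at this; exact this
  have hti := inv_self_of h.ht
  have htt := sq_one_of_order h.ht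
  -- `(y t y⁻¹) (y² t y⁻²) t = 1`
  have h2 : (y * t * y⁻¹) * (y * (y * t * y⁻¹) * y⁻¹) * t = 1 := by
    calc (y * t * y⁻¹) * (y * (y * t * y⁻¹) * y⁻¹) * t
        = (y * t) * (y * t) * (y⁻¹ * y⁻¹) * t := by group
      _ = (y * t) * (y * t) * y * t := by
          have : y⁻¹ * y⁻¹ = y := by
            calc y⁻¹ * y⁻¹ = (y * y)⁻¹ := by group
              _ = y := by rw [← h.yi, inv_inv]
          rw [this]
      _ = 1 := by rw [← h1]; group
  have h3 : y * (y * t * y⁻¹) * y⁻¹ = (y * t * y⁻¹)⁻¹ * t⁻¹ := by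
    calc y * (y * t * y⁻¹) * y⁻¹ = (y * t * y⁻¹)⁻¹ *
        ((y * t * y⁻¹) * (y * (y * t * y⁻¹) * y⁻¹) * t) * t⁻¹ := by group
      _ = _ := by rw [h2, mul_one]
  rw [h3, hti]
  congr 1
  calc (y * t * y⁻¹)⁻¹ = y * t⁻¹ * y⁻¹ := by group
    _ = _ := by rw [hti]

theorem hu : orderOf (y * t * y⁻¹) = 2 := by rw [orderOf_conj, h.ht]

theorem comm : (y * t * y⁻¹) * t = t * (y * t * y⁻¹) := by
  have h1 : orderOf (y * (y * t * y⁻¹) * y⁻¹) = 2 := by rw [orderOf_conj, h.hu]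
  rw [h.w1] at h1
  have h2 := sq_one_of_order h1
  have hui := inv_self_of h.hu
  have hti := inv_self_of h.ht
  calc (y * t * y⁻¹) * t = ((y * t * y⁻¹) * t)⁻¹ := (inv_self_of h1).symm
    _ = t⁻¹ * (y * t * y⁻¹)⁻¹ := by rw [mul_inv_rev]
    _ = _ := by rw [hui, hti]

theorem w2 : y * (y * t * y⁻¹) * y⁻¹ = t * (y * t * y⁻¹) := by rw [h.w1, h.comm]

theorem w3 : y * (t * (y * t * y⁻¹)) * y⁻¹ = t := by
  have h1 := h.cube
  rw [← h.w2]
  calc y * (y * (y * t * y⁻¹) * y⁻¹) * y⁻¹ = (y * y * y) * t * (y * y * y)⁻¹ := by group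
    _ = t := by rw [h1]; group

theorem t_mem : t ∈ KK t y := mem_KK.2 ⟨rfl, h.comm.symm⟩

theorem u_mem : y * t * y⁻¹ ∈ KK t y := mem_KK.2 ⟨h.comm, rfl⟩

theorem u_cen : y * t * y⁻¹ ∈ Subgroup.centralizer ({t} : Set G) :=
  Subgroup.mem_centralizer_singleton_iff.2 h.comm

theorem K_norm : ∀ g ∈ KK t y, y * g * y⁻¹ ∈ KK t y := by
  intro g hg
  rw [mem_KK] at hg ⊢
  have e1 : (y * g * y⁻¹) * (y * t * y⁻¹) = (y * t * y⁻¹) * (y * g * y⁻¹) := by
    calc (y * g * y⁻¹) * (y * t * y⁻¹) = y * (g * t) * y⁻¹ := by group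
      _ = y * (t * g) * y⁻¹ := by rw [hg.1]
      _ = _ := by group
  have e2 : (y * g * y⁻¹) * (t * (y * t * y⁻¹)) = (t * (y * t * y⁻¹)) * (y * g * y⁻¹) := by
    rw [← h.w2]
    calc (y * g * y⁻¹) * (y * (y * t * y⁻¹) * y⁻¹) = y * (g * (y * t * y⁻¹)) * y⁻¹ := by group
      _ = y * ((y * t * y⁻¹) * g) * y⁻¹ := by rw [hg.2]
      _ = _ := by group
  refine ⟨?_, e1⟩
  have e3 : Commute (y * g * y⁻¹) (t * (y * t * y⁻¹)) := e2
  have e4 : Commute (y * g * y⁻¹) (y * t * y⁻¹) := e1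
  have e5 := e3.mul_right e4.inv_right
  have e6 : t * (y * t * y⁻¹) * (y * t * y⁻¹)⁻¹ = t := by group
  rw [e6] at e5
  exact e5.eq

theorem t_ne_u : t ≠ y * t * y⁻¹ := by
  intro e
  have h1 := h.w2
  rw [← e] at h1
  rw [← e, sq_one_of_order h.ht] at h1
  exact ne_one_of_order h.ht h1

end Good

variable {G : Type u} [Group G] [Finite G] {x : G} (h : X3 x)

include h

/-- `C(t)` has no elements of order three. -/
theorem cen_ne3 {t g : G} (ht : orderOf t = 2) (hg : g * t = t * g) : orderOf g ≠ 3 := by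
  intro e
  apply h.not_dvd_cen (ne_one_of_order ht) (by rw [ht]; norm_num)
  have : (⟨g, Subgroup.mem_centralizer_singleton_iff.2 hg⟩ :
      Subgroup.centralizer ({t} : Set G)).1 = g := rfl
  rw [← e, ← this, Subgroup.orderOf_coe]
  exact orderOf_dvd_natCard _

theorem Good.K_fpf {t y : G} (hg : Good t y) : ∀ n ∈ KK t y, y * n * y⁻¹ = n → n = 1 :=
  (h.all hg.hy).fpf (fun g hk => cen_ne3 h hg.ht (mem_KK.1 hk).1)

/-- Uniqueness of `y` up to conjugation in `K`. -/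
theorem Good.uniq {t y z : G} (hy : Good t y) (hz : Good t z) (e : y * t * y⁻¹ = z * t * z⁻¹) :
    ∃ m ∈ KK t y, z = m * y * m⁻¹ := by
  have h1 : y⁻¹ * z ∈ KK t y := by
    rw [mem_KK]
    constructor
    · calc y⁻¹ * z * t = y⁻¹ * (z * t * z⁻¹) * z := by group
        _ = t * (y⁻¹ * z) := by rw [← e]; group
    · have e2 : z * (y * t * y⁻¹) * z⁻¹ = t * (y * t * y⁻¹) := by rw [e]; exact hz.w2
      have e3 := hy.w2
      calc y⁻¹ * z * (y * t * y⁻¹) = y⁻¹ * (z * (y * t * y⁻¹) * z⁻¹) * z := by group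
        _ = y⁻¹ * (t * (y * t * y⁻¹)) * z := by rw [e2]
        _ = y⁻¹ * (y * (y * t * y⁻¹) * y⁻¹) * z := by rw [e3]
        _ = _ := by group
  have h2 := hy.K_norm _ h1
  obtain ⟨m, hm, hm2⟩ := Fpf3.exists_conj (pow3_of_order hy.hy) hy.K_norm (hy.K_fpf h) h2
  refine ⟨m, hm, ?_⟩
  rw [← hm2]; group

omit h in
/-- All involutions in the coset `v K` are conjugate. -/
theorem VK {y : G} {K : Subgroup G} (hy3 : y ^ 3 = 1) (hyK : ∀ n ∈ K, y * n * y⁻¹ ∈ K)
    (hf : ∀ n ∈ K, y * n * y⁻¹ = n → n = 1) {v v' : G} (hv : orderOf v = 2)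
    (hv' : orderOf v' = 2) (hvK : ∀ n ∈ K, v * n * v⁻¹ ∈ K) (hvv : v⁻¹ * v' ∈ K)
    (hvy : v * y * v⁻¹ * y ∈ K) : ∃ k ∈ K, v' = k * v * k⁻¹ := by
  have hyyy : y * y * y = 1 := by rw [← hy3, pow_succ, pow_two]
  have hyi : y⁻¹ = y * y := inv_eq_sq hy3
  have hyi2 : y⁻¹ * y⁻¹ = y := by
    calc y⁻¹ * y⁻¹ = (y * y)⁻¹ := by group
      _ = y := by rw [← hyi, inv_inv]
  have hvi := inv_self_of hv
  have hvi' := inv_self_of hv'
  have h2v := sq_one_of_order hv
  have h2v' := sq_one_of_order hv'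
  set k0 := v⁻¹ * v' with hk0
  have ev' : v' = v * k0 := by rw [hk0]; group
  have hvy' : v' * y * v'⁻¹ * y ∈ K := by
    have e1 : v' * y * v'⁻¹ * y = (v * (k0 * (y * k0⁻¹ * y⁻¹)) * v⁻¹) * (v * y * v⁻¹ * y) := by
      rw [ev']; group
    rw [e1]
    exact K.mul_mem (hvK _ (K.mul_mem hvv (hyK _ (K.inv_mem hvv)))) hvy
  have key : ∀ w : G, orderOf w = 2 → w * y * w⁻¹ * y ∈ K →
      ∃ m ∈ K, w * (m * y * m⁻¹) * w⁻¹ = (m * y * m⁻¹)⁻¹ := by
    intro w hw hwy
    have hwi := inv_self_of hw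
    have hww := sq_one_of_order hw
    obtain ⟨m, hm, hm2⟩ := Fpf3.exists_conj hy3 hyK hf hwy
    refine ⟨m, hm, ?_⟩
    rw [← hm2]
    -- z = w y w⁻¹ y y = w (y w y⁻¹)
    have ez : w * y * w⁻¹ * y * y = w * (y * w * y⁻¹) := by
      rw [hwi, hyi]; group
    rw [ez, mul_inv_rev]
    calc w * (w * (y * w * y⁻¹)) * w⁻¹ = (w * w) * (y * w * y⁻¹) * w⁻¹ := by group
      _ = (y * w * y⁻¹) * w⁻¹ := by rw [hww, one_mul]
      _ = (y * w * y⁻¹)⁻¹ * w⁻¹ := by
          congr 1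
          calc y * w * y⁻¹ = y * w⁻¹ * y⁻¹ := by rw [hwi]
            _ = _ := by group
  obtain ⟨m, hm, e1⟩ := key v hv hvy
  obtain ⟨m', hm', e2⟩ := key v' hv' hvy'
  -- n = m' m⁻¹
  refine ⟨m' * m⁻¹, K.mul_mem hm' (K.inv_mem hm), ?_⟩
  set n := m' * m⁻¹ with hn
  have hnK : n ∈ K := K.mul_mem hm' (K.inv_mem hm)
  have e3 : (n * v * n⁻¹) * (m' * y * m'⁻¹) * (n * v * n⁻¹)⁻¹ = (m' * y * m'⁻¹)⁻¹ := by
    calc (n * v * n⁻¹) * (m' * y * m'⁻¹) * (n * v * n⁻¹)⁻¹
        = n * (v * (m * y * m⁻¹) * v⁻¹) * n⁻¹ := by rw [hn]; group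
      _ = (m' * y * m'⁻¹)⁻¹ := by rw [e1, hn]; group
  -- the quotient centralizes `m' y m'⁻¹`
  set q := v'⁻¹ * (n * v * n⁻¹) with hq
  have hqK : q ∈ K := by
    have : q = k0⁻¹ * ((v * n * v⁻¹) * n⁻¹) := by
      rw [hq, ev', mul_inv_rev, hvi]
      group
    rw [this]
    exact K.mul_mem (K.inv_mem hvv) (K.mul_mem (hvK _ hnK) (K.inv_mem hnK))
  have e4 : q * (m' * y * m'⁻¹) * q⁻¹ = m' * y * m'⁻¹ := by
    calc q * (m' * y * m'⁻¹) * q⁻¹ = v'⁻¹ * ((n * v * n⁻¹) * (m' * y * m'⁻¹) * (n * v * n⁻¹)⁻¹) * v' := by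
          rw [hq]; group
      _ = v'⁻¹ * (m' * y * m'⁻¹)⁻¹ * v' := by rw [e3]
      _ = v'⁻¹ * (v' * (m' * y * m'⁻¹) * v'⁻¹) * v' := by rw [e2]
      _ = _ := by group
  have hq2 : m'⁻¹ * q * m' ∈ K := K.mul_mem (K.mul_mem (K.inv_mem hm') hqK) hm'
  have e5 : y * (m'⁻¹ * q * m') * y⁻¹ = m'⁻¹ * q * m' := by
    have e6 : q * (m' * y * m'⁻¹) = (m' * y * m'⁻¹) * q := by
      calc q * (m' * y * m'⁻¹) = (q * (m' * y * m'⁻¹) * q⁻¹) * q := by group
        _ = _ := by rw [e4]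
    calc y * (m'⁻¹ * q * m') * y⁻¹ = m'⁻¹ * ((m' * y * m'⁻¹) * q) * m' * y⁻¹ := by group
      _ = m'⁻¹ * (q * (m' * y * m'⁻¹)) * m' * y⁻¹ := by rw [e6]
      _ = _ := by group
  have e7 := hf _ hq2 e5
  have e8 : q = 1 := by
    calc q = m' * (m'⁻¹ * q * m') * m'⁻¹ := by group
      _ = 1 := by rw [e7]; group
  rw [hq] at e8
  exact (inv_mul_eq_one.1 e8)

/-- Action of `C(t)` on the good elements. -/
@[reducible] def actY (t : G) : MulAction (Subgroup.centralizer ({t} : Set G))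
    {y : G // orderOf y = 3 ∧ orderOf (y * t) = 3} where
  smul c y := ⟨c * y * (c : G)⁻¹, by rw [orderOf_conj]; exact y.2.1, by
    have hc := Subgroup.mem_centralizer_singleton_iff.1 c.2
    have : (c : G) * y * (c : G)⁻¹ * t = c * (y * t) * (c : G)⁻¹ := by
      calc (c : G) * y * (c : G)⁻¹ * t = c * y * ((c : G)⁻¹ * (t * c)) * (c : G)⁻¹ := by group
        _ = c * y * ((c : G)⁻¹ * (c * t)) * (c : G)⁻¹ := by rw [hc]
        _ = _ := by group
    rw [this, orderOf_conj]; exact y.2.2⟩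
  one_smul y := by
    apply Subtype.ext
    show ((1 : Subgroup.centralizer ({t} : Set G)) : G) * y * ((1 : Subgroup.centralizer ({t} : Set G)) : G)⁻¹ = y
    rw [Subgroup.coe_one]; group
  mul_smul a b y := by
    apply Subtype.ext
    show ((a * b : Subgroup.centralizer ({t} : Set G)) : G) * y *
      ((a * b : Subgroup.centralizer ({t} : Set G)) : G)⁻¹ = a * (b * y * (b : G)⁻¹) * (a : G)⁻¹
    rw [Subgroup.coe_mul]; group

/-- A family of representatives. -/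
structure Fam (t : G) (P : Subgroup G) (n : ℕ) (y : Fin n → G) : Prop where
  good : ∀ i, Good t (y i)
  mem : ∀ i, y i * t * (y i)⁻¹ ∈ P
  inj : ∀ i j, ∀ c ∈ Subgroup.centralizer ({t} : Set G),
    c * (y i * t * (y i)⁻¹) * c⁻¹ = y j * t * (y j)⁻¹ → i = j

/-- The number of families. -/
theorem exists_number {t : G} (ht : orderOf t = 2) : ∃ n : ℕ,
    Nat.card {y : G // orderOf y = 3 ∧ orderOf (y * t) = 3} =
      Nat.card (Subgroup.centralizer ({t} : Set G)) * n ∧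
    ∀ P : Subgroup G, (∀ v, orderOf v = 2 → v * t = t * v →
      ∃ c ∈ Subgroup.centralizer ({t} : Set G), c * v * c⁻¹ ∈ P) → ∃ y : Fin n → G, Fam t P n y := by
  classical
  letI := actY t
  have hsm : ∀ (c : Subgroup.centralizer ({t} : Set G))
      (y : {y : G // orderOf y = 3 ∧ orderOf (y * t) = 3}), ((c • y : {y : G // orderOf y = 3 ∧
        orderOf (y * t) = 3}) : G) = c * y * (c : G)⁻¹ := fun c y => rfl
  have hfree : ∀ y : {y : G // orderOf y = 3 ∧ orderOf (y * t) = 3},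
      MulAction.stabilizer (Subgroup.centralizer ({t} : Set G)) y = ⊥ := by
    intro y
    rw [Subgroup.eq_bot_iff_forall]
    intro c hc
    rw [MulAction.mem_stabilizer_iff] at hc
    have h1 : (c : G) * y * (c : G)⁻¹ = y := by rw [← hsm, hc]
    have h2 : (c : G) * y = y * c := by
      calc (c : G) * y = (c * y * (c : G)⁻¹) * c := by group
        _ = _ := by rw [h1]
    have hct := Subgroup.mem_centralizer_singleton_iff.1 c.2
    have h3 := cen_ne3 h ht hct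
    have hY := h.all y.2.1
    rcases hY.cen c h2 with e | e | e
    · exact Subtype.ext e
    · exact absurd (by rw [e]; exact hY.ox) h3
    · exact absurd (by rw [e, orderOf_inv]; exact hY.ox) h3
  let Ω := Quotient (MulAction.orbitRel (Subgroup.centralizer ({t} : Set G))
    {y : G // orderOf y = 3 ∧ orderOf (y * t) = 3})
  haveI : Finite Ω := Quotient.finite _
  let e := Finite.equivFin Ω
  refine ⟨Nat.card Ω, ?_, ?_⟩
  · rw [Nat.card_congr (MulAction.selfEquivOrbitsQuotientProd hfree), Nat.card_prod, mul_comm]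
  · intro P hP
    have hrep : ∀ ω : Ω, ∃ y : {y : G // orderOf y = 3 ∧ orderOf (y * t) = 3},
        (Quotient.mk'' y : Ω) = ω ∧ (y : G) * t * (y : G)⁻¹ ∈ P := by
      intro ω
      obtain ⟨y, rfl⟩ := Quotient.exists_rep ω
      have hg : Good t (y : G) := ⟨ht, y.2.1, y.2.2⟩
      obtain ⟨c, hc, hcP⟩ := hP _ hg.hu hg.comm
      refine ⟨(⟨c, hc⟩ : Subgroup.centralizer ({t} : Set G)) • y, ?_, ?_⟩
      · apply Quotient.sound
        exact ⟨⟨c, hc⟩, rfl⟩
      · rw [hsm]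
        have hct := Subgroup.mem_centralizer_singleton_iff.1 hc
        have : c * (y : G) * c⁻¹ * t * (c * y * c⁻¹)⁻¹ = c * (y * t * (y : G)⁻¹) * c⁻¹ := by
          calc c * (y : G) * c⁻¹ * t * (c * y * c⁻¹)⁻¹ = c * y * (c⁻¹ * (t * c)) * (y : G)⁻¹ * c⁻¹ := by group
            _ = c * y * (c⁻¹ * (c * t)) * (y : G)⁻¹ * c⁻¹ := by rw [hct]
            _ = _ := by group
        show c * (y : G) * c⁻¹ * t * (c * y * c⁻¹)⁻¹ ∈ P
        rw [this]; exact hcP
    choose r hr1 hr2 using hrep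
    refine ⟨fun i => (r (e.symm i) : G), ⟨?_, ?_, ?_⟩⟩
    · intro i; exact ⟨ht, (r (e.symm i)).2.1, (r (e.symm i)).2.2⟩
    · intro i; exact hr2 _
    · intro i j c hc hij
      apply e.symm.injective
      rw [← hr1 (e.symm i), ← hr1 (e.symm j)]
      have hct := Subgroup.mem_centralizer_singleton_iff.1 hc
      have hi : Good t (r (e.symm i) : G) := ⟨ht, (r (e.symm i)).2.1, (r (e.symm i)).2.2⟩
      have hj : Good t (r (e.symm j) : G) := ⟨ht, (r (e.symm j)).2.1, (r (e.symm j)).2.2⟩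
      set a : G := (r (e.symm i) : G) with ha
      set b : G := (r (e.symm j) : G) with hb
      have hci : Good t (c * a * c⁻¹) := by
        have h2 := ((⟨c, hc⟩ : Subgroup.centralizer ({t} : Set G)) • (r (e.symm i))).2
        exact ⟨ht, h2.1, h2.2⟩
      have e1 : c * (a : G) * c⁻¹ * t * (c * a * c⁻¹)⁻¹ = c * (a * t * (a : G)⁻¹) * c⁻¹ := by
        calc c * (a : G) * c⁻¹ * t * (c * a * c⁻¹)⁻¹ = c * a * (c⁻¹ * (t * c)) * (a : G)⁻¹ * c⁻¹ := by group
          _ = c * a * (c⁻¹ * (c * t)) * (a : G)⁻¹ * c⁻¹ := by rw [hct]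
          _ = _ := by group
      obtain ⟨m, hm, hm2⟩ := Good.uniq h hci hj (by rw [e1]; exact hij)
      symm
      apply Quotient.sound
      have hmc : m ∈ Subgroup.centralizer ({t} : Set G) :=
        Subgroup.mem_centralizer_singleton_iff.2 (mem_KK.1 hm).1
      refine ⟨⟨m, hmc⟩ * ⟨c, hc⟩, ?_⟩
      apply Subtype.ext
      rw [hsm]
      show m * c * a * (m * c)⁻¹ = b
      rw [hm2]; group

end Cfsg.Agent.H55.Three
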