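import Mathlib
import Cfsg.Agent.H55.ThreeOrb
import Cfsg.Agent.H55.FewInv

set_option autoImplicit false
set_option linter.style.haveILetI false
set_option linter.unusedSectionVars false

/-!
# Groups with a self-centralizing subgroup of order three: tools
-/

namespace Cfsg.Agent.H55.Three

open Cfsg.Agent.H55.BswGrp
open scoped commutatorElement

universe u

/-- The size of a class under a subgroup. -/
theorem card_cls {G : Type u} [Group G] [Finite G] (P : Subgroup G) (u : G) :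
    Nat.card P = Nat.card {g // ∃ p ∈ P, p * u * p⁻¹ = g} *
      Nat.card ↥(P ⊓ Subgroup.centralizer ({u} : Set G)) := by
  classical
  let f : P → {g // ∃ p ∈ P, p * u * p⁻¹ = g} := fun p => ⟨p * u * (p : G)⁻¹, p, p.2, rfl⟩
  apply card_fibre f
  rintro ⟨b, q, hq, rfl⟩
  refine Nat.card_congr
    { toFun := fun p => ⟨q⁻¹ * p.1, P.mul_mem (P.inv_mem hq) p.1.2, ?_⟩
      invFun := fun c => ⟨⟨q * c.1, P.mul_mem hq c.2.1⟩, ?_⟩
      left_inv := ?_
      right_inv := ?_ }
  · refine Subgroup.mem_centralizer_singleton_iff.2 ?_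
    have h1 : (p.1 : G) * u * (p.1 : G)⁻¹ = q * u * q⁻¹ := congrArg Subtype.val p.2
    calc q⁻¹ * p.1 * u = q⁻¹ * (p.1 * u * (p.1 : G)⁻¹) * p.1 := by group
      _ = u * (q⁻¹ * p.1) := by rw [h1]; group
  · apply Subtype.ext
    show (q * c.1) * u * (q * c.1)⁻¹ = q * u * q⁻¹
    have h1 := Subgroup.mem_centralizer_singleton_iff.1 c.2.2
    calc (q * c.1) * u * (q * c.1)⁻¹ = q * (c.1 * u) * (c.1 : G)⁻¹ * q⁻¹ := by group
      _ = q * (u * c.1) * (c.1 : G)⁻¹ * q⁻¹ := by rw [h1]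
      _ = _ := by group
  · intro p
    apply Subtype.ext; apply Subtype.ext
    show q * (q⁻¹ * (p.1 : G)) = p.1
    group
  · intro c
    apply Subtype.ext
    show q⁻¹ * (q * c.1) = c.1
    group

/-- Disjoint classes of size at least `m`. -/
theorem family_bound {G : Type u} [Group G] [Finite G] (P : Subgroup G) {ι : Type} [Finite ι]
    (u : ι → G) (S : Set G) (hS : ∀ i, ∀ p ∈ P, p * u i * p⁻¹ ∈ S)
    (hd : ∀ i j, ∀ p ∈ P, p * u i * p⁻¹ = u j → i = j) (m : ℕ)
    (hm : ∀ i, m * Nat.card ↥(P ⊓ Subgroup.centralizer ({u i} : Set G)) ≤ Nat.card P) :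
    Nat.card ι * m ≤ Nat.card S := by
  classical
  haveI := Fintype.ofFinite ι
  have h1 : ∀ i, m ≤ Nat.card {g // ∃ p ∈ P, p * u i * p⁻¹ = g} := by
    intro i
    have h2 := hm i
    rw [card_cls P (u i)] at h2
    exact Nat.le_of_mul_le_mul_right h2 Nat.card_pos
  let F : (Σ i, {g // ∃ p ∈ P, p * u i * p⁻¹ = g}) → S := fun a => ⟨a.2.1, by
    obtain ⟨p, hp, hpu⟩ := a.2.2
    rw [← hpu]; exact hS a.1 p hp⟩
  have hF : Function.Injective F := by
    rintro ⟨i, g, p, hp, hpg⟩ ⟨j, g', p', hp', hpg'⟩ e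
    have e1 : g = g' := congrArg Subtype.val e
    subst e1
    have e2 : i = j := by
      apply hd i j (p'⁻¹ * p) (P.mul_mem (P.inv_mem hp') hp)
      calc p'⁻¹ * p * u i * (p'⁻¹ * p)⁻¹ = p'⁻¹ * (p * u i * p⁻¹) * p' := by group
        _ = p'⁻¹ * (p' * u j * p'⁻¹) * p' := by rw [hpg, hpg']
        _ = u j := by group
    subst e2
    rfl
  have h2 := Nat.card_le_card_of_injective F hF
  rw [Nat.card_sigma] at h2
  have h3 : ∑ _i : ι, m ≤ ∑ i : ι, Nat.card {g // ∃ p ∈ P, p * u i * p⁻¹ = g} :=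
    Finset.sum_le_sum (fun i _ => h1 i)
  rw [Finset.sum_const, Finset.card_univ, smul_eq_mul, ← Nat.card_eq_fintype_card] at h3
  exact h3.trans h2

/-- Burnside's complement theorem in our situation. -/
theorem compl3 {G : Type u} [Group G] [Finite G] {x : G} (h : X3 x)
    (hni : ∀ v : G, orderOf v = 2 → v * x * v⁻¹ ≠ x⁻¹) :
    ∃ N : Subgroup G, N.Normal ∧ ¬ 3 ∣ Nat.card N ∧ N.index = 3 := by
  haveI : Fact (Nat.Prime 3) := ⟨Nat.prime_three⟩
  have hp : IsPGroup 3 (Subgroup.zpowers x) := by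
    apply IsPGroup.of_card (n := 1)
    rw [Nat.card_zpowers, h.ox, pow_one]
  obtain ⟨T, hT⟩ := hp.exists_le_sylow
  have hTx : (T : Subgroup G) = Subgroup.zpowers x := by
    symm
    apply Subgroup.eq_of_le_of_card_ge hT
    rw [h.sylow T, Nat.card_zpowers, h.ox]
  have hxT : x ∈ (T : Subgroup G) := hT (Subgroup.mem_zpowers x)
  have hnc : Subgroup.normalizer (T : Set G) ≤ Subgroup.centralizer (T : Set G) := by
    intro g hg
    have h1 : g * x * g⁻¹ ∈ (T : Subgroup G) := (Subgroup.mem_normalizer_iff.1 hg x).1 hxT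
    have hgx : g * x = x * g := by
      rw [hTx] at h1
      have hne : g * x * g⁻¹ ≠ 1 := by
        intro e
        apply h.x1
        calc x = g⁻¹ * (g * x * g⁻¹) * g := by group
          _ = 1 := by rw [e]; group
      rcases h.zpow h1 hne with e | e
      · calc g * x = (g * x * g⁻¹) * g := by group
          _ = _ := by rw [e]
      · exfalso
        obtain ⟨v, hv, hvx⟩ := h.exists_inv (isConj_iff.2 ⟨g, e⟩)
        exact hni v hv hvx
    rw [Subgroup.mem_centralizer_iff]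
    intro y hy
    have hy' : y ∈ Subgroup.zpowers x := by rw [← hTx]; exact hy
    obtain ⟨k, rfl⟩ := Subgroup.mem_zpowers_iff.1 hy'
    have h2 : Commute g x := hgx
    exact (h2.zpow_right k).eq.symm
  refine ⟨(MonoidHom.transferSylow T hnc).ker, inferInstance,
    MonoidHom.not_dvd_card_ker_transferSylow T hnc, ?_⟩
  have h2 := (MonoidHom.ker_transferSylow_isComplement' T hnc).symm.index_eq_card
  rw [h2]
  exact h.sylow T

/-- Version for subgroups. -/
theorem compl3_sub {G : Type u} [Group G] [Finite G] {y : G} (h : X3 y) (M : Subgroup G)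
    (hy : y ∈ M) (hni : ∀ v ∈ M, orderOf v = 2 → v * y * v⁻¹ ≠ y⁻¹) :
    ∃ N : Subgroup G, N ≤ M ∧ (∀ m ∈ M, ∀ n ∈ N, m * n * m⁻¹ ∈ N) ∧ (∀ m ∈ M, m ^ 3 ∈ N) ∧
      ¬ 3 ∣ Nat.card N ∧ Nat.card M = 3 * Nat.card N := by
  have hY : X3 (⟨y, hy⟩ : M) := by
    refine ⟨?_, ?_⟩
    · rw [← h.ox]; exact Subgroup.orderOf_mk y hy
    · intro g hg
      have h1 : (g : G) * y = y * g := congrArg Subtype.val hg
      rcases h.cen g h1 with e | e | e
      · exact Or.inl (Subtype.ext e)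
      · exact Or.inr (Or.inl (Subtype.ext e))
      · exact Or.inr (Or.inr (Subtype.ext e))
  obtain ⟨N, hN, hN3, hNi⟩ := compl3 hY (by
    intro v hv e
    refine hni v v.2 ?_ (congrArg Subtype.val e)
    rw [Subgroup.orderOf_coe]; exact hv)
  have hc : Nat.card (N.map M.subtype) = Nat.card N :=
    Subgroup.card_map_of_injective M.subtype_injective
  refine ⟨N.map M.subtype, Subgroup.map_subtype_le N, ?_, ?_, by rw [hc]; exact hN3, ?_⟩
  · intro m hm n hn
    obtain ⟨n', hn', rfl⟩ := Subgroup.mem_map.1 hn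
    exact Subgroup.mem_map.2 ⟨⟨m, hm⟩ * n' * ⟨m, hm⟩⁻¹, hN.conj_mem n' hn' ⟨m, hm⟩, rfl⟩
  · intro m hm
    refine Subgroup.mem_map.2 ⟨⟨m, hm⟩ ^ 3, ?_, rfl⟩
    rw [← hNi]; exact Subgroup.pow_index_mem N ⟨m, hm⟩
  · rw [hc, ← hNi, mul_comm, Subgroup.card_mul_index]

/-- Coprime commuting in groups of class two. -/
theorem comm_of_coprime {G : Type u} [Group G] {N : Subgroup G}
    (hc : ∀ a ∈ N, ∀ b ∈ N, ∀ c ∈ N, ⁅⁅a, b⁆, c⁆ = 1) {a b : G} (ha : a ∈ N) (hb : b ∈ N)
    {m n : ℕ} (hm : a ^ m = 1) (hn : b ^ n = 1) (hmn : Nat.Coprime m n) : a * b = b * a := by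
  set c := ⁅a, b⁆ with hcd
  have e1 : a * b * a⁻¹ = c * b := by rw [hcd, commutatorElement_def]; group
  have ca : Commute c a := by
    have := hc a ha b hb a ha
    rwa [← hcd, commutatorElement_eq_one_iff_commute] at this
  have cb : Commute c b := by
    have := hc a ha b hb b hb
    rwa [← hcd, commutatorElement_eq_one_iff_commute] at this
  -- c ^ n = 1
  have h1 : c ^ n = 1 := by
    have h2 : (a * b * a⁻¹) ^ n = 1 := by rw [conj_pow, hn]; group
    rw [e1, cb.mul_pow, hn, mul_one] at h2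
    exact h2
  -- c ^ m = 1 : a ^ k b a ^ -k = c ^ k b
  have h3 : ∀ k : ℕ, a ^ k * b * (a ^ k)⁻¹ = c ^ k * b := by
    intro k
    induction k with
    | zero => simp
    | succ k ih =>
      have e2 : a * c ^ k = c ^ k * a := ((ca.pow_left k).eq).symm
      calc a ^ (k + 1) * b * (a ^ (k + 1))⁻¹ = a * (a ^ k * b * (a ^ k)⁻¹) * a⁻¹ := by
            rw [pow_succ']; group
        _ = a * (c ^ k * b) * a⁻¹ := by rw [ih]
        _ = (a * c ^ k) * b * a⁻¹ := by group
        _ = (c ^ k * a) * b * a⁻¹ := by rw [e2]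
        _ = c ^ k * (a * b * a⁻¹) := by group
        _ = _ := by rw [e1, pow_succ]; group
  have h4 : c ^ m = 1 := by
    have := h3 m
    rw [hm] at this
    have h5 : b = c ^ m * b := by simpa using this
    exact (right_eq_mul.1 h5)
  have h5 : c = 1 := by
    have h6 : orderOf c ∣ 1 := by
      have := Nat.dvd_gcd (orderOf_dvd_of_pow_eq_one h4) (orderOf_dvd_of_pow_eq_one h1)
      rwa [hmn] at this
    exact orderOf_eq_one_iff.1 (Nat.dvd_one.1 h6)
  rw [h5, one_mul] at e1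
  calc a * b = (a * b * a⁻¹) * a := by group
    _ = b * a := by rw [e1]

end Cfsg.Agent.H55.Three
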