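import Mathlib
import Cfsg.Agent.H55.ThreeBnd
import Cfsg.Agent.H55.BswM

set_option autoImplicit false
set_option linter.style.haveILetI false
set_option linter.unusedSectionVars false

/-!
# Groups with a self-centralizing subgroup of order three: no elementary abelian group of order 16
-/

namespace Cfsg.Agent.H55.Three

open Cfsg.Agent.H55.BswGrp
open scoped commutatorElement

universe u

/-- No large elementary abelian invariant subgroups. -/
def NoE (G : Type u) [Group G] : Prop := ∀ (y : G) (T : Subgroup G), orderOf y = 3 →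
  (∀ g ∈ T, y * g * y⁻¹ ∈ T) → (∀ g ∈ T, g * g = 1) → Nat.card T < 16

theorem five_le {G : Type u} [Group G] [Finite G] (T : Subgroup G) {a b c d e : G}
    (ha : a ∈ T) (hb : b ∈ T) (hc : c ∈ T) (hd : d ∈ T) (he : e ∈ T)
    (h1 : a ≠ b) (h2 : a ≠ c) (h3 : a ≠ d) (h4 : a ≠ e) (h5 : b ≠ c) (h6 : b ≠ d) (h7 : b ≠ e)
    (h8 : c ≠ d) (h9 : c ≠ e) (h10 : d ≠ e) : 5 ≤ Nat.card T := by
  classical
  have k1 : ({a, b, c, d, e} : Finset G).card = 5 := by
    rw [Finset.card_insert_of_notMem, Finset.card_insert_of_notMem, Finset.card_insert_of_notMem,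
      Finset.card_insert_of_notMem, Finset.card_singleton]
    · simp [h10]
    · simp [h8, h9]
    · simp [h5, h6, h7]
    · simp [h1, h2, h3, h4]
  have k2 : (({a, b, c, d, e} : Finset G) : Set G) ⊆ (T : Set G) := by
    intro g hg
    simp only [Finset.coe_insert, Finset.coe_singleton, Set.mem_insert_iff,
      Set.mem_singleton_iff] at hg
    rcases hg with rfl | rfl | rfl | rfl | rfl <;> assumption
  have k3 := Nat.card_mono (Set.toFinite (T : Set G)) k2
  rw [Nat.card_eq_card_toFinset, Finset.toFinset_coe, k1] at k3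
  exact k3

/-- In case of no large elementary abelian groups, `K` has only three involutions. -/
theorem K_inv {G : Type u} [Group G] [Finite G] {x : G} (h : X3 x) (hE : NoE G) {t y : G}
    (hg : Good t y) {v : G} (hv : v ∈ KK t y) (hvv : v * v = 1) :
    v = 1 ∨ v = t ∨ v = y * t * y⁻¹ ∨ v = t * (y * t * y⁻¹) := by
  by_contra hn
  push Not at hn
  obtain ⟨n1, n2, n3, n4⟩ := hn
  set u := y * t * y⁻¹ with hu
  set v' := y * v * y⁻¹ with hv'
  have hy3 := pow3_of_order hg.hy
  have hv'K : v' ∈ KK t y := hg.K_norm v hv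
  have c1 : t * u = u * t := hg.comm.symm
  have c2 := mem_KK.1 hv
  have c3 := mem_KK.1 hv'K
  rw [← hu] at c2 c3
  have c4 : v * v' = v' * v := (Fpf3.conj_comm hy3 hg.K_norm (hg.K_fpf h) hv).eq
  have htt := sq_one_of_order hg.ht
  have huu := sq_one_of_order hg.hu
  rw [← hu] at huu
  have hv'v' : v' * v' = 1 := by
    rw [hv']
    calc y * v * y⁻¹ * (y * v * y⁻¹) = y * (v * v) * y⁻¹ := by group
      _ = 1 := by rw [hvv]; group
  let S : Set G := {t, u, v, v'}
  have hcomm : ∀ a ∈ S, ∀ b ∈ S, a * b = b * a := by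
    intro a ha b hb
    simp only [S, Set.mem_insert_iff, Set.mem_singleton_iff] at ha hb
    rcases ha with rfl | rfl | rfl | rfl <;> rcases hb with rfl | rfl | rfl | rfl
    · rfl
    · exact c1
    · exact c2.1.symm
    · exact c3.1.symm
    · exact c1.symm
    · rfl
    · exact c2.2.symm
    · exact c3.2.symm
    · exact c2.1
    · exact c2.2
    · rfl
    · exact c4
    · exact c3.1
    · exact c3.2
    · exact c4.symm
    · rfl
  let T := Subgroup.closure S
  haveI hTc : IsMulCommutative T := Subgroup.isMulCommutative_closure hcomm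
  have hTcomm : ∀ a ∈ T, ∀ b ∈ T, a * b = b * a := fun a ha b hb => setLike_mul_comm ha hb
  have hT2 : ∀ g ∈ T, g * g = 1 := by
    intro g hgT
    induction hgT using Subgroup.closure_induction with
    | mem g hgS =>
      simp only [S, Set.mem_insert_iff, Set.mem_singleton_iff] at hgS
      rcases hgS with rfl | rfl | rfl | rfl <;> assumption
    | one => exact mul_one 1
    | mul a b ha hb iha ihb =>
      calc a * b * (a * b) = a * (b * a) * b := by group
        _ = a * (a * b) * b := by rw [hTcomm b hb a ha]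
        _ = (a * a) * (b * b) := by group
        _ = 1 := by rw [iha, ihb, mul_one]
    | inv a ha iha =>
      calc a⁻¹ * a⁻¹ = (a * a)⁻¹ := by group
        _ = 1 := by rw [iha, inv_one]
  have htT : t ∈ T := Subgroup.subset_closure (by simp [S])
  have huT : u ∈ T := Subgroup.subset_closure (by simp [S])
  have hvT : v ∈ T := Subgroup.subset_closure (by simp [S])
  have hv'T : v' ∈ T := Subgroup.subset_closure (by simp [S])
  have hyT : ∀ g ∈ T, y * g * y⁻¹ ∈ T := by
    have hle : T ≤ T.comap (MulAut.conj y).toMonoidHom := by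
      rw [Subgroup.closure_le]
      intro g hgS
      simp only [S, Set.mem_insert_iff, Set.mem_singleton_iff] at hgS
      show y * g * y⁻¹ ∈ T
      rcases hgS with e | e | e | e
      · rw [e]; exact huT
      · rw [e, hu, hg.w2]; exact T.mul_mem htT huT
      · rw [e]; exact hv'T
      · have h1 := Fpf3.conj_prod hy3 hg.K_norm (hg.K_fpf h) hv
        have h2 : y * v' * y⁻¹ = (v * v')⁻¹ := by
          rw [hv']; exact eq_inv_of_mul_eq_one_right h1
        rw [e, h2]
        exact T.inv_mem (T.mul_mem hvT hv'T)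
    intro g hgT
    exact hle hgT
  have hlt := hE y T hg.hy hyT hT2
  have hT3 : ∀ g ∈ T, orderOf g ≠ 3 := by
    intro g hg e
    have h2 : orderOf g ∣ 2 := orderOf_dvd_of_pow_eq_one (by rw [sq]; exact hT2 g hg)
    rw [e] at h2
    omega
  have hmod := Fpf3.card_mod hy3 hyT ((h.all hg.hy).fpf hT3)
  have hpg : IsPGroup 2 T := by
    intro g
    refine ⟨1, ?_⟩
    apply Subtype.ext
    show (g : G) ^ 2 ^ 1 = 1
    rw [pow_one, sq]; exact hT2 g g.2
  haveI : Fact (Nat.Prime 2) := ⟨Nat.prime_two⟩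
  obtain ⟨k, hk⟩ := hpg.exists_card_eq
  have h5 : 5 ≤ Nat.card T := by
    have t1 := ne_one_of_order hg.ht
    have u1 := ne_one_of_order hg.hu
    rw [← hu] at u1
    have tu := hg.t_ne_u
    rw [← hu] at tu
    refine five_le T T.one_mem htT huT (T.mul_mem htT huT) hvT t1.symm u1.symm ?_ n1.symm
      tu ?_ n2.symm ?_ n3.symm n4.symm
    · intro e
      apply tu
      calc t = t * (t * u) := by rw [← e, mul_one]
        _ = (t * t) * u := by group
        _ = u := by rw [htt, one_mul]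
    · intro e
      exact u1 (left_eq_mul.1 e)
    · intro e
      exact t1 (right_eq_mul.1 e)
  rw [hk] at hlt hmod h5
  have hk4 : k < 4 := by
    by_contra hc
    have : 2 ^ 4 ≤ 2 ^ k := Nat.pow_le_pow_right (by norm_num) (by omega)
    omega
  interval_cases k <;> omega

/-- The normalizer grows. -/
theorem exists_norm_of_lt {G : Type u} [Group G] [Finite G] {p : ℕ} [Fact p.Prime]
    {P Q : Subgroup G} (hP : IsPGroup p P) (hQP : Q ≤ P) (hne : Q ≠ P) :
    ∃ g ∈ P, g ∉ Q ∧ ∀ q, q ∈ Q ↔ g * q * g⁻¹ ∈ Q := by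
  haveI : Group.IsNilpotent P := hP.isNilpotent
  have hlt : Q.subgroupOf P < ⊤ := by
    rw [lt_top_iff_ne_top]
    intro e
    rw [Subgroup.subgroupOf_eq_top] at e
    exact hne (le_antisymm hQP e)
  have h1 := Group.normalizerCondition_of_isNilpotent (G := P) _ hlt
  obtain ⟨g, hg1, hg2⟩ := SetLike.exists_of_lt h1
  refine ⟨g, g.2, fun e => hg2 (Subgroup.mem_subgroupOf.2 e), ?_⟩
  intro q
  constructor
  · intro hq
    have h2 := (Subgroup.mem_normalizer_iff.1 hg1 ⟨q, hQP hq⟩).1 (Subgroup.mem_subgroupOf.2 hq)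
    exact Subgroup.mem_subgroupOf.1 h2
  · intro hq
    have hqP : q ∈ P := by
      have h3 : (g : G)⁻¹ * (g * q * (g : G)⁻¹) * g ∈ P :=
        P.mul_mem (P.mul_mem (P.inv_mem g.2) (hQP hq)) g.2
      have h4 : (g : G)⁻¹ * (g * q * (g : G)⁻¹) * g = q := by group
      rwa [h4] at h3
    have h2 := (Subgroup.mem_normalizer_iff.1 hg1 ⟨q, hqP⟩).2 (Subgroup.mem_subgroupOf.2 hq)
    exact Subgroup.mem_subgroupOf.1 h2

/-- `P` normalizes the four-group. -/
theorem normU {G : Type u} [Group G] [Finite G] {t y : G} (hg : Good t y)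
    (hK : ∀ v ∈ KK t y, v * v = 1 → v = 1 ∨ v = t ∨ v = y * t * y⁻¹ ∨ v = t * (y * t * y⁻¹))
    (P : Subgroup G) (hP : IsPGroup 2 P) (hPt : ∀ g ∈ P, g * t = t * g) (huP : y * t * y⁻¹ ∈ P)
    (hyR : ∀ g ∈ P, g ∈ KK t y → y * g * y⁻¹ ∈ P)
    (hbig : ∃ r ∈ P, r ∈ KK t y ∧ r * r ≠ 1) :
    ∀ g ∈ P, g * (y * t * y⁻¹) * g⁻¹ = y * t * y⁻¹ ∨
      g * (y * t * y⁻¹) * g⁻¹ = t * (y * t * y⁻¹) := by
  haveI : Fact (Nat.Prime 2) := ⟨Nat.prime_two⟩
  set u := y * t * y⁻¹ with hu
  have htt := sq_one_of_order hg.ht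
  have huu := sq_one_of_order hg.hu
  rw [← hu] at huu
  have hu1 : u ≠ 1 := ne_one_of_order hg.hu
  have htu : t ≠ u := hg.t_ne_u
  have ctu : t * u = u * t := hg.comm.symm
  have hct : ∀ g ∈ P, g * t * g⁻¹ = t := by
    intro g hg'
    rw [hPt g hg']; group
  have htw : ∀ g ∈ P, ∀ w : G, g * (t * w) * g⁻¹ = t * (g * w * g⁻¹) := by
    intro g hg' w
    calc g * (t * w) * g⁻¹ = (g * t * g⁻¹) * (g * w * g⁻¹) := by group
      _ = _ := by rw [hct g hg']
  have htt' : ∀ w : G, t * (t * w) = w := by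
    intro w; rw [← mul_assoc, htt, one_mul]
  let Q : Subgroup G :=
    { carrier := {g | g ∈ P ∧ (g * u * g⁻¹ = u ∨ g * u * g⁻¹ = t * u)}
      one_mem' := ⟨P.one_mem, Or.inl (by group)⟩
      mul_mem' := by
        rintro a b ⟨ha, ha'⟩ ⟨hb, hb'⟩
        refine ⟨P.mul_mem ha hb, ?_⟩
        have e1 : a * b * u * (a * b)⁻¹ = a * (b * u * b⁻¹) * a⁻¹ := by group
        rw [e1]
        rcases hb' with e | e
        · rw [e]; exact ha'
        · rw [e, htw a ha]
          rcases ha' with e' | e'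
          · rw [e']; exact Or.inr rfl
          · rw [e', htt']; exact Or.inl rfl
      inv_mem' := by
        rintro a ⟨ha, ha'⟩
        refine ⟨P.inv_mem ha, ?_⟩
        rcases ha' with e | e
        · left
          calc a⁻¹ * u * a⁻¹⁻¹ = a⁻¹ * (a * u * a⁻¹) * a := by rw [e]; group
            _ = u := by group
        · right
          have e1 : a⁻¹ * (t * u) * a⁻¹⁻¹ = u := by rw [← e]; group
          rw [htw a⁻¹ (P.inv_mem ha)] at e1
          calc a⁻¹ * u * a⁻¹⁻¹ = t * (t * (a⁻¹ * u * a⁻¹⁻¹)) := by rw [htt']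
            _ = t * u := by rw [e1] }
  have hQ : ∀ g, g ∈ Q ↔ g ∈ P ∧ (g * u * g⁻¹ = u ∨ g * u * g⁻¹ = t * u) := fun g => Iff.rfl
  by_contra hcon
  push Not at hcon
  obtain ⟨g0, hg0, hg01, hg02⟩ := hcon
  have hne : Q ≠ P := by
    intro e
    rw [← e, hQ] at hg0
    rcases hg0.2 with e1 | e1
    · exact hg01 e1
    · exact hg02 e1
  obtain ⟨g, hgP, hgQ, hgn⟩ := exists_norm_of_lt hP (fun a ha => ((hQ a).1 ha).1) hne
  set u' := g * u * g⁻¹ with hu'
  have hu'u : u' ≠ u := fun e => hgQ ((hQ g).2 ⟨hgP, Or.inl e⟩)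
  have hu'tu : u' ≠ t * u := fun e => hgQ ((hQ g).2 ⟨hgP, Or.inr e⟩)
  have hu'P : u' ∈ P := P.mul_mem (P.mul_mem hgP huP) (P.inv_mem hgP)
  have hu'1 : u' ≠ 1 := by
    intro e
    apply hu1
    calc u = g⁻¹ * u' * g := by rw [hu']; group
      _ = 1 := by rw [e]; group
  have hu't : u' ≠ t := by
    intro e
    apply htu
    calc t = g⁻¹ * (g * t * g⁻¹) * g := by group
      _ = g⁻¹ * u' * g := by rw [hct g hgP, e]
      _ = u := by rw [hu']; group
  have hu'u' : u' * u' = 1 := by
    rw [hu']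
    calc g * u * g⁻¹ * (g * u * g⁻¹) = g * (u * u) * g⁻¹ := by group
      _ = 1 := by rw [huu]; group
  -- elements of `Q` act on `u'`
  have hQu' : ∀ r ∈ Q, r * u' * r⁻¹ = u' ∨ r * u' * r⁻¹ = t * u' := by
    intro r hr
    have h1 : g⁻¹ * r * g ∈ Q := by
      rw [hgn]
      have : g * (g⁻¹ * r * g) * g⁻¹ = r := by group
      rw [this]; exact hr
    have h2 := ((hQ _).1 h1).2
    have h3 : r * u' * r⁻¹ = g * ((g⁻¹ * r * g) * u * (g⁻¹ * r * g)⁻¹) * g⁻¹ := by
      rw [hu']; group
    rw [h3]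
    rcases h2 with e | e
    · left; rw [e]
    · right; rw [e, htw g hgP]
  have huQ : u ∈ Q := (hQ u).2 ⟨huP, Or.inl (by group)⟩
  -- `u` does not commute with `u'`
  have huu' : u * u' * u⁻¹ = t * u' := by
    rcases hQu' u huQ with e | e
    · exfalso
      have h1 : u' ∈ KK t y := by
        rw [mem_KK]
        refine ⟨hPt u' hu'P, ?_⟩
        rw [← hu]
        calc u' * u = (u * u' * u⁻¹) * u := by rw [e]
          _ = u * u' := by group
      rcases hK u' h1 hu'u' with e1 | e1 | e1 | e1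
      · exact hu'1 e1
      · exact hu't e1
      · exact hu'u e1
      · exact hu'tu e1
    · exact e
  have hnc : ¬ (u * u' = u' * u) := by
    intro e
    have h1 : u * u' * u⁻¹ = u' := by rw [e]; group
    rw [h1] at huu'
    exact ne_one_of_order hg.ht (right_eq_mul.1 huu')
  -- squares
  have hsq : ∀ r ∈ P, r ∈ KK t y → ∃ s ∈ P, s ∈ KK t y ∧ s * u' = u' * s ∧ r * r = s * s := by
    intro r hrP hrK
    have hru : r * u = u * r := (mem_KK.1 hrK).2
    have hrQ : r ∈ Q := (hQ r).2 ⟨hrP, Or.inl (by rw [hru]; group)⟩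
    rcases hQu' r hrQ with e | e
    · refine ⟨r, hrP, hrK, ?_, rfl⟩
      calc r * u' = (r * u' * r⁻¹) * r := by group
        _ = _ := by rw [e]
    · refine ⟨r * u, P.mul_mem hrP huP, (KK t y).mul_mem hrK hg.u_mem, ?_, ?_⟩
      · have h1 : r * u * u' * (r * u)⁻¹ = u' := by
          calc r * u * u' * (r * u)⁻¹ = r * (u * u' * u⁻¹) * r⁻¹ := by group
            _ = u' := by rw [huu', htw r hrP, e, htt']
        calc r * u * u' = (r * u * u' * (r * u)⁻¹) * (r * u) := by group
          _ = _ := by rw [h1]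
      · calc r * r = r * r * (u * u) := by rw [huu, mul_one]
          _ = r * (r * u) * u := by group
          _ = r * (u * r) * u := by rw [hru]
          _ = r * u * (r * u) := by group
  obtain ⟨r, hrP, hrK, hrr⟩ := hbig
  obtain ⟨s, hsP, hsK, hsu', hs2⟩ := hsq r hrP hrK
  rw [hs2] at hrr
  -- a power of `s` has square `t`
  have hex : ∃ m : ℕ, s ^ m * s ^ m ≠ 1 ∧ (s ^ m * s ^ m) * (s ^ m * s ^ m) = 1 := by
    obtain ⟨k, hk⟩ := hP ⟨s, hsP⟩
    have hk' : s ^ 2 ^ k = 1 := congrArg Subtype.val hk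
    clear hk
    induction k with
    | zero =>
      exfalso; apply hrr
      rw [pow_zero, pow_one] at hk'
      rw [hk', one_mul]
    | succ k ih =>
      by_cases c : s ^ 2 ^ k = 1
      · exact ih c
      · cases k with
        | zero =>
          exfalso; apply hrr
          rw [← hk']; rw [zero_add, pow_one, sq]
        | succ k =>
          refine ⟨2 ^ k, ?_, ?_⟩
          · rw [← pow_add]
            have : 2 ^ k + 2 ^ k = 2 ^ (k + 1) := by ring
            rw [this]; exact c
          · rw [← pow_add, ← pow_add]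
            have : 2 ^ k + 2 ^ k + (2 ^ k + 2 ^ k) = 2 ^ (k + 1 + 1) := by ring
            rw [this]; exact hk'
  obtain ⟨m, hm1, hm2⟩ := hex
  set s1 := s ^ m with hs1
  have hs1P : s1 ∈ P := P.pow_mem hsP m
  have hs1K : s1 ∈ KK t y := (KK t y).pow_mem hsK m
  have hs1u' : Commute s1 u' := by
    have : Commute s u' := hsu'
    exact this.pow_left m
  have hs1t : s1 * s1 = t := by
    have h1 : Commute (s1 * s1) u' := hs1u'.mul_left hs1u'
    rcases hK (s1 * s1) ((KK t y).mul_mem hs1K hs1K) hm2 with e | e | e | e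
    · exact absurd e hm1
    · exact e
    · exfalso
      rw [e] at h1
      exact hnc h1.eq
    · exfalso
      rw [e] at h1
      have h2 : Commute t u' := (hPt u' hu'P).symm
      have h3 := h2.inv_left.mul_left h1
      have h4 : t⁻¹ * (t * u) = u := by group
      rw [h4] at h3
      exact hnc h3.eq
  -- conjugating by `y`
  have h1 := hyR s1 hs1P hs1K
  obtain ⟨s2, hs2P, hs2K, hs2u', hs22⟩ := hsq _ h1 (hg.K_norm _ hs1K)
  have h2 : y * s1 * y⁻¹ * (y * s1 * y⁻¹) = u := by
    rw [hu, ← hs1t]; group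
  rw [h2] at hs22
  have h3 : Commute (s2 * s2) u' := by
    have : Commute s2 u' := hs2u'
    exact this.mul_left this
  rw [← hs22] at h3
  exact hnc h3.eq

/-- Sylow subgroups of the centralizer. -/
theorem exists_syl {G : Type u} [Group G] [Finite G] (C R : Subgroup G) (hR : IsPGroup 2 R)
    (hRC : R ≤ C) : ∃ P : Subgroup G, R ≤ P ∧ P ≤ C ∧ IsPGroup 2 P ∧
      (∀ Q : Subgroup G, Q ≤ C → IsPGroup 2 Q → P ≤ Q → Q = P) ∧
      ∀ v ∈ C, orderOf v = 2 → ∃ c ∈ C, c * v * c⁻¹ ∈ P := by
  haveI : Fact (Nat.Prime 2) := ⟨Nat.prime_two⟩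
  have h1 : IsPGroup 2 (R.subgroupOf C) := hR.comap_of_injective C.subtype C.subtype_injective
  obtain ⟨S, hS⟩ := h1.exists_le_sylow
  refine ⟨(S : Subgroup C).map C.subtype, ?_, Subgroup.map_subtype_le _, S.isPGroup'.map _, ?_, ?_⟩
  · intro r hr
    exact Subgroup.mem_map.2 ⟨⟨r, hRC hr⟩, hS (Subgroup.mem_subgroupOf.2 hr), rfl⟩
  · intro Q hQC hQ hle
    have h2 : (S : Subgroup C) ≤ Q.subgroupOf C := by
      intro a ha
      exact Subgroup.mem_subgroupOf.2 (hle (Subgroup.mem_map.2 ⟨a, ha, rfl⟩))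
    have h3 := S.is_maximal' (hQ.comap_of_injective C.subtype C.subtype_injective) h2
    rw [← h3]
    show Q = (Q.subgroupOf C).map C.subtype
    rw [Subgroup.subgroupOf_map_subtype, inf_eq_left.2 hQC]
  · intro v hv ho
    have h2 : orderOf (⟨v, hv⟩ : C) = 2 := by
      rw [← ho]; exact Subgroup.orderOf_mk v hv
    obtain ⟨g, hg⟩ := exists_conj_mem (S : Subgroup C) S.not_dvd_index h2
    refine ⟨(g : G)⁻¹, C.inv_mem g.2, ?_⟩
    exact Subgroup.mem_map.2 ⟨_, hg, by simp⟩

/-- The Sylow 2-subgroup of a nilpotent subgroup. -/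
theorem nilp_two {G : Type u} [Group G] [Finite G] (K : Subgroup G) (hK : Group.IsNilpotent K) :
    ∃ R ≤ K, IsPGroup 2 R ∧ ∀ g ∈ K, (∃ k : ℕ, g ^ 2 ^ k = 1) → g ∈ R := by
  haveI : Fact (Nat.Prime 2) := ⟨Nat.prime_two⟩
  haveI := hK
  let S : Sylow 2 K := default
  haveI hn : (S : Subgroup K).Normal := inferInstance
  refine ⟨(S : Subgroup K).map K.subtype, Subgroup.map_subtype_le _, S.isPGroup'.map _, ?_⟩
  rintro g hg ⟨k, hk⟩
  have h1 : IsPGroup 2 (Subgroup.zpowers (⟨g, hg⟩ : K)) := by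
    rintro ⟨z, hz⟩
    obtain ⟨j, rfl⟩ := Subgroup.mem_zpowers_iff.1 hz
    refine ⟨k, ?_⟩
    apply Subtype.ext
    show ((⟨g, hg⟩ : K) ^ j) ^ 2 ^ k = 1
    rw [← zpow_natCast, ← zpow_mul, mul_comm, zpow_mul, zpow_natCast]
    have : (⟨g, hg⟩ : K) ^ 2 ^ k = 1 := Subtype.ext hk
    rw [this, one_zpow]
  obtain ⟨T, hT⟩ := h1.exists_le_sylow
  haveI := Sylow.unique_of_normal S hn
  have h2 : T = S := Subsingleton.elim _ _
  rw [h2] at hT
  exact Subgroup.mem_map.2 ⟨⟨g, hg⟩, hT (Subgroup.mem_zpowers _), rfl⟩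

/-- Involutions swapping `u` and `tu` are conjugate under `K`. -/
theorem VK' {G : Type u} [Group G] [Finite G] {x : G} (h : X3 x) {t y : G} (hg : Good t y)
    {v v' : G} (hv : orderOf v = 2) (hv' : orderOf v' = 2) (hvt : v * t = t * v)
    (hvt' : v' * t = t * v') (hvu : v * (y * t * y⁻¹) * v⁻¹ = t * (y * t * y⁻¹))
    (hvu' : v' * (y * t * y⁻¹) * v'⁻¹ = t * (y * t * y⁻¹)) : ∃ k ∈ KK t y, v' = k * v * k⁻¹ := by
  set u := y * t * y⁻¹ with hu
  have htt := sq_one_of_order hg.ht
  have htt' : ∀ w : G, t * (t * w) = w := by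
    intro w; rw [← mul_assoc, htt, one_mul]
  have ht' : ∀ w : G, w * t = t * w → w * t * w⁻¹ = t := by
    intro w hw; rw [hw]; group
  have hstu : ∀ w : G, w * t = t * w → w * u * w⁻¹ = t * u → w * (t * u) * w⁻¹ = u := by
    intro w hw1 hw2
    calc w * (t * u) * w⁻¹ = (w * t * w⁻¹) * (w * u * w⁻¹) := by group
      _ = u := by rw [ht' w hw1, hw2, htt']
  have a1 := hstu v hvt hvu
  have b1 := hstu v' hvt' hvu'
  have mk : ∀ g : G, g * t * g⁻¹ = t → g * u * g⁻¹ = u → g ∈ KK t y := by
    intro g h1 h2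
    rw [mem_KK, ← hu]
    constructor
    · calc g * t = (g * t * g⁻¹) * g := by group
        _ = _ := by rw [h1]
    · calc g * u = (g * u * g⁻¹) * g := by group
        _ = _ := by rw [h2]
  have inv1 : v⁻¹ * (t * u) * v = u := by rw [← hvu]; group
  have inv2 : v⁻¹ * u * v = t * u := by nth_rw 1 [← a1]; group
  have inv3 : v⁻¹ * t * v = t := by nth_rw 1 [← ht' v hvt]; group
  refine VK (pow3_of_order hg.hy) hg.K_norm (hg.K_fpf h) hv hv' ?_ ?_ ?_
  · intro n hn
    have h1 := mem_KK.1 hn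
    rw [← hu] at h1
    apply mk
    · calc v * n * v⁻¹ * t * (v * n * v⁻¹)⁻¹ = v * (n * (v⁻¹ * t * v)) * n⁻¹ * v⁻¹ := by group
        _ = v * (t * n) * n⁻¹ * v⁻¹ := by rw [inv3, h1.1]
        _ = v * t * v⁻¹ := by group
        _ = t := ht' v hvt
    · have h2 : n * (t * u) = (t * u) * n := by
        calc n * (t * u) = (n * t) * u := by group
          _ = t * (n * u) := by rw [h1.1]; group
          _ = _ := by rw [h1.2]; group
      calc v * n * v⁻¹ * u * (v * n * v⁻¹)⁻¹ = v * (n * (v⁻¹ * u * v)) * n⁻¹ * v⁻¹ := by group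
        _ = v * ((t * u) * n) * n⁻¹ * v⁻¹ := by rw [inv2, h2]
        _ = v * (t * u) * v⁻¹ := by group
        _ = u := a1
  · apply mk
    · calc v⁻¹ * v' * t * (v⁻¹ * v')⁻¹ = v⁻¹ * (v' * t * v'⁻¹) * v := by group
        _ = t := by rw [ht' v' hvt', inv3]
    · calc v⁻¹ * v' * u * (v⁻¹ * v')⁻¹ = v⁻¹ * (v' * u * v'⁻¹) * v := by group
        _ = u := by rw [hvu', inv1]
  · have w2 := hg.w2
    have w3 := hg.w3
    rw [← hu] at w2 w3
    apply mk
    · calc v * y * v⁻¹ * y * t * (v * y * v⁻¹ * y)⁻¹ = v * (y * (v⁻¹ * (y * t * y⁻¹) * v) * y⁻¹) * v⁻¹ := by group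
        _ = t := by rw [← hu, inv2, w3, ht' v hvt]
    · calc v * y * v⁻¹ * y * u * (v * y * v⁻¹ * y)⁻¹ = v * (y * (v⁻¹ * (y * u * y⁻¹) * v) * y⁻¹) * v⁻¹ := by group
        _ = u := by rw [w2, inv1, w2, a1]

/-- At most three classes if there is no large elementary abelian group. -/
theorem alpha {G : Type u} [Group G] [Finite G] {x : G} (h : X3 x) (hE : NoE G) {t : G}
    (ht : orderOf t = 2) {n : ℕ}
    (hn : ∀ P : Subgroup G, (∀ v, orderOf v = 2 → v * t = t * v →
      ∃ c ∈ Subgroup.centralizer ({t} : Set G), c * v * c⁻¹ ∈ P) → ∃ y : Fin n → G, Fam t P n y) :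
    n ≤ 3 := by
  classical
  haveI : Fact (Nat.Prime 2) := ⟨Nat.prime_two⟩
  set C := Subgroup.centralizer ({t} : Set G) with hC
  have hCm : ∀ g, g ∈ C ↔ g * t = t * g := fun g => Subgroup.mem_centralizer_singleton_iff
  have htP : ∀ P : Subgroup G, (∀ v ∈ C, orderOf v = 2 → ∃ c ∈ C, c * v * c⁻¹ ∈ P) → t ∈ P := by
    intro P hP
    obtain ⟨c, hc, hc2⟩ := hP t ((hCm t).2 rfl) ht
    rw [hCm] at hc
    have : c * t * c⁻¹ = t := by rw [hc]; group
    rwa [this] at hc2
  obtain ⟨P, -, hPC, hP2, -, hPv⟩ := exists_syl C ⊥ (IsPGroup.of_bot) bot_le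
  obtain ⟨y, hy⟩ := hn P (fun v hv hvt => hPv v ((hCm v).2 hvt) hv)
  have htP1 := htP P hPv
  have hPt : ∀ g ∈ P, g * t = t * g := fun g hg => (hCm g).1 (hPC hg)
  by_contra hcon
  have hn4 : 4 ≤ n := by omega
  by_cases hsmall : ∀ i, Nat.card ↥(P ⊓ Subgroup.centralizer ({y i * t * (y i)⁻¹} : Set G)) ≤ 4
  · -- all small
    obtain ⟨k, hk⟩ := hP2.exists_card_eq
    let S : Set G := {v | v ∈ P ∧ v ≠ 1 ∧ v ≠ t}
    have hb := family_bound P (fun i => y i * t * (y i)⁻¹) S (by
      intro i p hp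
      refine ⟨P.mul_mem (P.mul_mem hp (hy.mem i)) (P.inv_mem hp), ?_, ?_⟩
      · intro e
        apply ne_one_of_order (hy.good i).hu
        calc y i * t * (y i)⁻¹ = p⁻¹ * (p * (y i * t * (y i)⁻¹) * p⁻¹) * p := by group
          _ = 1 := by rw [e]; group
      · intro e
        apply (hy.good i).t_ne_u
        calc t = p⁻¹ * (p * t) := by group
          _ = p⁻¹ * t * p := by rw [hPt p hp]; group
          _ = p⁻¹ * (p * (y i * t * (y i)⁻¹) * p⁻¹) * p := by rw [e]
          _ = _ := by group) (by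
      intro i j p hp e
      exact hy.inj i j p (hPC hp) e) (Nat.card P / 4) (by
      intro i
      calc Nat.card P / 4 * _ ≤ Nat.card P / 4 * 4 := Nat.mul_le_mul_left _ (hsmall i)
        _ ≤ Nat.card P := Nat.div_mul_le_self _ _)
    rw [Nat.card_eq_fintype_card, Fintype.card_fin] at hb
    have hS : Nat.card S + 2 ≤ Nat.card P := by
      have e1 : S = (P : Set G) \ {1, t} := by
        ext v
        simp only [S, Set.mem_setOf_eq, Set.mem_diff, SetLike.mem_coe, Set.mem_insert_iff,
          Set.mem_singleton_iff, not_or]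
      have e2 := Set.ncard_diff_add_ncard_of_subset (s := ({1, t} : Set G)) (t := (P : Set G)) (by
        intro v hv
        rcases hv with rfl | rfl
        · exact P.one_mem
        · exact htP1) (Set.toFinite _)
      rw [Set.ncard_pair (ne_one_of_order ht).symm, ← e1, ← Nat.card_coe_set_eq,
        ← Nat.card_coe_set_eq] at e2
      exact e2.le
    have h4 : 4 ∣ Nat.card P := by
      rw [hk]
      have hk2 : 2 ≤ k := by
        by_contra hc
        have : Nat.card P ≤ 2 := by
          rw [hk]; exact Nat.pow_le_pow_right (by norm_num) (by omega : k ≤ 1)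
        have h6 : 0 < Nat.card S := by
          have hi : (0 : ℕ) < n := by omega
          haveI : Nonempty S := by
            refine ⟨⟨y ⟨0, hi⟩ * t * (y ⟨0, hi⟩)⁻¹, hy.mem _, ?_, ?_⟩⟩
            · exact ne_one_of_order (hy.good _).hu
            · exact (hy.good _).t_ne_u.symm
          exact Nat.card_pos
        omega
      exact pow_dvd_pow 2 hk2
    obtain ⟨q, hq⟩ := h4
    rw [hq, Nat.mul_div_cancel_left _ (by norm_num : 0 < 4)] at hb
    have : 4 * q ≤ n * q := Nat.mul_le_mul_right _ hn4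
    omega
  · -- a large one
    push Not at hsmall
    obtain ⟨i, hi⟩ := hsmall
    have hg := hy.good i
    set z := y i with hz
    set u := z * t * z⁻¹ with hu
    have hz3 := pow3_of_order hg.hy
    have hf := hg.K_fpf h
    have hKinv := fun v hv hvv => K_inv h hE hg (v := v) hv hvv
    rw [← hu] at hKinv
    obtain ⟨R, hRK, hR2, hRm⟩ := nilp_two (KK t z) (Fpf3.nilp hz3 hg.K_norm hf)
    obtain ⟨P', hRP', hP'C, hP'2, -, hP'v⟩ := exists_syl C R hR2
      (fun g hg' => (hCm g).2 (mem_KK.1 (hRK hg')).1)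
    have hP't : ∀ g ∈ P', g * t = t * g := fun g hg => (hCm g).1 (hP'C hg)
    have hP'K : ∀ g ∈ P', g ∈ KK t z → g ∈ R := by
      intro g hg' hgK
      apply hRm g hgK
      obtain ⟨k, hk⟩ := hP'2 ⟨g, hg'⟩
      exact ⟨k, congrArg Subtype.val hk⟩
    have huR : u ∈ R := hRm u hg.u_mem ⟨1, by rw [pow_one, sq]; exact sq_one_of_order hg.hu⟩
    have hbig : ∃ r ∈ P', r ∈ KK t z ∧ r * r ≠ 1 := by
      by_contra hc
      push Not at hc
      have hle : Nat.card ↥(P ⊓ Subgroup.centralizer ({u} : Set G)) ≤ 4 := by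
        have hsub : ((P ⊓ Subgroup.centralizer ({u} : Set G) : Subgroup G) : Set G) ⊆
            (({1, t, u, t * u} : Finset G) : Set G) := by
          intro g hg'
          have hgK : g ∈ KK t z := by
            rw [mem_KK]
            exact ⟨hPt g hg'.1, Subgroup.mem_centralizer_singleton_iff.1 hg'.2⟩
          have hgR : g ∈ R := by
            apply hRm g hgK
            obtain ⟨k, hk⟩ := hP2 ⟨g, hg'.1⟩
            exact ⟨k, congrArg Subtype.val hk⟩
          have := hKinv g hgK (hc g (hRP' hgR) hgK)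
          simp only [Finset.coe_insert, Finset.coe_singleton, Set.mem_insert_iff,
            Set.mem_singleton_iff]
          exact this
        have h2 := Nat.card_mono (Set.toFinite _) hsub
        rw [Nat.card_eq_card_toFinset (({1, t, u, t * u} : Finset G) : Set G),
          Finset.toFinset_coe] at h2
        exact h2.trans Finset.card_le_four
      omega
    have hnU := normU hg hKinv P' hP'2 hP't (hRP' huR)
      (fun g hg' hgK => hRP' (hRm _ (hg.K_norm g hgK) (by
        obtain ⟨k, hk⟩ := hP'2 ⟨g, hg'⟩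
        have hk' : g ^ 2 ^ k = 1 := congrArg Subtype.val hk
        exact ⟨k, by rw [conj_pow, hk']; group⟩))) hbig
    rw [← hu] at hnU
    obtain ⟨w, hw⟩ := hn P' (fun v hv hvt => hP'v v ((hCm v).2 hvt) hv)
    have hwK : ∀ j, w j * t * (w j)⁻¹ ∈ KK t z → w j * t * (w j)⁻¹ = u ∨ w j * t * (w j)⁻¹ = t * u := by
      intro j hj
      rcases hKinv _ hj (sq_one_of_order (hw.good j).hu) with e | e | e | e
      · exact absurd e (ne_one_of_order (hw.good j).hu)
      · exact absurd e.symm (hw.good j).t_ne_u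
      · exact Or.inl e
      · exact Or.inr e
    by_cases hcase : ∀ g ∈ P', g * u * g⁻¹ = u
    · -- `P'` centralizes `U`
      have hinj : Function.Injective (fun j : Fin n => (decide (w j * t * (w j)⁻¹ = u) : Bool)) := by
        intro a b hab
        have hin : ∀ j, w j * t * (w j)⁻¹ ∈ KK t z := by
          intro j
          rw [mem_KK]
          refine ⟨hP't _ (hw.mem j), ?_⟩
          have := hcase _ (hw.mem j)
          calc w j * t * (w j)⁻¹ * (z * t * z⁻¹) = (w j * t * (w j)⁻¹ * u * (w j * t * (w j)⁻¹)⁻¹) *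
              (w j * t * (w j)⁻¹) := by rw [hu]; group
            _ = _ := by rw [this]
        have hab' : (w a * t * (w a)⁻¹ = u) ↔ (w b * t * (w b)⁻¹ = u) := by
          simpa using hab
        apply hw.inj a b 1 C.one_mem
        rw [one_mul, inv_one, mul_one]
        rcases hwK a (hin a) with e | e
        · rw [e, hab'.1 e]
        · rcases hwK b (hin b) with e' | e'
          · rw [hab'.2 e', e']
          · rw [e, e']
      have := Fintype.card_le_of_injective _ hinj
      rw [Fintype.card_fin, Fintype.card_bool] at this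
      omega
    · push Not at hcase
      obtain ⟨g0, hg0, hg0u⟩ := hcase
      have hg0' : g0 * u * g0⁻¹ = t * u := by
        rcases hnU g0 hg0 with e | e
        · exact absurd e hg0u
        · exact e
      have hinj : Function.Injective (fun j : Fin n => (decide (w j * t * (w j)⁻¹ ∈ KK t z) : Bool)) := by
        intro a b hab
        have hab' : (w a * t * (w a)⁻¹ ∈ KK t z) ↔ (w b * t * (w b)⁻¹ ∈ KK t z) := by
          simpa using hab
        by_cases c : w a * t * (w a)⁻¹ ∈ KK t z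
        · rcases hwK a c with e | e <;> rcases hwK b (hab'.1 c) with e' | e'
          · apply hw.inj a b 1 C.one_mem
            rw [one_mul, inv_one, mul_one, e, e']
          · apply hw.inj a b g0 (hP'C hg0)
            rw [e, e', hg0']
          · symm
            apply hw.inj b a g0 (hP'C hg0)
            rw [e, e', hg0']
          · apply hw.inj a b 1 C.one_mem
            rw [one_mul, inv_one, mul_one, e, e']
        · have c' : ¬ w b * t * (w b)⁻¹ ∈ KK t z := fun hc => c (hab'.2 hc)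
          have hout : ∀ g ∈ P', g ∉ KK t z → g * u * g⁻¹ = t * u := by
            intro g hg1 hg2
            rcases hnU g hg1 with e | e
            · exfalso; apply hg2
              rw [mem_KK, ← hu]
              refine ⟨hP't g hg1, ?_⟩
              calc g * u = (g * u * g⁻¹) * g := by group
                _ = _ := by rw [e]
            · exact e
          obtain ⟨k, hk, hk2⟩ := VK' h hg (hw.good a).hu (hw.good b).hu (hP't _ (hw.mem a))
            (hP't _ (hw.mem b)) (hout _ (hw.mem a) c) (hout _ (hw.mem b) c')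
          exact hw.inj a b k ((hCm k).2 (mem_KK.1 hk).1) hk2.symm
      have := Fintype.card_le_of_injective _ hinj
      rw [Fintype.card_fin, Fintype.card_bool] at this
      omega

end Cfsg.Agent.H55.Three
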