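import Mathlib
import Cfsg.Agent.H55.ThreeAlpha
import Cfsg.Agent.H80.Index2

set_option autoImplicit false
set_option linter.style.haveILetI false
set_option linter.unusedSectionVars false

/-!
# Groups with a self-centralizing subgroup of order three: the second case
-/

namespace Cfsg.Agent.H55.Three

open Cfsg.Agent.H55.BswGrp
open scoped commutatorElement

universe u

/-- A subgroup with more than half of the elements is everything. -/
theorem eq_top_of_half {H : Type u} [Group H] [Finite H] (K : Subgroup H)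
    (h : Nat.card H < 2 * Nat.card K) : K = ⊤ := by
  rw [← Subgroup.index_eq_one]
  have h1 := K.card_mul_index
  have h2 : K.index ≠ 0 := Subgroup.index_ne_zero_of_finite
  by_contra hne
  have h3 : 2 ≤ K.index := by omega
  have h4 : Nat.card K * 2 ≤ Nat.card K * K.index := Nat.mul_le_mul_left _ h3
  omega

/-- In a nonabelian group at most three quarters of the elements are square roots of one. -/
theorem inv_bound {H : Type u} [Group H] [Finite H] {a b : H} (hab : a * b ≠ b * a) :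
    4 * Nat.card {v : H // v * v = 1} ≤ 3 * Nat.card H := by
  classical
  haveI := Fintype.ofFinite H
  by_contra hcon
  push Not at hcon
  rw [Nat.card_eq_fintype_card, Nat.card_eq_fintype_card, Fintype.card_subtype] at hcon
  set A : Finset H := Finset.univ.filter (fun v => v * v = 1) with hA
  have hcen : ∀ g ∈ A, Subgroup.centralizer ({g} : Set H) = ⊤ := by
    intro g hg
    have hgg : g * g = 1 := by simpa [hA] using hg
    have hgi : g⁻¹ = g := inv_eq_of_mul_eq_one_left hgg
    apply eq_top_of_half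
    let B : Finset H := A.image (fun x => g * x)
    have hB : B.card = A.card := Finset.card_image_of_injective _ (mul_right_injective g)
    have h1 := Finset.card_inter_add_card_union A B
    have h2 : (A ∪ B).card ≤ Fintype.card H := Finset.card_le_univ _
    have h3 : (A ∩ B).card ≤ Nat.card (Subgroup.centralizer ({g} : Set H)) := by
      have h4 : ((A ∩ B : Finset H) : Set H) ⊆ (Subgroup.centralizer ({g} : Set H) : Set H) := by
        intro x hx
        have hx' := Finset.mem_inter.1 hx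
        have hxA : x * x = 1 := by simpa [hA] using hx'.1
        obtain ⟨w, hw, hwx⟩ := Finset.mem_image.1 hx'.2
        have hww : w * w = 1 := by simpa [hA] using hw
        have hxi : x⁻¹ = x := inv_eq_of_mul_eq_one_left hxA
        have hwi : w⁻¹ = w := inv_eq_of_mul_eq_one_left hww
        refine Subgroup.mem_centralizer_singleton_iff.2 ?_
        have e1 : w = g * x := by rw [← hwx, ← mul_assoc, hgg, one_mul]
        calc x * g = (g⁻¹ * x⁻¹)⁻¹ := by group
          _ = (g * x)⁻¹ := by rw [hgi, hxi]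
          _ = w⁻¹ := by rw [e1]
          _ = g * x := by rw [hwi, e1]
      have h5 := Nat.card_mono (Set.toFinite _) h4
      rw [Nat.card_eq_card_toFinset ((A ∩ B : Finset H) : Set H), Finset.toFinset_coe] at h5
      exact h5
    rw [Nat.card_eq_fintype_card]
    omega
  have hZ : Subgroup.center H = ⊤ := by
    apply eq_top_of_half
    have h4 : (A : Set H) ⊆ (Subgroup.center H : Set H) := by
      intro g hg
      refine Subgroup.mem_center_iff.2 (fun k => ?_)
      have : k ∈ Subgroup.centralizer ({g} : Set H) := by rw [hcen g hg]; trivial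
      exact Subgroup.mem_centralizer_singleton_iff.1 this
    have h5 := Nat.card_mono (Set.toFinite _) h4
    rw [Nat.card_eq_card_toFinset (A : Set H), Finset.toFinset_coe] at h5
    rw [Nat.card_eq_fintype_card]
    have h6 : A.card ≤ Nat.card (Subgroup.center H) := h5
    omega
  apply hab
  have : b ∈ Subgroup.center H := by rw [hZ]; trivial
  exact (Subgroup.mem_center_iff.1 this a)

section

variable {G : Type u} [Group G] [Finite G] {x : G} (h : X3 x)
  (hconj : ∀ a b : G, orderOf a = 2 → orderOf b = 2 → IsConj a b) {t : G} (ht : orderOf t = 2)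
  (hC2 : IsPGroup 2 (Subgroup.centralizer ({t} : Set G)))

include hconj ht

omit h in
theorem card_cen_eq {v : G} (hv : orderOf v = 2) :
    Nat.card (Subgroup.centralizer ({v} : Set G)) = Nat.card (Subgroup.centralizer ({t} : Set G)) := by
  obtain ⟨g, rfl⟩ := isConj_iff.1 (hconj t v ht hv)
  symm
  refine Nat.card_congr
    { toFun := fun c => ⟨g * c.1 * g⁻¹, ?_⟩
      invFun := fun c => ⟨g⁻¹ * c.1 * g, ?_⟩
      left_inv := ?_
      right_inv := ?_ }
  · have h1 := Subgroup.mem_centralizer_singleton_iff.1 c.2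
    refine Subgroup.mem_centralizer_singleton_iff.2 ?_
    calc g * c.1 * g⁻¹ * (g * t * g⁻¹) = g * (c.1 * t) * g⁻¹ := by group
      _ = g * (t * c.1) * g⁻¹ := by rw [h1]
      _ = _ := by group
  · have h1 := Subgroup.mem_centralizer_singleton_iff.1 c.2
    refine Subgroup.mem_centralizer_singleton_iff.2 ?_
    calc g⁻¹ * c.1 * g * t = g⁻¹ * (c.1 * (g * t * g⁻¹)) * g := by group
      _ = g⁻¹ * ((g * t * g⁻¹) * c.1) * g := by rw [h1]
      _ = _ := by group
  · intro c; apply Subtype.ext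
    show g⁻¹ * (g * c.1 * g⁻¹) * g = c.1
    group
  · intro c; apply Subtype.ext
    show g * (g⁻¹ * c.1 * g) * g⁻¹ = c.1
    group

omit h in
/-- The centralizer is a maximal `2`-subgroup. -/
theorem hmax {Q : Subgroup G} (hQ : IsPGroup 2 Q)
    (hle : Subgroup.centralizer ({t} : Set G) ≤ Q) : Q = Subgroup.centralizer ({t} : Set G) := by
  have htC : t ∈ Subgroup.centralizer ({t} : Set G) := Subgroup.mem_centralizer_singleton_iff.2 rfl
  have hne : Q ≠ ⊥ := by
    intro e
    have h1 := hle htC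
    rw [e, Subgroup.mem_bot] at h1
    exact ne_one_of_order ht h1
  obtain ⟨z, hz, hz2, hzc⟩ := two_group_center_involution Q hQ hne
  have h2 : Q ≤ Subgroup.centralizer ({z} : Set G) := by
    intro s hs
    exact Subgroup.mem_centralizer_singleton_iff.2 (hzc s hs).eq
  symm
  apply Subgroup.eq_of_le_of_card_ge hle
  rw [← card_cen_eq hconj ht hz2]
  exact Subgroup.card_le_of_le h2

end

/-- Groups of order three. -/
theorem three_elems {Q : Type u} [Group Q] [Finite Q] (hQ : Nat.card Q = 3) {a : Q} (ha : a ≠ 1)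
    (q : Q) : q = 1 ∨ q = a ∨ q = a⁻¹ := by
  haveI : Fact (Nat.Prime 3) := ⟨Nat.prime_three⟩
  have h1 : q ∈ Subgroup.zpowers a := mem_zpowers_of_prime_card hQ ha
  have h2 : orderOf a = 3 := by
    have h3 : orderOf a ∣ 3 := by rw [← hQ]; exact orderOf_dvd_natCard a
    rcases (Nat.dvd_prime Nat.prime_three).1 h3 with e | e
    · exact absurd (orderOf_eq_one_iff.1 e) ha
    · exact e
  have ha3 : a ^ 3 = 1 := by rw [← h2]; exact pow_orderOf_eq_one a
  obtain ⟨k, hk⟩ := Subgroup.mem_zpowers_iff.1 h1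
  rw [← hk]
  have hk3 : a ^ k = a ^ (k % 3) := by
    have := zpow_mod_orderOf a k
    rw [h2] at this
    exact_mod_cast this.symm
  rw [hk3]
  have h4 : k % 3 = 0 ∨ k % 3 = 1 ∨ k % 3 = 2 := by omega
  rcases h4 with e | e | e
  · left; rw [e, zpow_zero]
  · right; left; rw [e, zpow_one]
  · right; right; rw [e, inv_eq_sq ha3, zpow_two]

theorem coset3 {G : Type u} [Group G] [Finite G] {M N : Subgroup G} (hNM : N ≤ M)
    (hNn : ∀ m ∈ M, ∀ n ∈ N, m * n * m⁻¹ ∈ N) (hc : Nat.card M = 3 * Nat.card N) {y : G}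
    (hy : y ∈ M) (hyN : y ∉ N) : ∀ m ∈ M, m ∈ N ∨ m * y⁻¹ ∈ N ∨ m * y ∈ N := by
  intro m hm
  haveI hn : (N.subgroupOf M).Normal := by
    constructor
    intro n hn g
    rw [Subgroup.mem_subgroupOf] at hn ⊢
    exact hNn g g.2 n hn
  have h1 : Nat.card (M ⧸ N.subgroupOf M) = 3 := by
    have h2 := (N.subgroupOf M).card_mul_index
    have h3 : Nat.card (N.subgroupOf M) = Nat.card N :=
      Nat.card_congr (Subgroup.subgroupOfEquivOfLe hNM).toEquiv
    rw [h3, hc, mul_comm] at h2
    rw [← Subgroup.index_eq_card]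
    exact Nat.eq_of_mul_eq_mul_right Nat.card_pos h2
  have h2 : (QuotientGroup.mk (⟨y, hy⟩ : M) : M ⧸ N.subgroupOf M) ≠ 1 := by
    intro e
    rw [QuotientGroup.eq_one_iff, Subgroup.mem_subgroupOf] at e
    exact hyN e
  rcases three_elems h1 h2 (QuotientGroup.mk (⟨m, hm⟩ : M)) with e | e | e
  · left
    rw [QuotientGroup.eq_one_iff, Subgroup.mem_subgroupOf] at e
    exact e
  · right; left
    have e' := QuotientGroup.eq.1 e.symm
    rw [Subgroup.mem_subgroupOf] at e'
    have e2 := hNn y hy _ e'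
    have e3 : y * (((⟨y, hy⟩ : M)⁻¹ * ⟨m, hm⟩ : M) : G) * y⁻¹ = m * y⁻¹ := by
      show y * (y⁻¹ * m) * y⁻¹ = m * y⁻¹
      group
    rw [e3] at e2; exact e2
  · right; right
    rw [← QuotientGroup.mk_inv] at e
    have e' := QuotientGroup.eq.1 e.symm
    rw [Subgroup.mem_subgroupOf] at e'
    have e2 := hNn y⁻¹ (M.inv_mem hy) _ e'
    have e3 : y⁻¹ * (((⟨y, hy⟩ : M)⁻¹⁻¹ * ⟨m, hm⟩ : M) : G) * y⁻¹⁻¹ = m * y := by
      show y⁻¹ * (y⁻¹⁻¹ * m) * y⁻¹⁻¹ = m * y
      group
    rw [e3] at e2; exact e2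

/-- A complement that is a 2-group. -/
theorem two_compl {G : Type u} [Group G] [Finite G] {y : G} (h : X3 y) (M : Subgroup G)
    (hy : y ∈ M) (hni : ∀ v ∈ M, orderOf v = 2 → v * y * v⁻¹ ≠ y⁻¹) {t : G} (ht : orderOf t = 2)
    (htM : t ∈ M) (hC2 : IsPGroup 2 (Subgroup.centralizer ({t} : Set G))) :
    ∃ N : Subgroup G, N ≤ M ∧ IsPGroup 2 N ∧ (∀ m ∈ M, m ^ 3 ∈ N) ∧
      (∀ m ∈ M, m ∈ N ∨ m * y⁻¹ ∈ N ∨ m * y ∈ N) := by
  obtain ⟨N, hNM, hNn, hN3, hNc, hMc⟩ := compl3_sub h M hy hni
  have hyN : y ∉ N := by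
    intro hyN
    apply hNc
    have := orderOf_dvd_natCard (⟨y, hyN⟩ : N)
    rwa [Subgroup.orderOf_mk, h.ox] at this
  have hne3 : ∀ g ∈ N, orderOf g ≠ 3 := by
    intro g hg e
    apply hNc
    have := orderOf_dvd_natCard (⟨g, hg⟩ : N)
    rwa [Subgroup.orderOf_mk, e] at this
  have hcl := fun a (ha : a ∈ N) b (hb : b ∈ N) c (hc : c ∈ N) =>
    Fpf3.class2 h.cube (fun n hn => hNn y hy n hn) (h.fpf hne3) ha hb hc
  have htN : t ∈ N := by
    have h1 := hN3 t htM
    have h2 : t ^ 3 = t := by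
      rw [pow_succ, pow_two, sq_one_of_order ht, one_mul]
    rwa [h2] at h1
  have hN2 : IsPGroup 2 N := by
    rw [IsPGroup.iff_card]
    refine ⟨_, Nat.eq_prime_pow_of_unique_prime_dvd Nat.card_pos.ne' ?_⟩
    intro q hq hqN
    by_contra hq2
    haveI : Fact q.Prime := ⟨hq⟩
    obtain ⟨g, hg⟩ := exists_prime_orderOf_dvd_card' q hqN
    have hg' : orderOf (g : G) = q := by rw [Subgroup.orderOf_coe, hg]
    have h1 : (g : G) * t = t * g := by
      refine comm_of_coprime hcl g.2 htN (m := q) (n := 2) ?_ ?_ ?_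
      · rw [← hg']; exact pow_orderOf_eq_one _
      · rw [← ht]; exact pow_orderOf_eq_one _
      · exact (Nat.coprime_primes hq Nat.prime_two).2 hq2
    have h2 : (g : G) ∈ Subgroup.centralizer ({t} : Set G) :=
      Subgroup.mem_centralizer_singleton_iff.2 h1
    obtain ⟨k, hk⟩ := hC2 ⟨g, h2⟩
    have hk' : (g : G) ^ 2 ^ k = 1 := congrArg Subtype.val hk
    have h3 := orderOf_dvd_of_pow_eq_one hk'
    rw [hg'] at h3
    exact hq2 ((Nat.prime_dvd_prime_iff_eq hq Nat.prime_two).1 (hq.dvd_of_dvd_pow h3))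
  exact ⟨N, hNM, hN2, hN3, coset3 hNM hNn hMc hy hyN⟩

theorem not_invert {G : Type u} [Group G] [Finite G] {Q : Subgroup G} (hQ : IsPGroup 2 Q)
    {z v : G} (hz : orderOf z = 3) (hzQ : ∀ c ∈ Q, z * c * z⁻¹ ∈ Q) (hv : v ∈ Q) :
    v * z * v⁻¹ ≠ z⁻¹ := by
  intro e
  have h1 : v * (z * v⁻¹ * z⁻¹) = z := by
    have h2 : z⁻¹ = z * z := inv_eq_sq (pow3_of_order hz)
    calc v * (z * v⁻¹ * z⁻¹) = (v * z * v⁻¹) * z⁻¹ := by group
      _ = z⁻¹ * z⁻¹ := by rw [e]
      _ = (z * z)⁻¹ := by group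
      _ = z := by rw [← h2, inv_inv]
  have hzQ' : z ∈ Q := by
    rw [← h1]; exact Q.mul_mem hv (hzQ _ (Q.inv_mem hv))
  obtain ⟨k, hk⟩ := hQ ⟨z, hzQ'⟩
  have hk' : z ^ 2 ^ k = 1 := congrArg Subtype.val hk
  have h3 := orderOf_dvd_of_pow_eq_one hk'
  rw [hz] at h3
  have := Nat.prime_three.dvd_of_dvd_pow h3
  omega

/-- Numerical and structural data of the second case. -/
structure Beta {G : Type u} [Group G] (x t : G) (n : ℕ) (y : Fin n → G) : Prop where
  h : X3 x
  hconj : ∀ a b : G, orderOf a = 2 → orderOf b = 2 → IsConj a b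
  ht : orderOf t = 2
  hC2 : IsPGroup 2 (Subgroup.centralizer ({t} : Set G))
  h16 : 16 ≤ Nat.card (Subgroup.centralizer ({t} : Set G))
  fam : Fam t (Subgroup.centralizer ({t} : Set G)) n y
  big : 65 * Nat.card (Subgroup.centralizer ({t} : Set G)) < 256 * n

namespace Beta

variable {G : Type u} [Group G] [Finite G] {x t : G} {n : ℕ} {y : Fin n → G} (b : Beta x t n y)

include b

theorem memC {g : G} : g ∈ Subgroup.centralizer ({t} : Set G) ↔ g * t = t * g :=
  Subgroup.mem_centralizer_singleton_iff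

theorem K_le (i : Fin n) : KK t (y i) ≤ Subgroup.centralizer ({t} : Set G) := inf_le_left

theorem K_eq (i : Fin n) : Subgroup.centralizer ({t} : Set G) ⊓
    Subgroup.centralizer ({y i * t * (y i)⁻¹} : Set G) = KK t (y i) := rfl

/-- The order of `K` is a power of four. -/
theorem card_K (i : Fin n) : ∃ a, Nat.card (KK t (y i)) = 4 ^ a := by
  haveI : Fact (Nat.Prime 2) := ⟨Nat.prime_two⟩
  have hg := b.fam.good i
  have h1 := Fpf3.card_mod (pow3_of_order hg.hy) hg.K_norm (hg.K_fpf b.h)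
  obtain ⟨k, hk⟩ := (b.hC2.to_le (b.K_le i)).exists_card_eq
  rcases Nat.even_or_odd' k with ⟨a, e | e⟩
  · refine ⟨a, ?_⟩
    rw [hk, e, pow_mul]; norm_num
  · exfalso
    rw [hk, e, pow_succ, pow_mul] at h1
    have h2 : (2 ^ 2) ^ a % 3 = 1 := by
      rw [Nat.pow_mod]; norm_num
    omega

theorem card_C : ∃ a, Nat.card (Subgroup.centralizer ({t} : Set G)) = 4 ^ a ∨
    Nat.card (Subgroup.centralizer ({t} : Set G)) = 2 * 4 ^ a := by
  haveI : Fact (Nat.Prime 2) := ⟨Nat.prime_two⟩
  obtain ⟨k, hk⟩ := b.hC2.exists_card_eq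
  rcases Nat.even_or_odd' k with ⟨a, e | e⟩
  · refine ⟨a, Or.inl ?_⟩
    rw [hk, e, pow_mul]; norm_num
  · refine ⟨a, Or.inr ?_⟩
    rw [hk, e, pow_succ, pow_mul, mul_comm]; norm_num

/-- An element of order three is not in a `2`-group. -/
theorem not_mem_two {Q : Subgroup G} (hQ : IsPGroup 2 Q) {g : G} (hg : orderOf g = 3) : g ∉ Q := by
  intro hgQ
  obtain ⟨k, hk⟩ := hQ ⟨g, hgQ⟩
  have hk' : g ^ 2 ^ k = 1 := congrArg Subtype.val hk
  have h3 := orderOf_dvd_of_pow_eq_one hk'
  rw [hg] at h3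
  have := Nat.prime_three.dvd_of_dvd_pow h3
  omega

/-- Cubes generate in `2`-groups. -/
theorem mem_of_cube {Q N : Subgroup G} (hQ : IsPGroup 2 Q) {g : G} (hg : g ∈ Q) (h3 : g ^ 3 ∈ N) :
    g ∈ N := by
  obtain ⟨k, hk⟩ := hQ ⟨g, hg⟩
  have hk' : g ^ 2 ^ k = 1 := congrArg Subtype.val hk
  have hcop : Nat.Coprime 3 (2 ^ k) := Nat.Coprime.pow_right _ (by norm_num)
  have h4 : orderOf g ∣ 2 ^ k := orderOf_dvd_of_pow_eq_one hk'
  have h5 : Nat.Coprime (orderOf g) 3 := (hcop.coprime_dvd_right h4).symm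
  obtain ⟨m, hm⟩ := exists_pow_eq_self_of_coprime h5.symm
  rw [← hm]
  exact N.pow_mem h3 m

/-- The case of a central good element. -/
theorem central {i j : Fin n}
    (hi : ∀ c ∈ Subgroup.centralizer ({t} : Set G), c * (y i * t * (y i)⁻¹) = (y i * t * (y i)⁻¹) * c)
    (hj : ∀ c ∈ Subgroup.centralizer ({t} : Set G), c * (y j * t * (y j)⁻¹) = (y j * t * (y j)⁻¹) * c) :
    y j * t * (y j)⁻¹ = y i * t * (y i)⁻¹ ∨ y j * t * (y j)⁻¹ = t * (y i * t * (y i)⁻¹) := by
  haveI : Fact (Nat.Prime 2) := ⟨Nat.prime_two⟩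
  set C := Subgroup.centralizer ({t} : Set G) with hC
  have hg := b.fam.good i
  have hg' := b.fam.good j
  set z := y i with hz
  have hY := b.h.all hg.hy
  have hKC : ∀ c ∈ C, c ∈ KK t z := fun c hc => mem_KK.2 ⟨b.memC.1 hc, hi c hc⟩
  have hzC : ∀ c ∈ C, z * c * z⁻¹ ∈ C := fun c hc => b.K_le i (hg.K_norm c (hKC c hc))
  let M := Subgroup.normalizer (C : Set G)
  have hzM : z ∈ M := mem_norm3 hY.cube hzC
  have hCM : C ≤ M := Subgroup.le_normalizer
  have htC : t ∈ C := b.memC.2 rfl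
  obtain ⟨N, hNM, hN2, hN3, hcos⟩ := two_compl hY M hzM (by
    intro v hv hv2
    have h1 : IsPGroup 2 (Subgroup.zpowers v) := by
      apply IsPGroup.of_card (n := 1)
      rw [Nat.card_zpowers, hv2, pow_one]
    have h2 : IsPGroup 2 ↥(Subgroup.zpowers v ⊔ C) := by
      apply h1.to_sup_of_normal_right' b.hC2
      rw [Subgroup.zpowers_le]; exact hv
    have h3 := hmax b.hconj b.ht h2 le_sup_right
    have hvC : v ∈ C := by
      rw [hC, ← h3]; exact (le_sup_left : Subgroup.zpowers v ≤ _) (Subgroup.mem_zpowers v)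
    exact not_invert b.hC2 hg.hy hzC hvC) b.ht (hCM htC) b.hC2
  have hCN : C ≤ N := fun c hc => b.mem_of_cube b.hC2 hc (hN3 c (hCM hc))
  have hNC : N = C := hmax b.hconj b.ht hN2 hCN
  rw [hNC] at hcos
  obtain ⟨g, hgt⟩ := isConj_iff.1 (b.hconj t _ b.ht hg'.hu)
  have hCu : C = Subgroup.centralizer ({y j * t * (y j)⁻¹} : Set G) := by
    apply Subgroup.eq_of_le_of_card_ge
    · intro c hc
      exact Subgroup.mem_centralizer_singleton_iff.2 (hj c hc)
    · rw [card_cen_eq b.hconj b.ht hg'.hu]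
  have hgM : g ∈ M := by
    rw [Subgroup.mem_normalizer_iff]
    intro c
    constructor
    · intro hc
      rw [hCu]
      refine Subgroup.mem_centralizer_singleton_iff.2 ?_
      rw [← hgt]
      have h1 := b.memC.1 hc
      calc g * c * g⁻¹ * (g * t * g⁻¹) = g * (c * t) * g⁻¹ := by group
        _ = g * (t * c) * g⁻¹ := by rw [h1]
        _ = _ := by group
    · intro hc
      rw [hCu] at hc
      have h1 := Subgroup.mem_centralizer_singleton_iff.1 hc
      rw [← hgt] at h1
      rw [hC, b.memC]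
      calc c * t = g⁻¹ * (g * c * g⁻¹ * (g * t * g⁻¹)) * g := by group
        _ = g⁻¹ * (g * t * g⁻¹ * (g * c * g⁻¹)) * g := by rw [h1]
        _ = _ := by group
  rcases hcos g hgM with e | e | e
  · exfalso
    apply hg'.t_ne_u
    rw [← hgt]
    have h1 := b.memC.1 e
    rw [h1]; group
  · left
    rw [← hgt]
    have h1 := hi _ e
    calc g * t * g⁻¹ = (g * z⁻¹) * (z * t * z⁻¹) * (g * z⁻¹)⁻¹ := by group
      _ = (z * t * z⁻¹) * (g * z⁻¹) * (g * z⁻¹)⁻¹ := by rw [h1]
      _ = _ := by group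
  · right
    rw [← hgt]
    have h1 := hi _ e
    have h2 := b.memC.1 e
    have h3 : z⁻¹ * t * z = t * (z * t * z⁻¹) := by
      rw [← hg.w2]
      have h4 := hg.yi
      calc z⁻¹ * t * z = z⁻¹ * t * z⁻¹⁻¹ := by rw [inv_inv]
        _ = (z * z) * t * (z * z)⁻¹ := by rw [h4]
        _ = _ := by group
    calc g * t * g⁻¹ = (g * z) * (z⁻¹ * t * z) * (g * z)⁻¹ := by group
      _ = (g * z) * (t * (z * t * z⁻¹)) * (g * z)⁻¹ := by rw [h3]
      _ = ((g * z) * t) * (z * t * z⁻¹) * (g * z)⁻¹ := by group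
      _ = t * ((g * z) * (z * t * z⁻¹)) * (g * z)⁻¹ := by rw [h2]; group
      _ = t * ((z * t * z⁻¹) * (g * z)) * (g * z)⁻¹ := by rw [h1]
      _ = _ := by group

theorem even_case {a : ℕ} (ha : Nat.card (Subgroup.centralizer ({t} : Set G)) = 4 ^ a) :
    False := by
  classical
  set C := Subgroup.centralizer ({t} : Set G) with hC
  have h16 := b.h16
  have hbig := b.big
  rw [← hC] at h16 hbig
  let cen : Fin n → Prop := fun i =>
    ∀ c ∈ C, c * (y i * t * (y i)⁻¹) = (y i * t * (y i)⁻¹) * c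
  have htu : ∀ i, y i * t * (y i)⁻¹ ∈ C := fun i => b.fam.mem i
  -- at most two central ones
  have hA : Nat.card {i // cen i} ≤ 2 := by
    by_cases hne : Nonempty {i // cen i}
    · obtain ⟨i, hi⟩ := hne
      have hinj : Function.Injective (fun j : {i // cen i} =>
          (decide (y j.1 * t * (y j.1)⁻¹ = y i * t * (y i)⁻¹) : Bool)) := by
        rintro ⟨j, hj⟩ ⟨k, hk⟩ hab
        have hab' : (y j * t * (y j)⁻¹ = y i * t * (y i)⁻¹) ↔
            (y k * t * (y k)⁻¹ = y i * t * (y i)⁻¹) := by simpa using hab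
        apply Subtype.ext
        apply b.fam.inj j k 1 C.one_mem
        rw [one_mul, inv_one, mul_one]
        rcases b.central hi hj with e | e
        · rw [e, hab'.1 e]
        · rcases b.central hi hk with e' | e'
          · rw [hab'.2 e', e']
          · rw [e, e']
      have := Nat.card_le_card_of_injective _ hinj
      rwa [Nat.card_eq_fintype_card (α := Bool), Fintype.card_bool] at this
    · rw [not_nonempty_iff] at hne
      rw [Nat.card_of_isEmpty]; norm_num
  have hcard : Nat.card {i // cen i} + Nat.card {i // ¬ cen i} = n := by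
    rw [Nat.card_eq_fintype_card, Nat.card_eq_fintype_card, Fintype.card_subtype_compl,
      Fintype.card_fin]
    have := Fintype.card_subtype_le cen
    rw [Fintype.card_fin] at this
    omega
  let S : Set G := {v | v ∈ C ∧ v * v = 1 ∧ v ≠ 1}
  have hB := family_bound C (ι := {i // ¬ cen i}) (fun i => y i.1 * t * (y i.1)⁻¹) S (by
      intro i p hp
      have h2 := sq_one_of_order (b.fam.good i.1).hu
      refine ⟨C.mul_mem (C.mul_mem hp (htu i.1)) (C.inv_mem hp), ?_, ?_⟩
      · calc p * (y i.1 * t * (y i.1)⁻¹) * p⁻¹ * (p * (y i.1 * t * (y i.1)⁻¹) * p⁻¹)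
            = p * ((y i.1 * t * (y i.1)⁻¹) * (y i.1 * t * (y i.1)⁻¹)) * p⁻¹ := by group
          _ = 1 := by rw [h2]; group
      · intro e
        apply ne_one_of_order (b.fam.good i.1).hu
        calc y i.1 * t * (y i.1)⁻¹ = p⁻¹ * (p * (y i.1 * t * (y i.1)⁻¹) * p⁻¹) * p := by group
          _ = 1 := by rw [e]; group) (by
      intro i j p hp e
      exact Subtype.ext (b.fam.inj i.1 j.1 p hp e)) 4 (by
      intro i
      rw [b.K_eq i.1, ha]
      obtain ⟨k, hk⟩ := b.card_K i.1
      rw [hk]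
      have hlt : k < a := by
        by_contra hc
        apply i.2
        have h1 : Nat.card C ≤ Nat.card (KK t (y i.1)) := by
          rw [ha, hk]; exact Nat.pow_le_pow_right (by norm_num) (by omega)
        have h2 := Subgroup.eq_of_le_of_card_ge (b.K_le i.1) h1
        intro c hc'
        have h3 : c ∈ KK t (y i.1) := by rw [h2]; exact hc'
        exact (mem_KK.1 h3).2
      calc 4 * 4 ^ k = 4 ^ (k + 1) := by rw [pow_succ]; ring
        _ ≤ 4 ^ a := Nat.pow_le_pow_right (by norm_num) hlt)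
  by_cases hab : ∀ c ∈ C, ∀ d ∈ C, c * d = d * c
  · have hemp : IsEmpty {i // ¬ cen i} := by
      constructor
      rintro ⟨i, hi⟩
      exact hi (fun c hc => hab c hc _ (htu i))
    have : Nat.card {i // ¬ cen i} = 0 := Nat.card_of_isEmpty
    omega
  · push Not at hab
    obtain ⟨c, hc, d, hd, hcd⟩ := hab
    have h4 := inv_bound (a := (⟨c, hc⟩ : C)) (b := ⟨d, hd⟩) (fun e => hcd (congrArg Subtype.val e))
    have h5 : Nat.card S + 1 ≤ Nat.card {v : C // v * v = 1} := by
      let f : Option S → {v : C // v * v = 1} := fun o =>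
        match o with
        | none => ⟨1, mul_one 1⟩
        | some v => ⟨⟨v.1, v.2.1⟩, Subtype.ext v.2.2.1⟩
      have hf : Function.Injective f := by
        intro o o' e
        cases o with
        | none =>
          cases o' with
          | none => rfl
          | some v =>
            exfalso
            apply v.2.2.2
            have : (1 : C) = ⟨v.1, v.2.1⟩ := congrArg Subtype.val e
            exact (congrArg Subtype.val this).symm
        | some v =>
          cases o' with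
          | none =>
            exfalso
            apply v.2.2.2
            have : (⟨v.1, v.2.1⟩ : C) = 1 := congrArg Subtype.val e
            exact congrArg Subtype.val this
          | some w =>
            have : (⟨v.1, v.2.1⟩ : C) = ⟨w.1, w.2.1⟩ := congrArg Subtype.val e
            have h6 : v.1 = w.1 := congrArg (fun z : C => (z : G)) this
            rw [Subtype.ext h6]
      have := Nat.card_le_card_of_injective f hf
      rwa [Finite.card_option] at this
    have h6 : Nat.card C = 16 ∨ 64 ≤ Nat.card C := by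
      rw [ha] at h16 ⊢
      have : 2 ≤ a := by
        by_contra hc
        have : 4 ^ a ≤ 4 ^ 1 := Nat.pow_le_pow_right (by norm_num) (by omega)
        omega
      rcases Nat.lt_or_ge a 3 with h7 | h7
      · left
        have : a = 2 := by omega
        rw [this]; norm_num
      · right
        calc 64 = 4 ^ 3 := by norm_num
          _ ≤ 4 ^ a := Nat.pow_le_pow_right (by norm_num) h7
    rcases h6 with h6 | h6
    · omega
    · omega

/-- The configuration with `K` of index two in `C`. -/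
theorem swap {i : Fin n} (hi : Nat.card (Subgroup.centralizer ({t} : Set G)) =
    2 * Nat.card (KK t (y i))) {v : G} (hv : orderOf v = 2)
    (hvC : v ∈ Subgroup.centralizer ({t} : Set G)) (hvR : v ∉ KK t (y i)) :
    v * y i * v⁻¹ * y i ∈ KK t (y i) := by
  haveI : Fact (Nat.Prime 2) := ⟨Nat.prime_two⟩
  set C := Subgroup.centralizer ({t} : Set G) with hC
  have hg := b.fam.good i
  set z := y i with hz
  have hY := b.h.all hg.hy
  set R := KK t z with hR
  have hRC : R ≤ C := b.K_le i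
  have hR2 : IsPGroup 2 R := b.hC2.to_le hRC
  have hf := hg.K_fpf b.h
  -- R has index two in C
  have hcsub : ∀ {A B : Subgroup G}, A ≤ B → Nat.card (A.subgroupOf B) = Nat.card A :=
    fun h => Nat.card_congr (Subgroup.subgroupOfEquivOfLe h).toEquiv
  have hrel : R.relIndex C = 2 := by
    have h1 := (R.subgroupOf C).card_mul_index
    rw [hcsub hRC, hi, mul_comm] at h1
    exact Nat.eq_of_mul_eq_mul_right Nat.card_pos h1
  let L := Subgroup.normalizer (R : Set G)
  have hRL : R ≤ L := Subgroup.le_normalizer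
  have hzL : z ∈ L := mem_norm3 hY.cube hg.K_norm
  have hCL : C ≤ L := by
    haveI hn : (R.subgroupOf C).Normal := Subgroup.normal_of_index_eq_two hrel
    have h1 : ∀ c ∈ C, ∀ r ∈ R, c * r * c⁻¹ ∈ R := fun c hc r hr =>
      Subgroup.mem_subgroupOf.1 (hn.conj_mem ⟨r, hRC hr⟩ (Subgroup.mem_subgroupOf.2 hr) ⟨c, hc⟩)
    intro c hc
    rw [Subgroup.mem_normalizer_iff]
    intro r
    constructor
    · intro hr
      exact h1 c hc r hr
    · intro hr
      have h2 := h1 _ (C.inv_mem hc) _ hr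
      have h3 : c⁻¹ * (c * r * c⁻¹) * c⁻¹⁻¹ = r := by group
      rwa [h3] at h2
  have hLR : ∀ g ∈ L, ∀ r ∈ R, g * r * g⁻¹ ∈ R := fun g hg r hr =>
    (Subgroup.mem_normalizer_iff.1 hg r).1 hr
  haveI hRn : (R.subgroupOf L).Normal := by
    constructor
    intro n hn g
    rw [Subgroup.mem_subgroupOf] at hn ⊢
    exact hLR g g.2 n hn
  have hodd : ¬ 2 ∣ C.relIndex L := by
    have h1 : IsPGroup 2 (C.subgroupOf L) := b.hC2.comap_of_injective L.subtype L.subtype_injective
    obtain ⟨S, hS⟩ := h1.exists_le_sylow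
    have h2 : IsPGroup 2 ((S : Subgroup L).map L.subtype) := S.isPGroup'.map _
    have h3 : C ≤ (S : Subgroup L).map L.subtype := fun c hc =>
      Subgroup.mem_map.2 ⟨⟨c, hCL hc⟩, hS (Subgroup.mem_subgroupOf.2 hc), rfl⟩
    have h4 := hmax b.hconj b.ht h2 h3
    have h5 : C.subgroupOf L = (S : Subgroup L) := by
      rw [← hC] at h4
      rw [← h4]
      exact Subgroup.comap_map_eq_self_of_injective L.subtype_injective _
    show ¬ 2 ∣ (C.subgroupOf L).index
    rw [h5]; exact S.not_dvd_index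
  have hidx : (R.subgroupOf L).index = 2 * C.relIndex L := by
    rw [← hrel, Subgroup.relIndex_mul_relIndex R C L hRC hCL]; rfl
  obtain ⟨H, hH2, hvH⟩ := H80.thompson_transfer (R.subgroupOf L) (by rw [hidx]; omega)
    (⟨v, hCL hvC⟩ : L) (by rw [← hv]; exact Subgroup.orderOf_mk v _) (by
      intro g hgv
      apply hvR
      have h1 := hRn.conj_mem _ hgv g⁻¹
      have h2 : g⁻¹ * (g * (⟨v, hCL hvC⟩ : L) * g⁻¹) * g⁻¹⁻¹ = ⟨v, hCL hvC⟩ := by group
      rw [h2] at h1
      exact Subgroup.mem_subgroupOf.1 h1)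
  haveI hHn : H.Normal := Subgroup.normal_of_index_eq_two hH2
  have hzH : (⟨z, hzL⟩ : L) ∈ H := by
    have h1 := Subgroup.sq_mem_of_index_two hH2 ((⟨z, hzL⟩ : L) ^ 2)
    have h2 : ((⟨z, hzL⟩ : L) ^ 2) ^ 2 = ⟨z, hzL⟩ := by
      apply Subtype.ext
      show (z ^ 2) ^ 2 = z
      have := hY.cube
      calc (z ^ 2) ^ 2 = z ^ 3 * z := by rw [← pow_mul]; exact pow_succ z 3
        _ = z := by rw [this, one_mul]
    rwa [h2] at h1
  have hRH : R.subgroupOf L ≤ H := by
    rintro ⟨r, hrL⟩ hr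
    rw [Subgroup.mem_subgroupOf] at hr
    obtain ⟨m, hm, hm2⟩ := Fpf3.exists_conj hY.cube hg.K_norm hf hr
    have h1 : (⟨r, hrL⟩ : L) = (⟨m, hRL hm⟩ * ⟨z, hzL⟩ * (⟨m, hRL hm⟩ : L)⁻¹) * (⟨z, hzL⟩ : L)⁻¹ := by
      apply Subtype.ext
      show r = (m * z * m⁻¹) * z⁻¹
      rw [← hm2]; group
    rw [h1]
    exact H.mul_mem (hHn.conj_mem _ hzH _) (H.inv_mem hzH)
  let M := H.map L.subtype
  have memM : ∀ g (hg : g ∈ L), (⟨g, hg⟩ : L) ∈ H → g ∈ M := fun g hg hgH =>
    Subgroup.mem_map.2 ⟨⟨g, hg⟩, hgH, rfl⟩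
  have memM' : ∀ g ∈ M, ∃ hg : g ∈ L, (⟨g, hg⟩ : L) ∈ H := by
    intro g hgM
    obtain ⟨a, ha, rfl⟩ := Subgroup.mem_map.1 hgM
    exact ⟨a.2, ha⟩
  have hzM : z ∈ M := memM z hzL hzH
  have hRM : R ≤ M := fun r hr => memM r (hRL hr) (hRH (Subgroup.mem_subgroupOf.2 hr))
  have hvM : v ∉ M := by
    intro hvM
    obtain ⟨h1, h2⟩ := memM' v hvM
    exact hvH h2
  -- 2-elements of M lie in R
  have htwo : ∀ g ∈ M, (∃ j : ℕ, g ^ 2 ^ j = 1) → g ∈ R := by
    rintro g hgM ⟨j, hj⟩
    obtain ⟨hgL, hgH⟩ := memM' g hgM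
    have hk : ¬ 2 ∣ (R.subgroupOf L).relIndex H := by
      have h1 := Subgroup.relIndex_mul_index hRH
      rw [hH2, hidx] at h1
      have h2 : (R.subgroupOf L).relIndex H = C.relIndex L := by omega
      rw [h2]; exact hodd
    haveI : ((R.subgroupOf L).subgroupOf H).Normal := hRn.subgroupOf H
    have h1 := Subgroup.pow_index_mem ((R.subgroupOf L).subgroupOf H) (⟨⟨g, hgL⟩, hgH⟩ : H)
    rw [Subgroup.mem_subgroupOf, Subgroup.mem_subgroupOf] at h1
    have h2 : g ^ (R.subgroupOf L).relIndex H ∈ R := h1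
    have h3 : Nat.Coprime ((R.subgroupOf L).relIndex H) (orderOf g) := by
      have h4 : Nat.Coprime (2 ^ j) ((R.subgroupOf L).relIndex H) :=
        Nat.Coprime.pow_left j ((Nat.Prime.coprime_iff_not_dvd Nat.prime_two).2 hk)
      exact (h4.coprime_dvd_left (orderOf_dvd_of_pow_eq_one hj)).symm
    obtain ⟨m, hm⟩ := exists_pow_eq_self_of_coprime h3
    rw [← hm]
    exact R.pow_mem h2 m
  have htR : t ∈ R := hg.t_mem
  obtain ⟨N, hNM, hN2, hN3, hcos⟩ := two_compl hY M hzM (by
    intro w hw hw2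
    have hwR : w ∈ R := htwo w hw ⟨1, by rw [pow_one, sq]; exact sq_one_of_order hw2⟩
    exact not_invert hR2 hg.hy hg.K_norm hwR) b.ht (hRM htR) b.hC2
  have hNR : N = R := by
    apply le_antisymm
    · intro g hgN
      obtain ⟨k, hk⟩ := hN2 ⟨g, hgN⟩
      exact htwo g (hNM hgN) ⟨k, congrArg Subtype.val hk⟩
    · intro r hr
      exact b.mem_of_cube hR2 hr (hN3 r (hRM hr))
  rw [hNR] at hcos
  have hvL : v ∈ L := hCL hvC
  have hvzM : v * z * v⁻¹ ∈ M := by
    have h1 := hHn.conj_mem _ hzH (⟨v, hvL⟩ : L)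
    exact memM _ (L.mul_mem (L.mul_mem hvL hzL) (L.inv_mem hvL)) h1
  rcases hcos _ hvzM with e | e | e
  · exfalso
    have h1 := hLR v⁻¹ (L.inv_mem hvL) _ e
    have h2 : v⁻¹ * (v * z * v⁻¹) * v⁻¹⁻¹ = z := by group
    rw [h2] at h1
    exact b.not_mem_two hR2 hg.hy h1
  · exfalso
    obtain ⟨m, hm, hm2⟩ := Fpf3.exists_conj hY.cube hg.K_norm hf e
    have h1 : v * z * v⁻¹ = m * z * m⁻¹ := by rw [← hm2]; group
    have h2 : m⁻¹ * v * z = z * (m⁻¹ * v) := by
      calc m⁻¹ * v * z = m⁻¹ * (v * z * v⁻¹) * v := by group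
        _ = m⁻¹ * (m * z * m⁻¹) * v := by rw [h1]
        _ = _ := by group
    apply hvM
    have h3 : v = m * (m⁻¹ * v) := by group
    rw [h3]
    apply M.mul_mem (hRM hm)
    rcases hY.cen _ h2 with e' | e' | e'
    · rw [e']; exact M.one_mem
    · rw [e']; exact hzM
    · rw [e']; exact M.inv_mem hzM
  · exact e

theorem odd_case {a : ℕ} (ha : Nat.card (Subgroup.centralizer ({t} : Set G)) = 2 * 4 ^ a) :
    False := by
  classical
  set C := Subgroup.centralizer ({t} : Set G) with hC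
  have h16 := b.h16
  have hbig := b.big
  rw [← hC] at h16 hbig
  have htu : ∀ i, y i * t * (y i)⁻¹ ∈ C := fun i => b.fam.mem i
  have hle : ∀ i, ∃ k, Nat.card (KK t (y i)) = 4 ^ k ∧ k ≤ a := by
    intro i
    obtain ⟨k, hk⟩ := b.card_K i
    refine ⟨k, hk, ?_⟩
    by_contra hc
    have h1 : 4 ^ (a + 1) ≤ 4 ^ k := Nat.pow_le_pow_right (by norm_num) (by omega)
    have h2 := Subgroup.card_le_of_le (b.K_le i)
    rw [← hC, ha, hk] at h2
    rw [pow_succ] at h1
    have : 0 < 4 ^ a := by positivity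
    omega
  -- some index two
  have hex : ∃ i, Nat.card (KK t (y i)) = 4 ^ a := by
    by_contra hn
    push Not at hn
    have h8 := family_bound C (fun i => y i * t * (y i)⁻¹) (C : Set G)
      (fun i p hp => C.mul_mem (C.mul_mem hp (htu i)) (C.inv_mem hp))
      (fun i j p hp e => b.fam.inj i j p hp e) 8 (by
        intro i
        rw [b.K_eq i, ha]
        obtain ⟨k, hk, hka⟩ := hle i
        have hne := hn i
        rw [hk] at hne ⊢
        have hlt : k < a := by
          rcases Nat.lt_or_ge k a with h1 | h1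
          · exact h1
          · exact absurd (by rw [le_antisymm hka h1]) hne
        have : 4 ^ (k + 1) ≤ 4 ^ a := Nat.pow_le_pow_right (by norm_num) hlt
        rw [pow_succ] at this
        omega)
    rw [Nat.card_eq_fintype_card (α := Fin n), Fintype.card_fin] at h8
    have h9 : Nat.card (C : Set G) = Nat.card C := rfl
    rw [h9] at h8
    omega
  obtain ⟨i, hi⟩ := hex
  have hg := b.fam.good i
  set z := y i with hz
  set R := KK t z with hR
  have hRC : R ≤ C := b.K_le i
  have hi2 : Nat.card C = 2 * Nat.card R := by rw [ha, hi]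
  have hcsub : ∀ {A B : Subgroup G}, A ≤ B → Nat.card (A.subgroupOf B) = Nat.card A :=
    fun h => Nat.card_congr (Subgroup.subgroupOfEquivOfLe h).toEquiv
  have hrel : (R.subgroupOf C).index = 2 := by
    have h1 := (R.subgroupOf C).card_mul_index
    rw [hcsub hRC, hi2, mul_comm] at h1
    exact Nat.eq_of_mul_eq_mul_right Nat.card_pos h1
  haveI hn : (R.subgroupOf C).Normal := Subgroup.normal_of_index_eq_two hrel
  have hCR : ∀ c ∈ C, ∀ r ∈ R, c * r * c⁻¹ ∈ R := fun c hc r hr =>
    Subgroup.mem_subgroupOf.1 (hn.conj_mem ⟨r, hRC hr⟩ (Subgroup.mem_subgroupOf.2 hr) ⟨c, hc⟩)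
  -- at most one outside
  have hout : Nat.card {j // ¬ y j * t * (y j)⁻¹ ∈ R} ≤ 1 := by
    rw [Finite.card_le_one_iff_subsingleton]
    constructor
    rintro ⟨j, hj⟩ ⟨k, hk⟩
    apply Subtype.ext
    have h1 := b.swap hi2 (b.fam.good j).hu (htu j) hj
    have h2 : (y j * t * (y j)⁻¹)⁻¹ * (y k * t * (y k)⁻¹) ∈ R := by
      have h3 := (Subgroup.mul_mem_iff_of_index_two hrel (a := (⟨_, htu j⟩ : C)⁻¹)
        (b := ⟨_, htu k⟩)).2 (by
          rw [inv_mem_iff, Subgroup.mem_subgroupOf, Subgroup.mem_subgroupOf]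
          exact ⟨fun h => absurd h hj, fun h => absurd h hk⟩)
      exact Subgroup.mem_subgroupOf.1 h3
    obtain ⟨m, hm, hm2⟩ := VK (pow3_of_order hg.hy) hg.K_norm (hg.K_fpf b.h) (b.fam.good j).hu
      (b.fam.good k).hu (fun r hr => hCR _ (htu j) r hr) h2 h1
    exact b.fam.inj j k m (hRC hm) hm2.symm
  have hcard : Nat.card {j // y j * t * (y j)⁻¹ ∈ R} + Nat.card {j // ¬ y j * t * (y j)⁻¹ ∈ R} = n := by
    rw [Nat.card_eq_fintype_card, Nat.card_eq_fintype_card, Fintype.card_subtype_compl,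
      Fintype.card_fin]
    have := Fintype.card_subtype_le (fun j => y j * t * (y j)⁻¹ ∈ R)
    rw [Fintype.card_fin] at this
    omega
  let S : Set G := {v | v ∈ R ∧ v ≠ 1 ∧ v ≠ t}
  have hin := family_bound C (ι := {j // y j * t * (y j)⁻¹ ∈ R})
    (fun j => y j.1 * t * (y j.1)⁻¹) S (by
      intro j p hp
      refine ⟨hCR p hp _ j.2, ?_, ?_⟩
      · intro e
        apply ne_one_of_order (b.fam.good j.1).hu
        calc y j.1 * t * (y j.1)⁻¹ = p⁻¹ * (p * (y j.1 * t * (y j.1)⁻¹) * p⁻¹) * p := by group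
          _ = 1 := by rw [e]; group
      · intro e
        apply (b.fam.good j.1).t_ne_u
        calc t = p⁻¹ * (p * t) := by group
          _ = p⁻¹ * t * p := by rw [b.memC.1 hp]; group
          _ = p⁻¹ * (p * (y j.1 * t * (y j.1)⁻¹) * p⁻¹) * p := by rw [e]
          _ = _ := by group)
    (fun j k p hp e => Subtype.ext (b.fam.inj j.1 k.1 p hp e)) 2 (by
      intro j
      rw [b.K_eq j.1, ha]
      obtain ⟨k, hk, hka⟩ := hle j.1
      rw [hk]
      exact Nat.mul_le_mul_left _ (Nat.pow_le_pow_right (by norm_num) hka))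
  have hS : Nat.card S + 2 = Nat.card R := by
    have e1 : S = (R : Set G) \ {1, t} := by
      ext v
      simp only [S, Set.mem_setOf_eq, Set.mem_diff, SetLike.mem_coe, Set.mem_insert_iff,
        Set.mem_singleton_iff, not_or]
    have e2 := Set.ncard_diff_add_ncard_of_subset (s := ({1, t} : Set G)) (t := (R : Set G)) (by
      intro v hv
      rcases hv with rfl | rfl
      · exact R.one_mem
      · exact hg.t_mem) (Set.toFinite _)
    rw [Set.ncard_pair (ne_one_of_order b.ht).symm, ← e1, ← Nat.card_coe_set_eq,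
      ← Nat.card_coe_set_eq] at e2
    exact e2
  omega

theorem false : False := by
  obtain ⟨a, ha | ha⟩ := b.card_C
  · exact b.even_case ha
  · exact b.odd_case ha

end Beta

end Cfsg.Agent.H55.Three
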