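import Mathlib
import Cfsg.Agent.H55.ThreeBeta

set_option autoImplicit false
set_option linter.style.haveILetI false
set_option linter.unusedSectionVars false

/-!
# Simple groups with a self-centralizing subgroup of order three
-/

namespace Cfsg.Agent.H55.Three

open Cfsg.Agent.H55.BswGrp
open scoped commutatorElement

universe u

/-- `D > 0`. -/
theorem D_pos {f s : ℤ} (hf : 4 ≤ f) (hs : 0 < s) (hD : 0 ≤ 3 * f * (f + 1) - s * (2 * f + 1)) :
    0 < 3 * f * (f + 1) - s * (2 * f + 1) := by
  rcases lt_or_eq_of_le hD with h | h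
  · exact h
  · exfalso
    -- (2f+1) ∣ 3 f (f+1), and 4 f (f+1) = (2f+1)^2 - 1
    have h1 : s * (2 * f + 1) = 3 * f * (f + 1) := by linarith
    have h2 : (2 * f + 1) ∣ 3 := by
      refine ⟨3 * (2 * f + 1) - 4 * s, ?_⟩
      have : (2 * f + 1) * (3 * (2 * f + 1) - 4 * s) = 3 * (2 * f + 1) ^ 2 - 4 * (s * (2 * f + 1)) := by
        ring
      rw [this, h1]; ring
    have h3 := Int.le_of_dvd (by norm_num) h2
    omega

/-- The finite check in the first case. -/
theorem check {f s c n : ℤ} (hf : 4 ≤ f) (hm : f % 3 = 1) (hs : 0 < s) (hc : 0 < c) (hn : 0 < n)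
    (hn3 : n ≤ 3) (hv : 3 * s ≤ 4 * (f - 1)) (hD : 3 * s * n = c * (3 * f * (f + 1) - s * (2 * f + 1)))
    (heven : (c * s) % 2 = 0) : (f = 4 ∧ c = 1) ∨ (f = 7 ∧ c = 1) := by
  have hDpos : 0 < 3 * f * (f + 1) - s * (2 * f + 1) := by
    by_contra hcon
    push Not at hcon
    have h1 : 0 < 3 * s * n := by positivity
    have h2 : c * (3 * f * (f + 1) - s * (2 * f + 1)) ≤ 0 := mul_nonpos_of_nonneg_of_nonpos hc.le hcon
    linarith
  have hD1 : 3 * f * (f + 1) - s * (2 * f + 1) ≤ 9 * s := by
    have h1 : 3 * f * (f + 1) - s * (2 * f + 1) ≤ c * (3 * f * (f + 1) - s * (2 * f + 1)) := by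
      nlinarith
    nlinarith
  have hf21 : f ≤ 21 := by
    by_contra hcon
    push Not at hcon
    nlinarith
  have hfc : f = 4 ∨ f = 7 ∨ f = 10 ∨ f = 13 ∨ f = 16 ∨ f = 19 := by omega
  have hnc : n = 1 ∨ n = 2 ∨ n = 3 := by omega
  rcases hfc with rfl | rfl | rfl | rfl | rfl | rfl
  · have : s ≤ 4 := by omega
    rcases hnc with rfl | rfl | rfl <;> interval_cases s <;> omega
  · have : s ≤ 8 := by omega
    rcases hnc with rfl | rfl | rfl <;> interval_cases s <;> omega
  · have : s ≤ 12 := by omega
    rcases hnc with rfl | rfl | rfl <;> interval_cases s <;> omega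
  · have : s ≤ 16 := by omega
    rcases hnc with rfl | rfl | rfl <;> interval_cases s <;> omega
  · have : s ≤ 20 := by omega
    rcases hnc with rfl | rfl | rfl <;> interval_cases s <;> omega
  · have : s ≤ 24 := by omega
    rcases hnc with rfl | rfl | rfl <;> interval_cases s <;> omega

/-- The Klein four-group `{1, t, u, tu}`. -/
def VV {G : Type u} [Group G] {t y : G} (hg : Good t y) : Subgroup G where
  carrier := {g | g = 1 ∨ g = t ∨ g = y * t * y⁻¹ ∨ g = t * (y * t * y⁻¹)}
  one_mem' := Or.inl rfl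
  mul_mem' := by
    have htt := sq_one_of_order hg.ht
    have huu := sq_one_of_order hg.hu
    have hc := hg.comm
    generalize y * t * y⁻¹ = u at *
    have e1 : ∀ w, t * (t * w) = w := fun w => by rw [← mul_assoc, htt, one_mul]
    have e2 : ∀ w, u * (u * w) = w := fun w => by rw [← mul_assoc, huu, one_mul]
    have e3 : ∀ w, u * (t * w) = t * (u * w) := fun w => by rw [← mul_assoc, hc, mul_assoc]
    rintro a b (rfl | rfl | rfl | rfl) (rfl | rfl | rfl | rfl) <;>
      simp only [Set.mem_setOf_eq, one_mul, mul_one, mul_assoc, e1, e2, e3, htt, huu, hc] <;> simp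
  inv_mem' := by
    have hti := inv_self_of hg.ht
    have hui := inv_self_of hg.hu
    have hc := hg.comm
    rintro a (rfl | rfl | rfl | rfl)
    · left; exact inv_one
    · right; left; exact hti
    · right; right; left; exact hui
    · right; right; right
      rw [mul_inv_rev, hui, hti]; exact hc

theorem VV_sq {G : Type u} [Group G] {t y : G} (hg : Good t y) : ∀ g ∈ VV hg, g * g = 1 := by
  have htt := sq_one_of_order hg.ht
  have huu := sq_one_of_order hg.hu
  have hc := hg.comm
  rintro g (rfl | rfl | rfl | rfl)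
  · exact mul_one 1
  · exact htt
  · exact huu
  · calc t * (y * t * y⁻¹) * (t * (y * t * y⁻¹)) = t * ((y * t * y⁻¹) * t) * (y * t * y⁻¹) := by group
      _ = t * (t * (y * t * y⁻¹)) * (y * t * y⁻¹) := by rw [hc]
      _ = (t * t) * ((y * t * y⁻¹) * (y * t * y⁻¹)) := by group
      _ = 1 := by rw [htt, huu, one_mul]

theorem VV_norm {G : Type u} [Group G] {t y : G} (hg : Good t y) : ∀ g ∈ VV hg, y * g * y⁻¹ ∈ VV hg := by
  rintro g (rfl | rfl | rfl | rfl)
  · left; group
  · right; right; left; rfl
  · right; right; right; exact hg.w2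
  · right; left; exact hg.w3

theorem VV_card {G : Type u} [Group G] {t y : G} (hg : Good t y) : Nat.card (VV hg) = 4 := by
  classical
  have t1 := ne_one_of_order hg.ht
  have u1 := ne_one_of_order hg.hu
  have tu := hg.t_ne_u
  have htt := sq_one_of_order hg.ht
  have e : ((VV hg : Subgroup G) : Set G) =
      (({1, t, y * t * y⁻¹, t * (y * t * y⁻¹)} : Finset G) : Set G) := by
    ext g
    simp only [Finset.coe_insert, Finset.coe_singleton, Set.mem_insert_iff, Set.mem_singleton_iff]
    exact Iff.rfl
  have h1 : Nat.card (VV hg) = Nat.card ((({1, t, y * t * y⁻¹, t * (y * t * y⁻¹)} : Finset G) : Set G)) := by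
    rw [← e]; rfl
  rw [h1, Nat.card_eq_card_toFinset, Finset.toFinset_coe, Finset.card_insert_of_notMem,
    Finset.card_insert_of_notMem, Finset.card_insert_of_notMem, Finset.card_singleton]
  · simp only [Finset.mem_singleton]
    intro e
    exact t1 (right_eq_mul.1 e)
  · simp only [Finset.mem_insert, Finset.mem_singleton, not_or]
    refine ⟨tu, ?_⟩
    intro e
    exact u1 (left_eq_mul.1 e)
  · simp only [Finset.mem_insert, Finset.mem_singleton, not_or]
    refine ⟨t1.symm, u1.symm, ?_⟩
    intro e
    apply tu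
    calc t = t * (t * (y * t * y⁻¹)) := by rw [← e, mul_one]
      _ = (t * t) * (y * t * y⁻¹) := by group
      _ = _ := by rw [htt, one_mul]

/-- Sylow subgroups of a subgroup. -/
theorem exists_syl' {G : Type u} [Group G] [Finite G] (C : Subgroup G) :
    ∃ P : Subgroup G, P ≤ C ∧ IsPGroup 2 P ∧ ¬ 2 ∣ P.relIndex C ∧
      ∀ v ∈ C, orderOf v = 2 → ∃ c ∈ C, c * v * c⁻¹ ∈ P := by
  haveI : Fact (Nat.Prime 2) := ⟨Nat.prime_two⟩
  let S : Sylow 2 C := default
  refine ⟨(S : Subgroup C).map C.subtype, Subgroup.map_subtype_le _, S.isPGroup'.map _, ?_, ?_⟩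
  · have h1 : ((S : Subgroup C).map C.subtype).subgroupOf C = (S : Subgroup C) :=
      Subgroup.comap_map_eq_self_of_injective C.subtype_injective _
    show ¬ 2 ∣ (((S : Subgroup C).map C.subtype).subgroupOf C).index
    rw [h1]; exact S.not_dvd_index
  · intro v hv ho
    have h2 : orderOf (⟨v, hv⟩ : C) = 2 := by
      rw [← ho]; exact Subgroup.orderOf_mk v hv
    obtain ⟨g, hg⟩ := exists_conj_mem (S : Subgroup C) S.not_dvd_index h2
    refine ⟨(g : G)⁻¹, C.inv_mem g.2, ?_⟩
    exact Subgroup.mem_map.2 ⟨_, hg, by simp⟩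

section Main

variable {G : Type u} [Group G] [Finite G] [IsSimpleGroup G] {x : G} (h : X3 x)
  (hr : IsConj x x⁻¹)

include h hr

/-- **Simple groups.** -/
theorem simple : (Nat.card G = 60 ∨ Nat.card G = 168) ∧ ∃ t, Good t x := by
  classical
  haveI : Fintype G := Fintype.ofFinite _
  haveI : Fact (Nat.Prime 2) := ⟨Nat.prime_two⟩
  obtain ⟨χ₁, χ₂, f, c⟩ := h.exists_chars hr
  obtain ⟨t, ht, -⟩ := h.exists_inv hr
  have hconj : ∀ a b : G, orderOf a = 2 → orderOf b = 2 → IsConj a b :=
    fun a b ha hb => all_conj h hr c ha hb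
  obtain ⟨s, k, hnum⟩ := exists_num h hr c ht
  obtain ⟨n, hn1, hn2⟩ := exists_number h ht
  set C := Subgroup.centralizer ({t} : Set G) with hC
  have hf := hnum.f4
  have hs := hnum.s0
  have hk := hnum.c0
  have hcnt := hnum.cnt
  rw [hn1] at hcnt
  have hcC := hnum.cardC
  rw [← hC] at hcC
  have hDnn : 0 ≤ 3 * f * (f + 1) - s * (2 * f + 1) := by
    by_contra hcon
    push Not at hcon
    have h1 : k ^ 2 * (3 * f * (f + 1) - s * (2 * f + 1)) < 0 :=
      mul_neg_of_pos_of_neg (by positivity) hcon
    have h2 : (0 : ℤ) ≤ 3 * ((Nat.card C * n : ℕ) : ℤ) := by positivity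
    linarith
  have hD := D_pos hf hs hDnn
  have hrel : 3 * s * (n : ℤ) = k * (3 * f * (f + 1) - s * (2 * f + 1)) := by
    have h1 : k * (3 * s * (n : ℤ)) = k * (k * (3 * f * (f + 1) - s * (2 * f + 1))) := by
      push_cast at hcnt
      rw [hcC] at hcnt
      linear_combination hcnt
    exact mul_left_cancel₀ hk.ne' h1
  have hnpos : 0 < n := by
    rcases Nat.eq_zero_or_pos n with e | e
    · exfalso
      rw [e] at hrel
      have : 0 < k * (3 * f * (f + 1) - s * (2 * f + 1)) := by positivity
      rw [← hrel] at this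
      simp at this
    · exact e
  -- existence of a good pair
  have hgood : ∃ y, Good t y := by
    have hpos : 0 < Nat.card {y : G // orderOf y = 3 ∧ orderOf (y * t) = 3} := by
      rw [hn1]; exact Nat.mul_pos Nat.card_pos hnpos
    haveI := (Nat.card_pos_iff.1 hpos).1
    obtain ⟨y, hy⟩ := (inferInstance : Nonempty {y : G // orderOf y = 3 ∧ orderOf (y * t) = 3})
    exact ⟨y, ht, hy.1, hy.2⟩
  obtain ⟨y, hg⟩ := hgood
  refine ⟨?_, ?_⟩
  swap
  · obtain ⟨g, hgx⟩ := isConj_iff.1 (h.isConj3 hr hg.hy).symm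
    refine ⟨g * t * g⁻¹, by rw [orderOf_conj, ht], h.ox, ?_⟩
    have : x * (g * t * g⁻¹) = g * (y * t) * g⁻¹ := by rw [← hgx]; group
    rw [this, orderOf_conj, hg.hyt]
  -- V4 bound
  have hv4 : 3 * s ≤ 4 * (f - 1) := by
    have := hnum.tb y (VV hg) hg.hy (VV_norm hg) (VV_sq hg)
    rw [VV_card] at this
    push_cast at this
    linarith
  have heven : (k * s) % 2 = 0 := by
    rw [← hcC]
    have h1 : 2 ∣ Nat.card C := by
      rw [← ht]
      have : orderOf (⟨t, Subgroup.mem_centralizer_singleton_iff.2 rfl⟩ : C) = orderOf t :=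
        Subgroup.orderOf_mk t _
      rw [← this]; exact orderOf_dvd_natCard _
    omega
  by_cases hE : NoE G
  · have hn3 := alpha h hE ht (n := n) hn2
    have hn3' : (n : ℤ) ≤ 3 := by exact_mod_cast hn3
    have hn0' : (0 : ℤ) < n := by exact_mod_cast hnpos
    rcases check hf hnum.fmod hs hk hn0' hn3' hv4 hrel heven with ⟨rfl, rfl⟩ | ⟨rfl, rfl⟩
    · left
      have : (Nat.card G : ℤ) = 60 := by rw [hnum.cardG]; norm_num
      exact_mod_cast this
    · right
      have : (Nat.card G : ℤ) = 168 := by rw [hnum.cardG]; norm_num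
      exact_mod_cast this
  · exfalso
    unfold NoE at hE
    push Not at hE
    obtain ⟨y', T, hy', hyT, hT2, hT16⟩ := hE
    -- the bound for `s`
    have hs16 : 15 * s ≤ 16 * (f - 1) := by
      have h1 := hnum.tb y' T hy' hyT hT2
      have h2 : (16 : ℤ) ≤ Nat.card T := by exact_mod_cast hT16
      nlinarith
    have hbig : 65 * Nat.card C < 256 * n := by
      have hD' : 195 * s ^ 2 < 256 * (3 * f * (f + 1) - s * (2 * f + 1)) := by
        obtain ⟨q, hq⟩ : ∃ q, q = 16 * (f - 1) - 15 * s := ⟨_, rfl⟩
        have hq0 : 0 ≤ q := by omega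
        have e : 256 * (3 * f * (f + 1) - s * (2 * f + 1)) - 195 * s ^ 2 =
            3 * q ^ 2 + 58 * (q * s) + 144 * q + 1392 * s + 1536 := by rw [hq]; ring
        have h1 : 0 ≤ q ^ 2 := sq_nonneg q
        have h2 : 0 ≤ q * s := mul_nonneg hq0 hs.le
        linarith
      have h1 : 3 * s ^ 2 * (n : ℤ) = (Nat.card C : ℤ) * (3 * f * (f + 1) - s * (2 * f + 1)) := by
        rw [hcC]
        linear_combination s * hrel
      have hCpos : (0 : ℤ) < Nat.card C := by exact_mod_cast Nat.card_pos
      have h2 : (Nat.card C : ℤ) * (195 * s ^ 2) <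
          (Nat.card C : ℤ) * (256 * (3 * f * (f + 1) - s * (2 * f + 1))) :=
        mul_lt_mul_of_pos_left hD' hCpos
      have h3 : (s ^ 2) * (195 * (Nat.card C : ℤ)) < (s ^ 2) * (768 * (n : ℤ)) := by
        have h4 : (s ^ 2) * (768 * (n : ℤ)) = 256 * (3 * s ^ 2 * (n : ℤ)) := by ring
        rw [h4, h1]
        linarith
      have h4 := lt_of_mul_lt_mul_left h3 (sq_nonneg s)
      have h5 : 195 * Nat.card C < 768 * n := by exact_mod_cast h4
      omega
    -- the Sylow subgroup
    obtain ⟨P, hPC, hP2, hPi, hPv⟩ := exists_syl' C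
    have hPv' : ∀ v, orderOf v = 2 → v * t = t * v → ∃ c ∈ C, c * v * c⁻¹ ∈ P :=
      fun v hv hvt => hPv v (Subgroup.mem_centralizer_singleton_iff.2 hvt) hv
    obtain ⟨z, hz⟩ := hn2 P hPv'
    have htP : t ∈ P := by
      obtain ⟨c', hc', hc2⟩ := hPv' t ht rfl
      have h1 := Subgroup.mem_centralizer_singleton_iff.1 hc'
      have : c' * t * c'⁻¹ = t := by rw [h1]; group
      rwa [this] at hc2
    have hnP : n < Nat.card P := by
      have h1 : Function.Injective (fun i : Option (Fin n) =>
          (match i with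
            | none => (1 : P)
            | some i => ⟨z i * t * (z i)⁻¹, hz.mem i⟩ : P)) := by
        intro i j e
        cases i with
        | none =>
          cases j with
          | none => rfl
          | some j =>
            exfalso
            exact ne_one_of_order (hz.good j).hu (congrArg Subtype.val e).symm
        | some i =>
          cases j with
          | none =>
            exfalso
            exact ne_one_of_order (hz.good i).hu (congrArg Subtype.val e)
          | some j =>
            have e1 : z i * t * (z i)⁻¹ = z j * t * (z j)⁻¹ := congrArg Subtype.val e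
            have e2 := hz.inj i j 1 C.one_mem (by rw [one_mul, inv_one, mul_one]; exact e1)
            rw [e2]
      have h2 := Nat.card_le_card_of_injective _ h1
      rw [Finite.card_option, Nat.card_eq_fintype_card (α := Fin n), Fintype.card_fin] at h2
      omega
    have hPCcard : Nat.card C = Nat.card P * P.relIndex C := by
      have h1 := (P.subgroupOf C).card_mul_index
      rw [Nat.card_congr (Subgroup.subgroupOfEquivOfLe hPC).toEquiv] at h1
      exact h1.symm
    have h3C : ¬ 3 ∣ Nat.card C := by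
      apply h.not_dvd_cen (ne_one_of_order ht)
      rw [ht]; norm_num
    have hm1 : P.relIndex C = 1 := by
      set m := P.relIndex C with hm
      have h1 : ¬ 3 ∣ m := fun hd => h3C (by rw [hPCcard]; exact Dvd.dvd.mul_left hd _)
      have h2 : m < 4 := by
        by_contra hcon
        push Not at hcon
        have h3 : Nat.card P * 4 ≤ Nat.card P * m := Nat.mul_le_mul_left _ hcon
        rw [← hPCcard] at h3
        omega
      have h4 : m ≠ 0 := by
        intro e
        rw [e, mul_zero] at hPCcard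
        exact Nat.card_pos.ne' hPCcard
      omega
    have hCP : C ≤ P := Subgroup.relIndex_eq_one.1 hm1
    have hC2 : IsPGroup 2 C := hP2.to_le hCP
    obtain ⟨w, hw⟩ := hn2 C (fun v hv hvt => ⟨1, C.one_mem, by
      rw [one_mul, inv_one, mul_one]; exact Subgroup.mem_centralizer_singleton_iff.2 hvt⟩)
    -- `16 ≤ |C|`
    have h16 : 16 ≤ Nat.card C := by
      have hTne : ∃ v ∈ T, v ≠ 1 := by
        by_contra hcon
        push Not at hcon
        have : T = ⊥ := by
          rw [Subgroup.eq_bot_iff_forall]; exact hcon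
        rw [this, Subgroup.card_bot] at hT16
        omega
      obtain ⟨v, hvT, hv1⟩ := hTne
      have hv2 : orderOf v = 2 := order_two hv1 (hT2 v hvT)
      have hle : T ≤ Subgroup.centralizer ({v} : Set G) := by
        intro g hg'
        refine Subgroup.mem_centralizer_singleton_iff.2 ?_
        have h1 := hT2 g hg'
        have h2 := hT2 v hvT
        have h3 := hT2 _ (T.mul_mem hg' hvT)
        calc g * v = (g * v)⁻¹ := (inv_eq_of_mul_eq_one_left h3).symm
          _ = v⁻¹ * g⁻¹ := by rw [mul_inv_rev]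
          _ = v * g := by rw [inv_eq_of_mul_eq_one_left h1, inv_eq_of_mul_eq_one_left h2]
      have h1 := Subgroup.card_le_of_le hle
      rw [card_cen_eq hconj ht hv2] at h1
      exact hT16.trans h1
    exact Beta.false (x := x) (t := t) (n := n) (y := w) ⟨h, hconj, ht, hC2, h16, hw, hbig⟩

end Main

end Cfsg.Agent.H55.Three
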