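import Mathlib
import Cfsg.Agent.H55.ThreeSimple
import Cfsg.Agent.H67.OrderSix
import Cfsg.Agent.Solv.Core

set_option autoImplicit false
set_option linter.style.haveILetI false
set_option linter.unusedSectionVars false

/-!
# Groups with a self-centralizing subgroup of order three: the reduction
-/

namespace Cfsg.Agent.H55.Three

open Cfsg Cfsg.Agent.H55.BswGrp Cfsg.Agent.Solv
open scoped commutatorElement

universe u

/-- `x` in a quotient by a normal `3'`-subgroup. -/
theorem X3.quot {G : Type u} [Group G] [Finite G] {x : G} (h : X3 x) (N : Subgroup G) [hN : N.Normal]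
    (h3 : ∀ n ∈ N, orderOf n ≠ 3) : X3 (QuotientGroup.mk x : G ⧸ N) := by
  refine ⟨?_, ?_⟩
  · apply order_three
    · intro e
      rw [QuotientGroup.eq_one_iff] at e
      exact h3 x e h.ox
    · rw [← QuotientGroup.mk_pow, h.cube]; rfl
  · intro g hg
    induction g using QuotientGroup.induction_on with
    | H g =>
      have e1 : g * x * g⁻¹ * x⁻¹ ∈ N := by
        rw [← QuotientGroup.eq_one_iff]
        have : (QuotientGroup.mk g * QuotientGroup.mk x : G ⧸ N) = QuotientGroup.mk x * QuotientGroup.mk g := hg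
        rw [QuotientGroup.mk_mul, QuotientGroup.mk_mul, QuotientGroup.mk_mul, this,
          QuotientGroup.mk_inv, QuotientGroup.mk_inv]
        group
      obtain ⟨m, hm, hm2⟩ := Fpf3.exists_conj h.cube (fun n hn => hN.conj_mem n hn x) (h.fpf h3) e1
      have e2 : g * x * g⁻¹ = m * x * m⁻¹ := by rw [← hm2]; group
      have e3 : m⁻¹ * g * x = x * (m⁻¹ * g) := by
        calc m⁻¹ * g * x = m⁻¹ * (g * x * g⁻¹) * g := by group
          _ = m⁻¹ * (m * x * m⁻¹) * g := by rw [e2]
          _ = _ := by group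
      have e4 : (QuotientGroup.mk g : G ⧸ N) = QuotientGroup.mk (m⁻¹ * g) := by
        rw [QuotientGroup.mk_mul, QuotientGroup.mk_inv, (QuotientGroup.eq_one_iff m).2 hm]
        group
      rw [e4]
      rcases h.cen _ e3 with e | e | e
      · left; rw [e]; rfl
      · right; left; rw [e]
      · right; right; rw [e]; rfl

theorem X3.sub {G : Type u} [Group G] {y : G} (h : X3 y) (M : Subgroup G)
    (hy : y ∈ M) : X3 (⟨y, hy⟩ : M) := by
  refine ⟨?_, ?_⟩
  · rw [← h.ox]; exact Subgroup.orderOf_mk y hy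
  · intro g hg
    have h1 : (g : G) * y = y * g := congrArg Subtype.val hg
    rcases h.cen g h1 with e | e | e
    · exact Or.inl (Subtype.ext e)
    · exact Or.inr (Or.inl (Subtype.ext e))
    · exact Or.inr (Or.inr (Subtype.ext e))

/-- Real case with trivial `3'`-core. -/
theorem core_free {H : Type u} [Group H] [Finite H] {x : H} (h : X3 x) (hr : IsConj x x⁻¹)
    (hO : pPrimeCore 3 H = ⊥) : Nat.card H = 6 ∨ IsSimpleGroup H := by
  classical
  haveI : Fact (Nat.Prime 3) := ⟨Nat.prime_three⟩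
  let A : Subgroup H := Subgroup.normalClosure {x}
  haveI hAn : A.Normal := Subgroup.normalClosure_normal
  have hxA : x ∈ A := Subgroup.subset_normalClosure (Set.mem_singleton x)
  have hX := h.sub A hxA
  have hmem : ∀ B : Subgroup A, B.Normal → B ≠ ⊥ → ∀ y : A, orderOf y = 3 → y ∈ B := by
    intro B hB hne
    have h3 : 3 ∣ Nat.card B := by
      by_contra hd
      apply hne
      have h1 : B ≤ pPrimeCore 3 A := le_pPrimeCore hB
        ((Nat.Prime.coprime_iff_not_dvd Nat.prime_three).2 hd).symm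
      have h2 := Subgroup.map_mono (f := A.subtype) h1
      have h4 := h2.trans (map_subtype_pPrimeCore_le 3 A)
      rw [hO, le_bot_iff, Subgroup.map_eq_bot_iff_of_injective _ A.subtype_injective] at h4
      exact h4
    obtain ⟨b, hb⟩ := exists_prime_orderOf_dvd_card' 3 h3
    have hb' : orderOf (b : A) = 3 := by rw [Subgroup.orderOf_coe, hb]
    have hXb := hX.all hb'
    have hxB : (b : A) ∈ B := b.2
    intro y hy
    rcases hXb.isConj_or hy with e | e
    · obtain ⟨g, rfl⟩ := isConj_iff.1 e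
      exact hB.conj_mem _ hxB g
    · obtain ⟨g, rfl⟩ := isConj_iff.1 e
      exact hB.conj_mem _ (B.inv_mem hxB) g
  haveI : Nontrivial A := ⟨⟨⟨x, hxA⟩, 1, fun e => h.x1 (congrArg Subtype.val e)⟩⟩
  have hA : IsSimpleGroup A := by
    constructor
    intro B hB
    by_cases hne : B = ⊥
    · exact Or.inl hne
    · right
      have h1 := hmem B hB hne
      rw [eq_top_iff]
      -- the conjugates of `x`
      have h2 : A ≤ B.map A.subtype := by
        show Subgroup.closure (Group.conjugatesOfSet {x}) ≤ _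
        rw [Subgroup.closure_le]
        intro y hy
        have hyA : y ∈ A := Subgroup.conjugatesOfSet_subset_normalClosure hy
        rw [Group.mem_conjugatesOfSet_iff] at hy
        obtain ⟨a, ha, hc⟩ := hy
        rw [Set.mem_singleton_iff] at ha
        subst ha
        obtain ⟨g, hg⟩ := isConj_iff.1 hc
        refine Subgroup.mem_map.2 ⟨⟨y, hyA⟩, h1 _ ?_, rfl⟩
        rw [Subgroup.orderOf_mk, ← hg, orderOf_conj, h.ox]
      intro a _
      obtain ⟨b, hb, hba⟩ := Subgroup.mem_map.1 (h2 a.2)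
      have : b = a := Subtype.ext hba
      rw [← this]; exact hb
  by_cases hc : IsConj (⟨x, hxA⟩ : A) (⟨x, hxA⟩ : A)⁻¹
  · right
    have hAtop : A = ⊤ := by
      rw [eq_top_iff]
      intro g _
      have h1 : g * x * g⁻¹ ∈ A := hAn.conj_mem x hxA g
      have h2 : orderOf (⟨g * x * g⁻¹, h1⟩ : A) = 3 := by
        rw [Subgroup.orderOf_mk, orderOf_conj, h.ox]
      obtain ⟨a, ha⟩ := isConj_iff.1 (hX.isConj3 hc h2)
      have ha' : (a : H) * x * (a : H)⁻¹ = g * x * g⁻¹ := congrArg Subtype.val ha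
      have h3 : (a : H)⁻¹ * g * x = x * ((a : H)⁻¹ * g) := by
        calc (a : H)⁻¹ * g * x = (a : H)⁻¹ * (g * x * g⁻¹) * g := by group
          _ = (a : H)⁻¹ * (a * x * (a : H)⁻¹) * g := by rw [ha']
          _ = _ := by group
      have h4 : g = a * ((a : H)⁻¹ * g) := by group
      rw [h4]
      apply A.mul_mem a.2
      rcases h.cen _ h3 with e | e | e
      · rw [e]; exact A.one_mem
      · rw [e]; exact hxA
      · rw [e]; exact A.inv_mem hxA
    have e : A ≃* H := (MulEquiv.subgroupCongr hAtop).trans Subgroup.topEquiv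
    exact e.isSimpleGroup_congr.1 hA
  · left
    obtain ⟨N, hN, hN3, hNi⟩ := compl3 hX (fun v hv e => hc (isConj_iff.2 ⟨v, e⟩))
    have hN1 : N = ⊥ := by
      rcases hN.eq_bot_or_eq_top with e | e
      · exact e
      · rw [e, Subgroup.index_top] at hNi; omega
    have hA3 : Nat.card A = 3 := by
      rw [hN1, Subgroup.index_bot] at hNi; exact hNi
    -- index of the centralizer
    obtain ⟨v, hv, hvx⟩ := h.exists_inv hr
    have hvx' : v * x⁻¹ * v⁻¹ = x := by
      calc v * x⁻¹ * v⁻¹ = (v * x * v⁻¹)⁻¹ := by group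
        _ = x := by rw [hvx, inv_inv]
    have hAx : ∀ a ∈ A, a = 1 ∨ a = x ∨ a = x⁻¹ := by
      intro a ha
      rcases three_elems hA3 (a := ⟨x, hxA⟩) (fun e => h.x1 (congrArg Subtype.val e)) ⟨a, ha⟩
        with e | e | e
      · exact Or.inl (congrArg Subtype.val e)
      · exact Or.inr (Or.inl (congrArg Subtype.val e))
      · exact Or.inr (Or.inr (congrArg Subtype.val e))
    have hb : ∀ b : H, b * x * b⁻¹ = x ∨ b * x * b⁻¹ = x⁻¹ := by
      intro b
      rcases hAx _ (hAn.conj_mem x hxA b) with e | e | e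
      · exfalso; apply h.x1
        calc x = b⁻¹ * (b * x * b⁻¹) * b := by group
          _ = 1 := by rw [e]; group
      · exact Or.inl e
      · exact Or.inr e
    have hmemC : ∀ b : H, b ∈ Subgroup.centralizer ({x} : Set H) ↔ b * x * b⁻¹ = x := by
      intro b
      rw [Subgroup.mem_centralizer_singleton_iff]
      exact mul_inv_eq_iff_eq_mul.symm
    have hidx : (Subgroup.centralizer ({x} : Set H)).index = 2 := by
      rw [Subgroup.index_eq_two_iff]
      refine ⟨v, fun b => ?_⟩
      rw [hmemC, hmemC]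
      rcases hb b with e | e
      · right
        refine ⟨e, ?_⟩
        intro e2
        have e3' : b * (v * x * v⁻¹) * b⁻¹ = b * v * x * (b * v)⁻¹ := by group
        have e3 := e3'.trans e2
        rw [hvx] at e3
        apply h.xinv_ne
        calc x⁻¹ = (b * x * b⁻¹)⁻¹ := by rw [e]
          _ = b * x⁻¹ * b⁻¹ := by group
          _ = x := e3
      · left
        refine ⟨?_, fun e2 => h.xinv_ne (by rw [← e, e2])⟩
        calc b * v * x * (b * v)⁻¹ = b * (v * x * v⁻¹) * b⁻¹ := by group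
          _ = (b * x * b⁻¹)⁻¹ := by rw [hvx]; group
          _ = x := by rw [e, inv_inv]
    rw [← Subgroup.card_mul_index (Subgroup.centralizer ({x} : Set H)), h.card_cen, hidx]

/-- A generalization of `comm_of_coprime`. -/
theorem comm_of_coprime' {G : Type u} [Group G] {N : Subgroup G}
    (hc : ∀ a ∈ N, ∀ b ∈ N, ∀ c ∈ N, ⁅⁅a, b⁆, c⁆ = 1) {a b : G} (ha : a ∈ N) (hb : b ∈ N)
    {m n : ℕ} (hm : a ^ m * b = b * a ^ m) (hn : a * b ^ n = b ^ n * a) (hmn : Nat.Coprime m n) :
    a * b = b * a := by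
  set c := ⁅a, b⁆ with hcd
  have e1 : a * b * a⁻¹ = c * b := by rw [hcd, commutatorElement_def]; group
  have ca : Commute c a := by
    have := hc a ha b hb a ha
    rwa [← hcd, commutatorElement_eq_one_iff_commute] at this
  have cb : Commute c b := by
    have := hc a ha b hb b hb
    rwa [← hcd, commutatorElement_eq_one_iff_commute] at this
  have h1 : c ^ n = 1 := by
    have h2 : (a * b * a⁻¹) ^ n = b ^ n := by rw [conj_pow, hn]; group
    rw [e1, cb.mul_pow] at h2
    exact mul_eq_right.1 h2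
  have h3 : ∀ k : ℕ, a ^ k * b * (a ^ k)⁻¹ = c ^ k * b := by
    intro k
    induction k with
    | zero => simp
    | succ k ih =>
      have e2 : a * c ^ k = c ^ k * a := ((ca.pow_left k).eq).symm
      calc a ^ (k + 1) * b * (a ^ (k + 1))⁻¹ = a * (a ^ k * b * (a ^ k)⁻¹) * a⁻¹ := by
            rw [pow_succ']; group
        _ = a * (c ^ k * b) * a⁻¹ := by rw [ih]
        _ = (a * c ^ k) * b * a⁻¹ := by group
        _ = (c ^ k * a) * b * a⁻¹ := by rw [e2]
        _ = c ^ k * (a * b * a⁻¹) := by group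
        _ = _ := by rw [e1, pow_succ]; group
  have h4 : c ^ m = 1 := by
    have h5 := h3 m
    rw [hm] at h5
    have h6 : b = c ^ m * b := by
      rw [← h5]; group
    exact (right_eq_mul.1 h6)
  have h5 : c = 1 := by
    have h6 : orderOf c ∣ 1 := by
      have := Nat.dvd_gcd (orderOf_dvd_of_pow_eq_one h4) (orderOf_dvd_of_pow_eq_one h1)
      rwa [hmn] at this
    exact orderOf_eq_one_iff.1 (Nat.dvd_one.1 h6)
  rw [h5, one_mul] at e1
  calc a * b = (a * b * a⁻¹) * a := by group
    _ = b * a := by rw [e1]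

section Red

variable {G : Type u} [Group G] [Finite G] {x : G} (h : X3 x) (N : Subgroup G) [hN : N.Normal]
  (h3 : ∀ n ∈ N, orderOf n ≠ 3) [hs : IsSimpleGroup (G ⧸ N)]

omit [Finite G] in
theorem top_of_normal (K : Subgroup G) (hK : K.Normal) (hNK : N ≤ K) {s : G} (hsK : s ∈ K)
    (hsN : s ∉ N) : K = ⊤ := by
  have h1 : (K.map (QuotientGroup.mk' N)).Normal := hK.map _ (QuotientGroup.mk'_surjective N)
  rcases h1.eq_bot_or_eq_top with e | e
  · exfalso
    apply hsN
    have h2 : QuotientGroup.mk' N s ∈ K.map (QuotientGroup.mk' N) := Subgroup.mem_map_of_mem _ hsK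
    rw [e, Subgroup.mem_bot] at h2
    exact (QuotientGroup.eq_one_iff s).1 h2
  · rw [eq_top_iff]
    intro g _
    have h2 : QuotientGroup.mk' N g ∈ K.map (QuotientGroup.mk' N) := by rw [e]; trivial
    obtain ⟨k, hk, hkg⟩ := Subgroup.mem_map.1 h2
    have h3 : k⁻¹ * g ∈ N := QuotientGroup.eq.1 hkg
    have h4 : g = k * (k⁻¹ * g) := by group
    rw [h4]
    exact K.mul_mem hk (hNK h3)

include h h3 hs in
omit [Finite G] in
theorem gen {S : Subgroup G} (hNS : N ≤ S) (hne : ∃ s ∈ S, s ∉ N) {w : G} (hw : w ∈ N)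
    (hc : ∀ g : G, ∀ s ∈ S, (g⁻¹ * w * g) * s = s * (g⁻¹ * w * g)) : w = 1 := by
  let K : Subgroup G :=
    { carrier := {k | ∀ g : G, (g⁻¹ * w * g) * k = k * (g⁻¹ * w * g)}
      one_mem' := fun g => by rw [mul_one, one_mul]
      mul_mem' := by
        intro a b ha hb g
        have h1 : Commute (g⁻¹ * w * g) a := ha g
        have h2 : Commute (g⁻¹ * w * g) b := hb g
        exact (h1.mul_right h2).eq
      inv_mem' := by
        intro a ha g
        have h1 : Commute (g⁻¹ * w * g) a := ha g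
        exact h1.inv_right.eq }
  have hK : K.Normal := by
    constructor
    intro k hk a g
    have h3 := hk (g * a)
    calc g⁻¹ * w * g * (a * k * a⁻¹) = a * (((g * a)⁻¹ * w * (g * a)) * k) * a⁻¹ := by group
      _ = a * (k * ((g * a)⁻¹ * w * (g * a))) * a⁻¹ := by rw [h3]
      _ = _ := by group
  obtain ⟨s, hsS, hsN⟩ := hne
  have hSK : S ≤ K := fun s hs g => hc g s hs
  have htop := top_of_normal N K hK (hNS.trans hSK) (hSK hsS) hsN
  have hxK : x ∈ K := by rw [htop]; trivial
  have h1 := hxK 1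
  simp only [inv_one, one_mul, mul_one] at h1
  rcases h.cen w h1 with e | e | e
  · exact e
  · exact absurd (by rw [e]; exact h.ox) (h3 w hw)
  · exact absurd (by rw [e, orderOf_inv]; exact h.ox) (h3 w hw)

include h h3 hs in
/-- With a four-group on top, `N` is elementary abelian. -/
theorem red_abel {P : Subgroup G} (hNP : N ≤ P) (hxP : ∀ p ∈ P, x * p * x⁻¹ ∈ P)
    (h3P : ∀ p ∈ P, orderOf p ≠ 3) (hp2 : ∀ p ∈ P, p * p ∈ N) (hne : ∃ p ∈ P, p ∉ N) :
    (∀ a ∈ N, ∀ b ∈ N, a * b = b * a) ∧ ∀ n ∈ N, n * n = 1 := by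
  have hcl : ∀ a ∈ P, ∀ b ∈ P, ∀ c ∈ P, ⁅⁅a, b⁆, c⁆ = 1 := fun a ha b hb c hc =>
    Fpf3.class2 h.cube hxP (h.fpf h3P) ha hb hc
  -- abelian
  have hab : ∀ a ∈ N, ∀ b ∈ N, a * b = b * a := by
    let W : Subgroup G := N ⊓ Subgroup.centralizer (N : Set G)
    have hW : W.Normal := inferInstance
    let K : Subgroup G :=
      { carrier := {g | ∀ n ∈ N, n * g * n⁻¹ * g⁻¹ ∈ W}
        one_mem' := by
          intro n _
          have : n * 1 * n⁻¹ * 1⁻¹ = 1 := by group
          rw [this]; exact W.one_mem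
        mul_mem' := by
          intro a b ha hb n hn
          have : n * (a * b) * n⁻¹ * (a * b)⁻¹ = (n * a * n⁻¹ * a⁻¹) * (a * (n * b * n⁻¹ * b⁻¹) * a⁻¹) := by
            group
          rw [this]
          exact W.mul_mem (ha n hn) (hW.conj_mem _ (hb n hn) a)
        inv_mem' := by
          intro a ha n hn
          have : n * a⁻¹ * n⁻¹ * a⁻¹⁻¹ = a⁻¹ * (n * a * n⁻¹ * a⁻¹)⁻¹ * a⁻¹⁻¹ := by group
          rw [this]
          exact hW.conj_mem _ (W.inv_mem (ha n hn)) a⁻¹ }
    have hK : K.Normal := by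
      constructor
      intro k hk g n hn
      have h1 := hk (g⁻¹ * n * g) (by
        have := hN.conj_mem n hn g⁻¹
        rwa [inv_inv] at this)
      have h2 := hW.conj_mem _ h1 g
      have h4 : g * ((g⁻¹ * n * g) * k * (g⁻¹ * n * g)⁻¹ * k⁻¹) * g⁻¹ =
          n * (g * k * g⁻¹) * n⁻¹ * (g * k * g⁻¹)⁻¹ := by group
      rw [h4] at h2; exact h2
    have hPK : P ≤ K := by
      intro p hp n hn
      refine ⟨?_, ?_⟩
      · have h1 := N.mul_mem hn (hN.conj_mem _ (N.inv_mem hn) p)
        have h2 : n * (p * n⁻¹ * p⁻¹) = n * p * n⁻¹ * p⁻¹ := by group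
        rwa [h2] at h1
      · refine Subgroup.mem_centralizer_iff.2 ?_
        intro m hm
        have h1 := hcl n (hNP hn) p hp m (hNP hm)
        rw [commutatorElement_eq_one_iff_commute, commutatorElement_def] at h1
        exact h1.eq.symm
    obtain ⟨p, hpP, hpN⟩ := hne
    have htop := top_of_normal N K hK (hNP.trans hPK) (hPK hpP) hpN
    have hxK : x ∈ K := by rw [htop]; trivial
    intro a ha b hb
    obtain ⟨m, hm, hm2⟩ := Fpf3.exists_conj h.cube (fun n hn => hN.conj_mem n hn x) (h.fpf h3) ha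
    have h1 := hxK m hm
    have h2 : m * x * m⁻¹ * x⁻¹ = a := by rw [← hm2]; group
    rw [h2] at h1
    exact (Subgroup.mem_centralizer_iff.1 h1.2 b hb).symm
  refine ⟨hab, ?_⟩
  intro n hn
  apply gen h N h3 hNP hne (N.mul_mem hn hn)
  intro g p hp
  set k := g⁻¹ * n * g with hk
  have hkN : k ∈ N := by
    have := hN.conj_mem n hn g⁻¹
    rwa [inv_inv] at this
  have e1 : g⁻¹ * (n * n) * g = k * k := by rw [hk]; group
  rw [e1]
  -- c = [p, k], c ^ 2 = 1
  set c := ⁅p, k⁆ with hc
  have hkP := hNP hkN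
  have e2 : p * k * p⁻¹ = c * k := by rw [hc, commutatorElement_def]; group
  have cp : Commute c p := by
    have := hcl p hp k hkP p hp
    rwa [← hc, commutatorElement_eq_one_iff_commute] at this
  have ck : Commute c k := by
    have := hcl p hp k hkP k hkP
    rwa [← hc, commutatorElement_eq_one_iff_commute] at this
  have h5 : c * c = 1 := by
    have h6 : (p * p) * k * (p * p)⁻¹ = k := by
      rw [hab _ (hp2 p hp) k hkN]; group
    have h7 : (p * p) * k * (p * p)⁻¹ = c * c * k := by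
      calc (p * p) * k * (p * p)⁻¹ = p * (p * k * p⁻¹) * p⁻¹ := by group
        _ = (p * c) * k * p⁻¹ := by rw [e2]; group
        _ = (c * p) * k * p⁻¹ := by rw [cp.eq]
        _ = c * (p * k * p⁻¹) := by group
        _ = _ := by rw [e2]; group
    rw [h7] at h6
    exact mul_eq_right.1 h6
  have h8 : p * (k * k) * p⁻¹ = k * k := by
    calc p * (k * k) * p⁻¹ = (p * k * p⁻¹) * (p * k * p⁻¹) := by group
      _ = c * (k * c) * k := by rw [e2]; group
      _ = c * (c * k) * k := by rw [ck.eq]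
      _ = (c * c) * (k * k) := by group
      _ = _ := by rw [h5, one_mul]
  calc k * k * p = (p * (k * k) * p⁻¹) * p := by rw [h8]
    _ = _ := by group

include h h3 hs in
/-- With a group of order seven on top, `N` is trivial. -/
theorem red_triv {P : Subgroup G} (hNP : N ≤ P) (hxP : ∀ p ∈ P, x * p * x⁻¹ ∈ P)
    (h3P : ∀ p ∈ P, orderOf p ≠ 3) (hp7 : ∀ p ∈ P, p ^ 7 ∈ N) (hne : ∃ p ∈ P, p ∉ N)
    (hab : ∀ a ∈ N, ∀ b ∈ N, a * b = b * a) (hn2 : ∀ n ∈ N, n * n = 1) : N = ⊥ := by
  rw [Subgroup.eq_bot_iff_forall]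
  intro w hw
  apply gen h N h3 hNP hne hw
  intro g s hs'
  have hcl : ∀ a ∈ P, ∀ b ∈ P, ∀ c ∈ P, ⁅⁅a, b⁆, c⁆ = 1 := fun a ha b hb c hc =>
    Fpf3.class2 h.cube hxP (h.fpf h3P) ha hb hc
  have hkN : g⁻¹ * w * g ∈ N := by
    have := hN.conj_mem w hw g⁻¹
    rwa [inv_inv] at this
  refine comm_of_coprime' hcl (hNP hkN) hs' (m := 2) (n := 7) ?_ ?_ (by norm_num)
  · rw [sq, hn2 _ hkN, one_mul, mul_one]
  · exact hab _ hkN _ (hp7 s hs')

end Red

end Cfsg.Agent.H55.Three
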