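import Mathlib
import Cfsg.Agent.H64.Bend.Basic
import Cfsg.Agent.H33.Base

/-!
# "Lemma Q" (Bender)

`I` a set of involutions, `E = ⟨I⟩`, `K` transitive on `I`, `y` centralises `K`, `V` a nontrivial group of involutions
of `E` on which `y` acts fixed point freely.  Then `E` is a 2-group.
-/

set_option autoImplicit false
set_option linter.unusedSectionVars false
set_option linter.unusedVariables false

namespace Cfsg.Agent.H55.BQ

open Cfsg.Agent.H64.Bend
open Cfsg.Agent.H33 (IsSyl cj mem_cj cj_mul)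

variable {G : Type*} [Group G]

/-- for a finite subgroup on which `y` acts without fixed points, every element is a `[f, y]` -/
theorem lang [Finite G] {E : Subgroup G} {y : G} (hyE : ∀ e ∈ E, y * e * y⁻¹ ∈ E)
    (hfix : ∀ e ∈ E, e * y = y * e → e = 1) {x : G} (hx : x ∈ E) : ∃ f ∈ E, x * y = f * y * f⁻¹ := by
  let φ : E → E := fun f => ⟨(f : G) * (y * (f : G)⁻¹ * y⁻¹), E.mul_mem f.2 (hyE _ (E.inv_mem f.2))⟩
  have hinj : Function.Injective φ := by
    intro f g hfg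
    have h1 : (f : G) * (y * (f : G)⁻¹ * y⁻¹) = (g : G) * (y * (g : G)⁻¹ * y⁻¹) := congrArg Subtype.val hfg
    have h2 : ((g : G)⁻¹ * f) * y = y * ((g : G)⁻¹ * f) := by
      calc ((g : G)⁻¹ * f) * y = (g : G)⁻¹ * ((f : G) * (y * (f : G)⁻¹ * y⁻¹)) * y * f := by group
        _ = (g : G)⁻¹ * ((g : G) * (y * (g : G)⁻¹ * y⁻¹)) * y * f := by rw [h1]
        _ = y * ((g : G)⁻¹ * f) := by group
    have h3 := hfix _ (E.mul_mem (E.inv_mem g.2) f.2) h2
    exact Subtype.ext (inv_mul_eq_one.1 h3).symm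
  obtain ⟨f, hf⟩ := (Finite.injective_iff_surjective.1 hinj) ⟨x, hx⟩
  have h1 : (f : G) * (y * (f : G)⁻¹ * y⁻¹) = x := congrArg Subtype.val hf
  exact ⟨f, f.2, by rw [← h1]; group⟩

/-- conversely, if every `x y`, `x ∈ E`, is `E`-conjugate to `y`, then `y` has no fixed points on `E` -/
theorem lang_conv [Finite G] {E : Subgroup G} {y : G}
    (h : ∀ x ∈ E, ∃ f ∈ E, x * y = f * y * f⁻¹) : ∀ e ∈ E, e * y = y * e → e = 1 := by
  classical
  choose! f hf hfx using h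
  let φ : E → E := fun x => ⟨f x, hf x x.2⟩
  have hinj : Function.Injective φ := by
    intro x x' hxx
    have h1 : f (x : G) = f (x' : G) := congrArg Subtype.val hxx
    have h2 : (x : G) * y = x' * y := by rw [hfx x x.2, hfx x' x'.2, h1]
    exact Subtype.ext (mul_right_cancel h2)
  have hsurj := Finite.injective_iff_surjective.1 hinj
  intro e he hey
  obtain ⟨x, hx⟩ := hsurj 1
  obtain ⟨x', hx'⟩ := hsurj ⟨e, he⟩
  have h1 : f (x : G) = 1 := congrArg Subtype.val hx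
  have h2 : f (x' : G) = e := congrArg Subtype.val hx'
  have h3 : (x : G) * y = y := by rw [hfx x x.2, h1]; group
  have h4 : (x' : G) * y = y := by rw [hfx x' x'.2, h2, hey]; group
  have h5 : x = x' := Subtype.ext (mul_right_cancel (h3.trans h4.symm))
  rw [← h2, ← h5, h1]

/-- a group `E` with a fixed point free automorphism `y` has exactly one `y`-invariant Sylow `p`-subgroup -/
theorem unique_syl [Finite G] {p : ℕ} [hp : Fact p.Prime] {E : Subgroup G} {y : G} (hyE : cj y E = E)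
    (hfix : ∀ e ∈ E, e * y = y * e → e = 1) :
    ∃ S, IsSyl p S E ∧ cj y S = S ∧ ∀ T, IsSyl p T E → cj y T = T → T = S := by
  have hyE' : ∀ e ∈ E, y * e * y⁻¹ ∈ E := by
    intro e he
    rw [← hyE, mem_cj]
    have : y⁻¹ * (y * e * y⁻¹) * y = e := by group
    rw [this]
    exact he
  obtain ⟨R, hR⟩ := IsSyl.exists (p := p) E
  have hR2 : IsSyl p (cj y R) E := by
    have := hR.conj y
    rwa [hyE] at this
  obtain ⟨g, hg, hgR⟩ := hR2.conj_eq hR
  have key : ∃ S, IsSyl p S E ∧ cj y S = S := by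
    obtain ⟨f, hf, hfx⟩ := lang hyE' hfix (E.inv_mem hg)
    -- `g⁻¹ y = f y f⁻¹`
    refine ⟨cj f⁻¹ R, ?_, ?_⟩
    · have h1 := hR.conj f⁻¹
      have h2 : cj f⁻¹ E = E := by
        ext x
        rw [mem_cj, inv_inv]
        constructor
        · intro h
          have := E.mul_mem (E.mul_mem (E.inv_mem hf) h) hf
          have e : f⁻¹ * (f * x * f⁻¹) * f = x := by group
          rwa [e] at this
        · intro h
          exact E.mul_mem (E.mul_mem hf h) (E.inv_mem hf)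
      rwa [h2] at h1
    · have h1 : y * f⁻¹ = f⁻¹ * (g⁻¹ * y) := by rw [hfx]; group
      rw [← cj_mul, h1, cj_mul, cj_mul, ← hgR, ← cj_mul g⁻¹ g, inv_mul_cancel, Cfsg.Agent.H33.cj_one]
  obtain ⟨S, hS, hyS⟩ := key
  refine ⟨S, hS, hyS, ?_⟩
  intro T hT hyT
  obtain ⟨g, hg, hgT⟩ := hT.conj_eq hS
  have h1 : cj (g⁻¹ * y * g * y⁻¹) S = S := by
    have e1 : cj y⁻¹ S = S := by
      have h2 : cj y⁻¹ (cj y S) = S := Cfsg.Agent.H33.cj_inv_cj y S
      rwa [hyS] at h2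
    rw [cj_mul, e1, cj_mul, cj_mul, hgT, hyT, ← hgT, ← cj_mul, inv_mul_cancel, Cfsg.Agent.H33.cj_one]
  -- apply `lang` to the normaliser of `S` in `E`
  let N : Subgroup G := E ⊓ Subgroup.normalizer (S : Set G)
  have hmemN : ∀ x : G, x ∈ N ↔ x ∈ E ∧ cj x S = S := by
    intro x
    refine ⟨fun h => ⟨h.1, ?_⟩, fun h => ⟨h.1, ?_⟩⟩
    · ext z
      rw [mem_cj]
      have := (Subgroup.mem_normalizer_iff.1 (Subgroup.inv_mem _ h.2)) z
      rw [inv_inv] at this
      exact this.symm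
    · change x ∈ Subgroup.normalizer (S : Set G)
      rw [Subgroup.mem_normalizer_iff]
      intro z
      have h2 := h.2
      have e : x⁻¹ * (x * z * x⁻¹) * x = z := by group
      constructor
      · intro hz
        rw [← h2, mem_cj, e]
        exact hz
      · intro hz
        rw [← h2, mem_cj, e] at hz
        exact hz
  have hyN : ∀ e ∈ N, y * e * y⁻¹ ∈ N := by
    intro e he
    rw [hmemN] at he ⊢
    refine ⟨hyE' e he.1, ?_⟩
    have e1 : cj y⁻¹ S = S := by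
      have h2 : cj y⁻¹ (cj y S) = S := Cfsg.Agent.H33.cj_inv_cj y S
      rwa [hyS] at h2
    rw [cj_mul, cj_mul, e1, he.2, hyS]
  have hx : g⁻¹ * y * g * y⁻¹ ∈ N := by
    rw [hmemN]
    refine ⟨?_, h1⟩
    have e : g⁻¹ * y * g * y⁻¹ = g⁻¹ * (y * g * y⁻¹) := by group
    rw [e]
    exact E.mul_mem (E.inv_mem hg) (hyE' g hg)
  obtain ⟨f, hf, hfx⟩ := lang hyN (fun e he => hfix e he.1) hx
  -- `g⁻¹ y g = f y f⁻¹`
  have h3 : g⁻¹ * y * g = f * y * f⁻¹ := by rw [← hfx]; group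
  have h4 : (g * f) * y = y * (g * f) := by
    calc (g * f) * y = g * (f * y * f⁻¹) * f := by group
      _ = g * (g⁻¹ * y * g) * f := by rw [h3]
      _ = y * (g * f) := by group
  have hfN := (hmemN f).1 hf
  have h5 := hfix _ (E.mul_mem hg hfN.1) h4
  have h6 : g = f⁻¹ := mul_eq_one_iff_eq_inv.1 h5
  rw [← hgT, h6]
  have h7 : cj f⁻¹ (cj f S) = S := Cfsg.Agent.H33.cj_inv_cj f S
  rwa [hfN.2] at h7

structure QS (I : Set G) (K V : Subgroup G) (y : G) : Prop where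
  iv : ∀ t ∈ I, Iv t
  all : ∀ t ∈ Subgroup.closure I, Iv t → t ∈ I
  Kn : ∀ k ∈ K, ∀ t ∈ I, k * t * k⁻¹ ∈ I
  Kt : ∀ s ∈ I, ∀ t ∈ I, ∃ k ∈ K, k * s * k⁻¹ = t
  Ky : ∀ k ∈ K, k * y = y * k
  yn : ∀ t ∈ I, y * t * y⁻¹ ∈ I
  VI : ∀ v ∈ V, v ≠ 1 → v ∈ I
  Vy : ∀ v ∈ V, y * v * y⁻¹ ∈ V
  Vf : ∀ v ∈ V, v * y = y * v → v = 1
  Vn : V ≠ ⊥

namespace QS

variable {I : Set G} {K V : Subgroup G} {y : G} (Q : QS I K V y)
include Q

theorem norm_closure {g : G} (h : ∀ t ∈ I, g * t * g⁻¹ ∈ I) {x : G} (hx : x ∈ Subgroup.closure I) :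
    g * x * g⁻¹ ∈ Subgroup.closure I := by
  refine Subgroup.closure_induction (p := fun x _ => g * x * g⁻¹ ∈ Subgroup.closure I) ?_ ?_ ?_ ?_ hx
  · intro t ht
    exact Subgroup.subset_closure (h t ht)
  · have : g * 1 * g⁻¹ = 1 := by group
    rw [this]
    exact Subgroup.one_mem _
  · intro a b _ _ ha hb
    have : g * (a * b) * g⁻¹ = (g * a * g⁻¹) * (g * b * g⁻¹) := by group
    rw [this]
    exact Subgroup.mul_mem _ ha hb
  · intro a _ ha
    have : g * a⁻¹ * g⁻¹ = (g * a * g⁻¹)⁻¹ := by group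
    rw [this]
    exact Subgroup.inv_mem _ ha

theorem conj_mem {g : G} (hg : g ∈ Subgroup.closure I) {t : G} (ht : t ∈ I) : g * t * g⁻¹ ∈ I := by
  refine Q.all _ ?_ ((Q.iv t ht).conj g)
  exact Subgroup.mul_mem _ (Subgroup.mul_mem _ hg (Subgroup.subset_closure ht)) (Subgroup.inv_mem _ hg)

theorem V_le : V ≤ Subgroup.closure I := by
  intro v hv
  by_cases h : v = 1
  · rw [h]; exact Subgroup.one_mem _
  · exact Subgroup.subset_closure (Q.VI v hv h)

theorem step1 [Finite G] {t : G} (ht : t ∈ I) : ∃ f ∈ Subgroup.closure I, t * y = f * y * f⁻¹ := by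
  obtain ⟨⟨v, hv⟩, hv1⟩ := (Subgroup.ne_bot_iff_exists_ne_one.1 Q.Vn)
  have hv1' : v ≠ 1 := fun h => hv1 (Subtype.ext h)
  obtain ⟨f, hf, hfx⟩ := lang Q.Vy Q.Vf hv
  obtain ⟨k, hk, hkt⟩ := Q.Kt v (Q.VI v hv hv1') t ht
  refine ⟨k * f * k⁻¹, Q.norm_closure (Q.Kn k hk) (Q.V_le hf), ?_⟩
  have h1 : k⁻¹ * y = y * k⁻¹ := by
    have := Q.Ky k hk
    calc k⁻¹ * y = k⁻¹ * (y * k) * k⁻¹ := by group
      _ = k⁻¹ * (k * y) * k⁻¹ := by rw [this]
      _ = y * k⁻¹ := by group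
  calc t * y = k * v * k⁻¹ * y := by rw [hkt]
    _ = k * (v * (k⁻¹ * y)) := by group
    _ = k * ((v * y) * k⁻¹) := by rw [h1]; group
    _ = k * ((f * y * f⁻¹) * k⁻¹) := by rw [hfx]
    _ = (k * f) * (y * k⁻¹) * k * f⁻¹ * k⁻¹ := by group
    _ = (k * f) * (k⁻¹ * y) * k * f⁻¹ * k⁻¹ := by rw [h1]
    _ = k * f * k⁻¹ * y * (k * f * k⁻¹)⁻¹ := by group

theorem step2 [Finite G] {x : G} (hx : x ∈ Subgroup.closure I) : ∃ f ∈ Subgroup.closure I, x * y = f * y * f⁻¹ := by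
  refine Subgroup.closure_induction_left (p := fun x _ => ∃ f ∈ Subgroup.closure I, x * y = f * y * f⁻¹) ?_ ?_ ?_ hx
  · exact ⟨1, Subgroup.one_mem _, by group⟩
  · rintro t ht x hx ⟨f, hf, hfx⟩
    have h1 : f⁻¹ * t * f ∈ I := by
      have := Q.conj_mem (Subgroup.inv_mem _ hf) ht
      rwa [inv_inv] at this
    obtain ⟨g, hg, hgx⟩ := Q.step1 h1
    refine ⟨f * g, Subgroup.mul_mem _ hf hg, ?_⟩
    calc t * x * y = t * (x * y) := by group
      _ = f * ((f⁻¹ * t * f) * y) * f⁻¹ := by rw [hfx]; group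
      _ = f * g * y * (f * g)⁻¹ := by rw [hgx]; group
  · rintro t ht x hx ⟨f, hf, hfx⟩
    rw [(Q.iv t ht).inv]
    have h1 : f⁻¹ * t * f ∈ I := by
      have := Q.conj_mem (Subgroup.inv_mem _ hf) ht
      rwa [inv_inv] at this
    obtain ⟨g, hg, hgx⟩ := Q.step1 h1
    refine ⟨f * g, Subgroup.mul_mem _ hf hg, ?_⟩
    calc t * x * y = t * (x * y) := by group
      _ = f * ((f⁻¹ * t * f) * y) * f⁻¹ := by rw [hfx]; group
      _ = f * g * y * (f * g)⁻¹ := by rw [hgx]; group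

/-- the main conclusion: `⟨I⟩` is a 2-group -/
theorem two_group [Finite G] : IsPGroup 2 ↥(Subgroup.closure I) := by
  haveI : Fact (Nat.Prime 2) := ⟨Nat.prime_two⟩
  have hfix := lang_conv (E := Subgroup.closure I) (y := y) (fun x hx => Q.step2 hx)
  have hcy : cj y (Subgroup.closure I) = Subgroup.closure I := by
    refine Cfsg.Agent.H33.cj_eq_of_le ?_
    rw [Cfsg.Agent.H33.cj_le_iff]
    intro x hx
    exact Q.norm_closure Q.yn hx
  obtain ⟨S, hS, hyS, huniq⟩ := unique_syl (p := 2) hcy hfix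
  have hKS : ∀ k ∈ K, cj k S = S := by
    intro k hk
    refine huniq _ ?_ ?_
    · have h1 := hS.conj k
      have h2 : cj k (Subgroup.closure I) = Subgroup.closure I := by
        refine Cfsg.Agent.H33.cj_eq_of_le ?_
        rw [Cfsg.Agent.H33.cj_le_iff]
        intro x hx
        exact Q.norm_closure (Q.Kn k hk) hx
      rwa [h2] at h1
    · rw [← cj_mul, ← Q.Ky k hk, cj_mul, hyS]
  -- an element of `I` in `S`
  obtain ⟨⟨v, hv⟩, hv1⟩ := (Subgroup.ne_bot_iff_exists_ne_one.1 Q.Vn)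
  have hv1' : v ≠ 1 := fun h => hv1 (Subtype.ext h)
  have hvI := Q.VI v hv hv1'
  have hvE : v ∈ Subgroup.closure I := Subgroup.subset_closure hvI
  have hvp : IsPGroup 2 ↥(Subgroup.zpowers v) := by
    rw [IsPGroup.iff_card]
    refine ⟨1, ?_⟩
    rw [Nat.card_zpowers, iv_iff.1 (Q.iv v hvI), pow_one]
  obtain ⟨g, hg, hgS⟩ := hS.conj_le (R := Subgroup.zpowers v) (by rwa [Subgroup.zpowers_le]) hvp
  have hs : ∃ s ∈ S, s ∈ I := by
    refine ⟨g * v * g⁻¹, ?_, Q.conj_mem hg hvI⟩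
    apply hgS
    rw [mem_cj]
    have e : g⁻¹ * (g * v * g⁻¹) * g = v := by group
    rw [e]
    exact Subgroup.mem_zpowers v
  obtain ⟨s, hsS, hsI⟩ := hs
  have hle : Subgroup.closure I ≤ S := by
    rw [Subgroup.closure_le]
    intro t ht
    obtain ⟨k, hk, hkt⟩ := Q.Kt s hsI t ht
    have : k * s * k⁻¹ ∈ cj k S := by
      rw [mem_cj]
      have e : k⁻¹ * (k * s * k⁻¹) * k = s := by group
      rw [e]
      exact hsS
    rw [hKS k hk, hkt] at this
    exact this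
  exact hS.2.1.to_le hle

/-- the elements of `I` commute -/
theorem comm [Finite G] : ∀ s ∈ I, ∀ t ∈ I, s * t = t * s := by
  classical
  haveI : Fact (Nat.Prime 2) := ⟨Nat.prime_two⟩
  have h2 := Q.two_group
  obtain ⟨⟨v, hv⟩, hv1⟩ := (Subgroup.ne_bot_iff_exists_ne_one.1 Q.Vn)
  have hv1' : v ≠ 1 := fun h => hv1 (Subtype.ext h)
  have hvI := Q.VI v hv hv1'
  have hvE : v ∈ Subgroup.closure I := Subgroup.subset_closure hvI
  have : Nontrivial ↥(Subgroup.closure I) := ⟨⟨⟨v, hvE⟩, 1, fun h => hv1' (congrArg Subtype.val h)⟩⟩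
  have hZ := h2.center_nontrivial
  -- an involution in the centre
  have hZ2 : IsPGroup 2 ↥(Subgroup.center ↥(Subgroup.closure I)) := h2.to_subgroup _
  obtain ⟨z, hz⟩ := exists_prime_orderOf_dvd_card' (G := ↥(Subgroup.center ↥(Subgroup.closure I))) 2 (by
    obtain ⟨n, hn⟩ := (IsPGroup.iff_card.1 hZ2)
    rw [hn]
    refine dvd_pow_self 2 ?_
    rintro rfl
    rw [pow_zero] at hn
    haveI := (Nat.card_eq_one_iff_unique.1 hn).1
    exact not_subsingleton _ (inferInstance : Subsingleton ↥(Subgroup.center ↥(Subgroup.closure I))))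
  have hz' : orderOf (((z : ↥(Subgroup.closure I))) : G) = 2 := by
    rw [Subgroup.orderOf_coe, Subgroup.orderOf_coe]
    exact hz
  set w : G := ((z : ↥(Subgroup.closure I)) : G) with hw
  have hwI : w ∈ I := Q.all w (z : ↥(Subgroup.closure I)).2 (iv_iff.2 hz')
  have hwc : ∀ t ∈ I, w * t = t * w := by
    intro t ht
    have h3 := Subgroup.mem_center_iff.1 z.2 ⟨t, Subgroup.subset_closure ht⟩
    have h4 := congrArg Subtype.val h3
    exact h4.symm
  intro s hs t ht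
  obtain ⟨k, hk, hks⟩ := Q.Kt w hwI s hs
  have h5 : k⁻¹ * t * k ∈ I := by
    have := Q.Kn k⁻¹ (K.inv_mem hk) t ht
    rwa [inv_inv] at this
  have h6 := hwc _ h5
  calc s * t = k * (w * (k⁻¹ * t * k)) * k⁻¹ := by rw [← hks]; group
    _ = k * ((k⁻¹ * t * k) * w) * k⁻¹ := by rw [h6]
    _ = t * s := by rw [← hks]; group

end QS

end Cfsg.Agent.H55.BQ
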