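import Mathlib
import Cfsg.Agent.H55.BswM

set_option autoImplicit false
set_option linter.style.haveILetI false
set_option linter.unusedSectionVars false

/-!
# The case `q = 2k-1` of the Brauer–Suzuki–Wall theorem, II: the Sylow `r`-subgroups
-/

namespace Cfsg.Agent.H55.BswGrp

open Cfsg.Agent.CharBase

universe u

namespace MD

variable {G : Type u} [Group G] [Finite G] {t s : G} {K : Subgroup G} {m : ℕ} (h : MD t s K m)

include h

theorem UU_of_order {z : G} (hz1 : z ≠ 1) (hz : orderOf z ∣ 2 * m + 1) : UU K z := by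
  have h0 : orderOf z ≠ 1 := fun e => hz1 (orderOf_eq_one_iff.1 e)
  have hzK : ¬ KK K z := by
    rintro ⟨a, ha, ha1, hc⟩
    obtain ⟨g, rfl⟩ := isConj_iff.1 hc
    rw [orderOf_conj] at h0 hz
    have h1 : orderOf a ∣ m + 1 := by rw [← h.km]; exact Subgroup.orderOf_dvd_natCard K ha
    apply h0
    apply Nat.dvd_one.1
    have h2 : orderOf a ∣ 2 * m + 1 + 1 := by
      have : 2 * m + 1 + 1 = 2 * (m + 1) := by ring
      rw [this]; exact dvd_mul_of_dvd_right h1 2
    exact (Nat.dvd_add_right hz).1 h2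
  refine ⟨hz1, hzK, ?_⟩
  rcases h.nI z hz1 hzK with h1 | h1
  · exact h1
  · exfalso
    have hm := h.mpos
    obtain ⟨u, hu, huz⟩ := exists_of_nI (x := z) (by rw [h1]; omega)
    have h2 := h.sd.nI_eq hz1 hzK hu huz
    have h3 : orderOf z ∣ m := by
      rw [← h1, h2]
      exact Subgroup.orderOf_dvd_natCard _ (mem_cen.2 rfl)
    apply h0
    apply Nat.dvd_one.1
    exact (Nat.dvd_add_right (dvd_mul_of_dvd_right h3 2)).1 hz

theorem cen_UU {x : G} (hx : UU K x) {z : G} (hz : z ∈ Subgroup.centralizer ({x} : Set G))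
    (hz1 : z ≠ 1) : UU K z := by
  apply h.UU_of_order hz1
  rw [← h.cen_card x hx]
  exact Subgroup.orderOf_dvd_natCard _ hz

theorem exists_UU : ∃ x : G, UU K x := by
  have h1 : 0 < Nat.card {g : G // UU K g} := by
    rw [h.card]
    have hm := h.mpos
    have : 3 ^ 2 ≤ (2 * m + 1) ^ 2 := Nat.pow_le_pow_left (by omega) 2
    omega
  obtain ⟨⟨x, hx⟩⟩ := (Nat.card_pos_iff.1 h1).1
  exact ⟨x, hx⟩

theorem exists_r : ∃ r : ℕ, r.Prime ∧ r ∣ 2 * m + 1 ∧ ∀ x, UU K x → orderOf x = r := by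
  have hm := h.mpos
  obtain ⟨x0, hx0⟩ := h.exists_UU
  obtain ⟨r, hr, hrd⟩ := Nat.exists_prime_and_dvd (show 2 * m + 1 ≠ 1 by omega)
  refine ⟨r, hr, hrd, ?_⟩
  haveI : Fact r.Prime := ⟨hr⟩
  obtain ⟨z, hz⟩ := exists_prime_orderOf_dvd_card' r
    (show r ∣ Nat.card (Subgroup.centralizer ({x0} : Set G)) by rw [h.cen_card x0 hx0]; exact hrd)
  have hzo : orderOf (z : G) = r := by rw [Subgroup.orderOf_coe, hz]
  have hz1 : (z : G) ≠ 1 := by
    intro e; rw [e, orderOf_one] at hzo; exact hr.one_lt.ne hzo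
  have hzU := h.cen_UU hx0 z.2 hz1
  intro x hx
  rcases h.all_conj z hzU x hx with hc | hc
  · obtain ⟨g, rfl⟩ := isConj_iff.1 hc
    rw [orderOf_conj, hzo]
  · obtain ⟨g, rfl⟩ := isConj_iff.1 hc
    rw [orderOf_conj, orderOf_inv, hzo]

section Sy

variable {r : ℕ} [hrp : Fact r.Prime] (hr : r ∣ 2 * m + 1) (hU : ∀ x : G, UU K x → orderOf x = r)

include hr hU

theorem isPGroup_cen {x : G} (hx : UU K x) : IsPGroup r (Subgroup.centralizer ({x} : Set G)) := by
  rintro ⟨y, hy⟩
  refine ⟨1, ?_⟩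
  apply Subtype.ext
  show y ^ r ^ 1 = 1
  rw [pow_one]
  by_cases hy1 : y = 1
  · rw [hy1, one_pow]
  · rw [← hU y (h.cen_UU hx hy hy1)]
    exact pow_orderOf_eq_one y

theorem sylow_card (R : Sylow r G) : Nat.card (R : Subgroup G) = 2 * m + 1 := by
  obtain ⟨x0, hx0⟩ := h.exists_UU
  obtain ⟨S, hS⟩ := (h.isPGroup_cen hr hU hx0).exists_le_sylow
  have h1 : 2 * m + 1 ≤ Nat.card (S : Subgroup G) := by
    rw [← h.cen_card x0 hx0]
    exact Subgroup.card_le_of_le hS
  have h2 : Nat.card (S : Subgroup G) ∣ 2 * m + 1 := by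
    obtain ⟨n, hn⟩ := S.isPGroup'.exists_card_eq
    have h3 : Nat.card (S : Subgroup G) ∣ (2 * (m + 1) * m) * (2 * m + 1) := by
      have : (2 * (m + 1) * m) * (2 * m + 1) = Nat.card G := by rw [h.cardG]; ring
      rw [this]; exact Subgroup.card_subgroup_dvd_card _
    refine Nat.Coprime.dvd_of_dvd_mul_left ?_ h3
    rw [hn]
    apply Nat.Coprime.pow_left
    rw [Nat.Prime.coprime_iff_not_dvd hrp.out]
    intro h4
    rcases hrp.out.dvd_mul.1 h4 with h5 | h5
    · exact h.coprime_aux hrp.out ⟨h5, dvd_mul_of_dvd_left hr m⟩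
    · exact h.coprime_aux2 hrp.out ⟨h5, dvd_mul_of_dvd_right hr _⟩
  have h3 : Nat.card (S : Subgroup G) = 2 * m + 1 := le_antisymm (Nat.le_of_dvd (by omega) h2) h1
  rw [← h3, R.card_eq_multiplicity, S.card_eq_multiplicity]

theorem sylow_UU (R : Sylow r G) {z : G} (hz : z ∈ (R : Subgroup G)) (hz1 : z ≠ 1) : UU K z := by
  apply h.UU_of_order hz1
  rw [← h.sylow_card hr hU R]
  exact Subgroup.orderOf_dvd_natCard _ hz

theorem exists_sylow_eq_cen {x : G} (hx : UU K x) :
    ∃ S : Sylow r G, (S : Subgroup G) = Subgroup.centralizer ({x} : Set G) := by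
  obtain ⟨S, hS⟩ := (h.isPGroup_cen hr hU hx).exists_le_sylow
  refine ⟨S, ?_⟩
  symm
  apply Subgroup.eq_of_le_of_card_ge hS
  rw [h.sylow_card hr hU S, h.cen_card x hx]

theorem inf_smul (R : Sylow r G) {v : G} (hv : orderOf v = 2) :
    (R : Subgroup G) ⊓ ((v • R : Sylow r G) : Subgroup G) = ⊥ := by
  have hvi := inv_self_of hv
  have hinv := inverts ((R : Subgroup G) ⊓ ((v • R : Sylow r G) : Subgroup G)) (sq_one_of_order hv)
    (by
      intro c hc
      obtain ⟨hc1, hc2⟩ := Subgroup.mem_inf.1 hc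
      rw [mem_sylow_smul] at hc2
      refine Subgroup.mem_inf.2 ⟨?_, ?_⟩
      · rw [hvi] at hc2 ⊢; exact hc2
      · rw [mem_sylow_smul]
        have : v⁻¹ * (v * c * v⁻¹) * v = c := by group
        rw [this]; exact hc1)
    (by
      intro c hc hcv
      obtain ⟨hc1, hc2⟩ := Subgroup.mem_inf.1 hc
      by_contra hcne
      apply h.not_commute (h.sylow_UU hr hU R hc1 hcne) hv
      calc c * v = (v * c * v⁻¹) * v := by rw [hcv]
        _ = v * c := by group)
  rw [eq_bot_iff]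
  intro z hz
  rw [Subgroup.mem_bot]
  by_contra hz1
  exact h.not_inverted (h.sylow_UU hr hU R (Subgroup.mem_inf.1 hz).1 hz1) hv (hinv.1 z hz)

/-- The number of Sylow subgroups containing an element. -/
noncomputable def nS (r : ℕ) (x : G) : ℕ := Nat.card {R : Sylow r G // x ∈ (R : Subgroup G)}

omit hr hU h [Finite G] hrp in
theorem nS_conj (g x : G) : nS r (g * x * g⁻¹) = nS r x := by
  unfold nS
  symm
  apply Nat.card_congr
  refine Equiv.subtypeEquiv (MulAction.toPerm g) (fun R => ?_)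
  rw [MulAction.toPerm_apply, mem_sylow_smul]
  have : g⁻¹ * (g * x * g⁻¹) * g = x := by group
  rw [this]

omit hr hU h [Finite G] hrp in
theorem nS_inv (x : G) : nS r x⁻¹ = nS r x := by
  unfold nS
  apply Nat.card_congr
  exact Equiv.subtypeEquivRight (fun R => inv_mem_iff)

theorem exists_d : ∃ d : ℕ, 0 < d ∧ (∀ x : G, UU K x → nS r x = d) ∧
    Nat.card (Sylow r G) = 2 * (m + 1) * d := by
  classical
  obtain ⟨x0, hx0⟩ := h.exists_UU
  have hm := h.mpos
  have hconst : ∀ x : G, UU K x → nS r x = nS r x0 := by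
    intro x hx
    rcases h.all_conj x0 hx0 x hx with hc | hc
    · obtain ⟨g, rfl⟩ := isConj_iff.1 hc
      rw [nS_conj]
    · obtain ⟨g, rfl⟩ := isConj_iff.1 hc
      rw [nS_conj, nS_inv]
  refine ⟨nS r x0, ?_, hconst, ?_⟩
  · obtain ⟨S, hS⟩ := h.exists_sylow_eq_cen hr hU hx0
    haveI : Nonempty {R : Sylow r G // x0 ∈ (R : Subgroup G)} := ⟨⟨S, by
      rw [hS]; exact mem_cen.2 rfl⟩⟩
    exact Nat.card_pos
  · -- double counting
    let A := {p : G × Sylow r G // p.1 ≠ 1 ∧ p.1 ∈ (p.2 : Subgroup G)}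
    let f1 : A → {g : G // UU K g} := fun p => ⟨p.1.1, h.sylow_UU hr hU p.1.2 p.2.2 p.2.1⟩
    let f2 : A → Sylow r G := fun p => p.1.2
    have c1 := card_fibre f1 (nS r x0) (by
      rintro ⟨x, hx⟩
      rw [← hconst x hx]
      unfold nS
      refine Nat.card_congr
        { toFun := fun a => ⟨a.1.1.2, ?_⟩
          invFun := fun R => ⟨⟨⟨x, R.1⟩, hx.1, R.2⟩, rfl⟩
          left_inv := ?_
          right_inv := ?_ }
      · have e : a.1.1.1 = x := congrArg Subtype.val a.2
        have := a.1.2.2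
        rw [e] at this
        exact this
      · rintro ⟨⟨⟨y, R⟩, hy⟩, e⟩
        have e1 : y = x := congrArg Subtype.val e
        subst e1
        rfl
      · rintro ⟨R, hR⟩; rfl)
    have c2 := card_fibre f2 (2 * m) (by
      intro R
      have : 2 * m = Nat.card {x : (R : Subgroup G) // x ≠ 1} := by
        rw [card_ne_one, h.sylow_card hr hU R]; omega
      rw [this]
      refine Nat.card_congr
        { toFun := fun a => ⟨⟨a.1.1.1, ?_⟩, ?_⟩
          invFun := fun x => ⟨⟨⟨x.1, R⟩, fun e => x.2 (Subtype.ext e), x.1.2⟩, rfl⟩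
          left_inv := ?_
          right_inv := ?_ }
      · have e : a.1.1.2 = R := a.2
        have := a.1.2.2
        rw [e] at this
        exact this
      · intro e
        exact a.1.2.1 (congrArg Subtype.val e)
      · rintro ⟨⟨⟨y, R'⟩, hy⟩, e⟩
        have e1 : R' = R := e
        subst e1
        rfl
      · rintro ⟨⟨x, hx⟩, hx1⟩; rfl)
    rw [c1, h.card] at c2
    have h3 : (2 * m + 1) ^ 2 - 1 = 2 * m * (2 * (m + 1)) := by
      have : (2 * m + 1) ^ 2 = 2 * m * (2 * (m + 1)) + 1 := by ring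
      omega
    rw [h3] at c2
    apply Nat.eq_of_mul_eq_mul_right (show 0 < 2 * m by omega)
    rw [← c2]; ring

end Sy

end MD

end Cfsg.Agent.H55.BswGrp
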