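import Mathlib
import Cfsg.Agent.H55.BswM2

set_option autoImplicit false
set_option linter.style.haveILetI false
set_option linter.unusedSectionVars false

/-!
# The case `q = 2k-1` of the Brauer–Suzuki–Wall theorem, III: conclusion
-/

namespace Cfsg.Agent.H55.BswGrp

open Cfsg.Agent.CharBase

universe u

theorem smul_eq_iff {G : Type u} [Group G] {r : ℕ} (R : Sylow r G) (g : G) :
    g • R = R ↔ g ∈ Subgroup.normalizer ((R : Subgroup G) : Set G) :=
  Sylow.smul_eq_iff_mem_normalizer

namespace MD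

variable {G : Type u} [Group G] [Finite G] {t s : G} {K : Subgroup G} {m : ℕ} (h : MD t s K m)

section Sy

variable {r : ℕ} [hrp : Fact r.Prime] (hr : r ∣ 2 * m + 1) (hU : ∀ x : G, UU K x → orderOf x = r)

/-- The stabilizer of two Sylow subgroups. -/
def MM (R R' : Sylow r G) : Subgroup G :=
  Subgroup.normalizer ((R : Subgroup G) : Set G) ⊓ Subgroup.normalizer ((R' : Subgroup G) : Set G)

omit hrp [Finite G] in
theorem mem_MM {R R' : Sylow r G} {g : G} : g ∈ MM R R' ↔ g • R = R ∧ g • R' = R' := by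
  unfold MM
  rw [Subgroup.mem_inf, smul_eq_iff, smul_eq_iff]

include h hr hU

omit h hU hr [Finite G] hrp in
theorem inf_norm (R R' : Sylow r G) (hRR : (R : Subgroup G) ⊓ (R' : Subgroup G) = ⊥) {y : G}
    (hy : y ∈ (R : Subgroup G)) (hyN : y • R' = R') : y = 1 := by
  have h1 := R.isPGroup'.inf_normalizer_sylow R'
  have h2 : y ∈ (R : Subgroup G) ⊓ Subgroup.normalizer ((R' : Subgroup G) : Set G) :=
    Subgroup.mem_inf.2 ⟨hy, (smul_eq_iff R' y).1 hyN⟩
  have h3 : y ∈ (R : Subgroup G) ⊓ (R' : Subgroup G) := by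
    have h4 : (R : Subgroup G) ⊓ Subgroup.normalizer ((R' : Subgroup G) : Set G) =
      (R : Subgroup G) ⊓ (R' : Subgroup G) := h1
    rw [← h4]; exact h2
  rw [hRR, Subgroup.mem_bot] at h3
  exact h3

omit h hU hr [Finite G] hrp in
theorem inf_MM (R R' : Sylow r G) (hRR : (R : Subgroup G) ⊓ (R' : Subgroup G) = ⊥) {y : G}
    (hy : y ∈ (R : Subgroup G)) (hyM : y ∈ MM R R') : y = 1 :=
  inf_norm R R' hRR hy (mem_MM.1 hyM).2

/-- product map -/
theorem MM_card (R R' : Sylow r G) (hRR : (R : Subgroup G) ⊓ (R' : Subgroup G) = ⊥) :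
    (2 * m + 1) * Nat.card (MM R R') ≤
      Nat.card (Subgroup.normalizer ((R : Subgroup G) : Set G)) := by
  rw [← h.sylow_card hr hU R, ← Nat.card_prod]
  have hmem : ∀ p : ↥(R : Subgroup G) × MM R R', (p.1 : G) * p.2 ∈
      Subgroup.normalizer ((R : Subgroup G) : Set G) := by
    intro p
    exact Subgroup.mul_mem _ (Subgroup.le_normalizer p.1.2) (Subgroup.mem_inf.1 p.2.2).1
  refine Nat.card_le_card_of_injective (fun p : ↥(R : Subgroup G) × MM R R' =>
    (⟨(p.1 : G) * p.2, hmem p⟩ : Subgroup.normalizer ((R : Subgroup G) : Set G))) ?_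
  rintro ⟨⟨a, ha⟩, ⟨b, hb⟩⟩ ⟨⟨a', ha'⟩, ⟨b', hb'⟩⟩ e
  have e1 : a * b = a' * b' := congrArg (fun z :
    Subgroup.normalizer ((R : Subgroup G) : Set G) => (z : G)) e
  have e2 : a'⁻¹ * a = b' * b⁻¹ := by
    calc a'⁻¹ * a = a'⁻¹ * (a * b) * b⁻¹ := by group
      _ = b' * b⁻¹ := by rw [e1]; group
  have h1 : a'⁻¹ * a ∈ (R : Subgroup G) := Subgroup.mul_mem _ (Subgroup.inv_mem _ ha') ha
  have h2 : a'⁻¹ * a ∈ MM R R' := by rw [e2]; exact Subgroup.mul_mem _ hb' (Subgroup.inv_mem _ hb)
  have h3 := inf_MM R R' hRR h1 h2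
  have h4 : a' = a := inv_mul_eq_one.1 h3
  have h5 : b' = b := by
    rw [h3] at e2
    exact (mul_inv_eq_one.1 e2.symm)
  subst h4; subst h5; rfl

/-- The involutions mapping `R` to `R'`. -/
def II (R R' : Sylow r G) : Type u := {v : G // orderOf v = 2 ∧ v • R = R'}

omit h hU hr hrp in
instance (R R' : Sylow r G) : Finite (II R R') := inferInstanceAs (Finite {v : G // orderOf v = 2 ∧ v • R = R'})

omit h hU hr [Finite G] hrp in
theorem swap {R R' : Sylow r G} {v : G} (hv : orderOf v = 2) (hR : v • R = R') : v • R' = R := by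
  rw [← hR, smul_smul, sq_one_of_order hv, one_smul]

omit h hU hr [Finite G] hrp in
theorem II_mem {R R' : Sylow r G} {v0 v : G} (hv0 : orderOf v0 = 2) (hR0 : v0 • R = R')
    (hv : orderOf v = 2) (hR : v • R = R') : v0 * v ∈ MM R R' := by
  rw [mem_MM, mul_smul, mul_smul, hR, swap hv0 hR0, swap hv hR, hR0]
  exact ⟨rfl, rfl⟩

omit h hU hr hrp in
theorem II_card {R R' : Sylow r G} {v0 : G} (hv0 : orderOf v0 = 2) (hR0 : v0 • R = R') :
    Nat.card (II R R') ≤ Nat.card (MM R R') := by
  refine Nat.card_le_card_of_injective (fun v : II R R' => (⟨v0 * v.1, II_mem hv0 hR0 v.2.1 v.2.2⟩ :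
    MM R R')) ?_
  intro a b e
  have e1 : v0 * a.1 = v0 * b.1 := congrArg (fun z : MM R R' => (z : G)) e
  exact Subtype.ext (mul_left_cancel e1)

theorem normalizer_card {d : ℕ} (hd : Nat.card (Sylow r G) = 2 * (m + 1) * d) (R : Sylow r G) :
    Nat.card (Subgroup.normalizer ((R : Subgroup G) : Set G)) * d = (2 * m + 1) * m := by
  have h1 := R.card_eq_index_normalizer
  have h2 := Subgroup.card_mul_index (Subgroup.normalizer ((R : Subgroup G) : Set G))
  have h3 : (Subgroup.normalizer ((R : Subgroup G) : Set G)).index = 2 * (m + 1) * d := by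
    rw [← hd]; exact h1.symm
  rw [h3, h.cardG] at h2
  apply Nat.eq_of_mul_eq_mul_left (show 0 < 2 * (m + 1) by omega)
  calc 2 * (m + 1) * (Nat.card (Subgroup.normalizer ((R : Subgroup G) : Set G)) * d) =
      Nat.card (Subgroup.normalizer ((R : Subgroup G) : Set G)) * (2 * (m + 1) * d) := by ring
    _ = _ := h2

theorem II_le {d : ℕ} (hd : Nat.card (Sylow r G) = 2 * (m + 1) * d) (R R' : Sylow r G) :
    Nat.card (II R R') * d ≤ m := by
  rcases isEmpty_or_nonempty (II R R') with he | ⟨⟨v0, hv0, hR0⟩⟩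
  · rw [Nat.card_of_isEmpty, zero_mul]; exact Nat.zero_le _
  · have hRR : (R : Subgroup G) ⊓ (R' : Subgroup G) = ⊥ := by
      rw [← hR0]; exact h.inf_smul hr hU R hv0
    have h1 := h.MM_card hr hU R R' hRR
    have h2 := h.normalizer_card hr hU hd R
    have h3 := II_card (R := R) (R' := R') hv0 hR0
    have h4 : (2 * m + 1) * (Nat.card (MM R R') * d) ≤ (2 * m + 1) * m := by
      rw [← h2, ← mul_assoc]
      exact Nat.mul_le_mul_right d h1
    have h5 := Nat.le_of_mul_le_mul_left h4 (by omega)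
    exact le_trans (Nat.mul_le_mul_right d h3) h5

omit hr hU hrp in
theorem card_inv : Nat.card {v : G // orderOf v = 2} = (2 * m + 1) * m := by
  rw [← h.index, ← card_isConj_eq_index]
  apply Nat.card_congr
  apply Equiv.subtypeEquivRight
  intro v
  constructor
  · intro hv; exact h.sd.hconj t v h.sd.ht hv
  · intro hc
    obtain ⟨g, rfl⟩ := isConj_iff.1 hc
    rw [orderOf_conj]; exact h.sd.ht

theorem TI {R R' : Sylow r G} (hRR : (R : Subgroup G) ⊓ (R' : Subgroup G) ≠ ⊥) : R = R' := by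
  classical
  obtain ⟨d, hd0, hdU, hd⟩ := h.exists_d hr hU
  have hm := h.mpos
  haveI : Fintype G := Fintype.ofFinite G
  haveI : Fintype (Sylow r G) := Fintype.ofFinite _
  let Inv : Finset G := Finset.univ.filter (fun v => orderOf v = 2)
  have hInv : Inv.card = (2 * m + 1) * m := by
    rw [← h.card_inv, Nat.card_eq_fintype_card, Fintype.card_subtype]
  let f : G → Sylow r G := fun v => v • R
  have hfib : ∀ b ∈ Inv.image f, (Inv.filter (fun a => f a = b)).card ≤ m / d := by
    intro b _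
    rw [Nat.le_div_iff_mul_le hd0]
    have h1 := h.II_le hr hU hd R b
    have h2 : Nat.card (II R b) = (Inv.filter (fun a => f a = b)).card := by
      have : Nat.card (II R b) = Nat.card {v : G // orderOf v = 2 ∧ v • R = b} := rfl
      rw [this, Nat.card_eq_fintype_card, Fintype.card_subtype]
      congr 1
      ext v
      simp [Inv, f]
    rw [← h2]; exact h1
  have h1 := Finset.card_le_mul_card_image Inv (m / d) hfib
  have h2 : (2 * m + 1) * d ≤ (Inv.image f).card := by
    rw [hInv] at h1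
    have h3 : m * ((2 * m + 1) * d) ≤ m * (Inv.image f).card := by
      calc m * ((2 * m + 1) * d) = (2 * m + 1) * m * d := by ring
        _ ≤ m / d * (Inv.image f).card * d := Nat.mul_le_mul_right d h1
        _ = (m / d * d) * (Inv.image f).card := by ring
        _ ≤ m * (Inv.image f).card := Nat.mul_le_mul_right _ (Nat.div_mul_le_self m d)
    exact Nat.le_of_mul_le_mul_left h3 hm
  -- the Sylow subgroups meeting `R`
  let B : Finset (Sylow r G) := Finset.univ.filter (fun R' => (R : Subgroup G) ⊓ (R' : Subgroup G) ≠ ⊥)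
  have hdisj : Disjoint B (Inv.image f) := by
    rw [Finset.disjoint_left]
    intro a ha hb
    obtain ⟨v, hv, rfl⟩ := Finset.mem_image.1 hb
    simp only [B, Finset.mem_filter, Finset.mem_univ, true_and] at ha
    simp only [Inv, Finset.mem_filter, Finset.mem_univ, true_and] at hv
    exact ha (h.inf_smul hr hU R hv)
  have h3 : B.card + (Inv.image f).card ≤ 2 * (m + 1) * d := by
    rw [← Finset.card_union_of_disjoint hdisj, ← hd, Nat.card_eq_fintype_card]
    exact Finset.card_le_univ _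
  have hB : B.card ≤ d := by
    have : 2 * (m + 1) * d = (2 * m + 1) * d + d := by ring
    omega
  have hkey : ∀ z ∈ (R : Subgroup G), z ≠ 1 → ∀ S ∈ B, z ∈ (S : Subgroup G) := by
    intro z hz hz1
    let Z : Finset (Sylow r G) := Finset.univ.filter (fun R' => z ∈ (R' : Subgroup G))
    have hZ : Z.card = d := by
      rw [← hdU z (h.sylow_UU hr hU R hz hz1)]
      unfold nS
      rw [Nat.card_eq_fintype_card, Fintype.card_subtype]
    have hZB : Z ⊆ B := by
      intro S hS
      simp only [Z, B, Finset.mem_filter, Finset.mem_univ, true_and] at hS ⊢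
      intro e
      apply hz1
      have : z ∈ (R : Subgroup G) ⊓ (S : Subgroup G) := Subgroup.mem_inf.2 ⟨hz, hS⟩
      rw [e, Subgroup.mem_bot] at this
      exact this
    have hZB2 : Z = B := Finset.eq_of_subset_of_card_le hZB (by rw [hZ]; exact hB)
    intro S hS
    rw [← hZB2] at hS
    simpa [Z] using hS
  have hle : (R : Subgroup G) ≤ (R' : Subgroup G) := by
    intro z hz
    by_cases hz1 : z = 1
    · rw [hz1]; exact Subgroup.one_mem _
    · exact hkey z hz hz1 R' (by simp only [B, Finset.mem_filter, Finset.mem_univ, true_and]; exact hRR)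
  apply Sylow.ext
  apply Subgroup.eq_of_le_of_card_ge hle
  rw [h.sylow_card hr hU R, h.sylow_card hr hU R']

theorem TI_mem {R R' : Sylow r G} {z : G} (hz : z ∈ (R : Subgroup G)) (hz' : z ∈ (R' : Subgroup G))
    (hz1 : z ≠ 1) : R = R' := by
  apply h.TI hr hU
  intro e
  apply hz1
  have : z ∈ (R : Subgroup G) ⊓ (R' : Subgroup G) := Subgroup.mem_inf.2 ⟨hz, hz'⟩
  rw [e, Subgroup.mem_bot] at this
  exact this

theorem TI_bot {R R' : Sylow r G} (hne : R ≠ R') : (R : Subgroup G) ⊓ (R' : Subgroup G) = ⊥ := by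
  by_contra hn
  exact hne (h.TI hr hU hn)

theorem sylow_number : Nat.card (Sylow r G) = 2 * (m + 1) := by
  obtain ⟨d, hd0, hdU, hd⟩ := h.exists_d hr hU
  obtain ⟨x0, hx0⟩ := h.exists_UU
  have h1 := hdU x0 hx0
  have h2 : nS r x0 ≤ 1 := by
    unfold nS
    rw [Finite.card_le_one_iff_subsingleton]
    constructor
    rintro ⟨a, ha⟩ ⟨b, hb⟩
    exact Subtype.ext (h.TI_mem hr hU ha hb hx0.1)
  have h3 : d = 1 := by omega
  rw [hd, h3, mul_one]

theorem cen_sylow (R : Sylow r G) {x : G} (hx : x ∈ (R : Subgroup G)) (hx1 : x ≠ 1) :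
    Subgroup.centralizer ({x} : Set G) = R := by
  have hxU := h.sylow_UU hr hU R hx hx1
  obtain ⟨S, hS⟩ := h.exists_sylow_eq_cen hr hU hxU
  have hxS : x ∈ (S : Subgroup G) := by rw [hS]; exact mem_cen.2 rfl
  rw [← hS, h.TI_mem hr hU hx hxS hx1]

/-- One can pick an involution `v0` with maximal fibre. -/
theorem exists_v0 (R : Sylow r G) : ∃ R' : Sylow r G, R' ≠ R ∧ m ≤ Nat.card (II R R') := by
  classical
  by_contra hn
  push Not at hn
  have hm := h.mpos
  haveI : Fintype G := Fintype.ofFinite G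
  haveI : Fintype (Sylow r G) := Fintype.ofFinite _
  let Inv : Finset G := Finset.univ.filter (fun v => orderOf v = 2)
  have hInv : Inv.card = (2 * m + 1) * m := by
    rw [← h.card_inv, Nat.card_eq_fintype_card, Fintype.card_subtype]
  let f : G → Sylow r G := fun v => v • R
  have hRne : ∀ v ∈ Inv, f v ≠ R := by
    intro v hv e
    simp only [Inv, Finset.mem_filter, Finset.mem_univ, true_and] at hv
    have h1 := h.inf_smul hr hU R hv
    have e' : v • R = R := e
    rw [e', inf_idem] at h1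
    have h2 := h.sylow_card hr hU R
    rw [h1, Subgroup.card_bot] at h2
    omega
  have hmap : ∀ v ∈ Inv, f v ∈ (Finset.univ.erase R) := by
    intro v hv
    rw [Finset.mem_erase]
    exact ⟨hRne v hv, Finset.mem_univ _⟩
  have h1 := Finset.card_eq_sum_card_fiberwise hmap
  have h2 : ∀ b ∈ (Finset.univ.erase R), (Inv.filter (fun a => f a = b)).card ≤ m - 1 := by
    intro b hb
    rw [Finset.mem_erase] at hb
    have h3 := hn b hb.1
    have h4 : Nat.card (II R b) = (Inv.filter (fun a => f a = b)).card := by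
      have : Nat.card (II R b) = Nat.card {v : G // orderOf v = 2 ∧ v • R = b} := rfl
      rw [this, Nat.card_eq_fintype_card, Fintype.card_subtype]
      congr 1
      ext v
      simp [Inv, f]
    rw [← h4]; omega
  have h3 := Finset.sum_le_sum h2
  rw [← h1, Finset.sum_const, smul_eq_mul, Finset.card_erase_of_mem (Finset.mem_univ _),
    Finset.card_univ, ← Nat.card_eq_fintype_card, h.sylow_number hr hU, hInv] at h3
  have h4 : 2 * (m + 1) - 1 = 2 * m + 1 := by omega
  rw [h4] at h3
  have h5 := Nat.le_of_mul_le_mul_left h3 (by omega)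
  omega

/-- `R` acts transitively on the other Sylow subgroups. -/
theorem trans (R R' : Sylow r G) (hne : R' ≠ R) (R'' : Sylow r G) (hne' : R'' ≠ R) :
    ∃ a ∈ (R : Subgroup G), a • R' = R'' := by
  classical
  haveI : Fintype (Sylow r G) := Fintype.ofFinite _
  have hRR := h.TI_bot hr hU (Ne.symm hne)
  have hmem : ∀ a : (R : Subgroup G), (a : G) • R' ≠ R := by
    intro a e
    apply hne
    have h1 : (a : G)⁻¹ • ((a : G) • R') = (a : G)⁻¹ • R := congrArg ((a : G)⁻¹ • ·) e
    rw [inv_smul_smul] at h1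
    rw [h1, smul_eq_iff]
    exact Subgroup.inv_mem _ (Subgroup.le_normalizer a.2)
  let f : ↥(R : Subgroup G) → {S : Sylow r G // S ≠ R} := fun a => ⟨(a : G) • R', hmem a⟩
  have hf : Function.Injective f := by
    intro a b e
    have e1 : (a : G) • R' = (b : G) • R' := congrArg Subtype.val e
    have e2 : ((b : G)⁻¹ * a) • R' = R' := by rw [mul_smul, e1, inv_smul_smul]
    have e3 := inf_norm R R' hRR (Subgroup.mul_mem _ (Subgroup.inv_mem _ b.2) a.2) e2
    exact Subtype.ext (inv_mul_eq_one.1 e3).symm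
  have hc : Nat.card (R : Subgroup G) = Nat.card {S : Sylow r G // S ≠ R} := by
    rw [h.sylow_card hr hU R, Nat.card_eq_fintype_card]
    have : Fintype.card {S : Sylow r G // S ≠ R} = Fintype.card (Sylow r G) - 1 :=
      Set.card_ne_eq R
    rw [this, ← Nat.card_eq_fintype_card, h.sylow_number hr hU]
    omega
  haveI := Fintype.ofFinite (R : Subgroup G)
  rw [Nat.card_eq_fintype_card, Nat.card_eq_fintype_card] at hc
  have hbij := (Fintype.bijective_iff_injective_and_card f).2 ⟨hf, hc⟩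
  obtain ⟨a, ha⟩ := hbij.2 ⟨R'', hne'⟩
  exact ⟨a, a.2, congrArg Subtype.val ha⟩

/-- Fixed points of elements of `MM R R'`. -/
theorem fix (R R' : Sylow r G) (hne : R' ≠ R) {y : G} (hy : y ∈ MM R R') (hy1 : y ≠ 1)
    {S : Sylow r G} (hS : y • S = S) : S = R ∨ S = R' := by
  by_contra hn
  push Not at hn
  obtain ⟨a, ha, haS⟩ := h.trans hr hU R R' hne S hn.1
  have hRR := h.TI_bot hr hU (Ne.symm hne)
  obtain ⟨hyR, hyR'⟩ := mem_MM.1 hy
  have h1 : a⁻¹ * y * a ∈ MM R R' := by
    rw [mem_MM]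
    constructor
    · have h2 : a • R = R := (smul_eq_iff R a).2 (Subgroup.le_normalizer ha)
      rw [mul_smul, mul_smul, h2, hyR]
      rw [inv_smul_eq_iff, h2]
    · rw [mul_smul, mul_smul, haS, hS, ← haS, inv_smul_smul]
  have h2 : y⁻¹ * (a⁻¹ * y * a) ∈ MM R R' := Subgroup.mul_mem _ (Subgroup.inv_mem _ hy) h1
  have h3 : y⁻¹ * (a⁻¹ * y * a) ∈ (R : Subgroup G) := by
    have h4 : y⁻¹ * a⁻¹ * (y⁻¹)⁻¹ ∈ (R : Subgroup G) := by
      have h5 : y⁻¹ ∈ Subgroup.normalizer ((R : Subgroup G) : Set G) :=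
        Subgroup.inv_mem _ ((smul_eq_iff R y).1 hyR)
      exact mem_norm.1 h5 a⁻¹ (Subgroup.inv_mem _ ha)
    have : y⁻¹ * (a⁻¹ * y * a) = y⁻¹ * a⁻¹ * (y⁻¹)⁻¹ * a := by group
    rw [this]; exact Subgroup.mul_mem _ h4 ha
  have h4 := inf_MM R R' hRR h3 h2
  have h5 : y * a = a * y := by
    have h6 : a⁻¹ * y * a = y := by
      calc a⁻¹ * y * a = y * (y⁻¹ * (a⁻¹ * y * a)) := by group
        _ = y := by rw [h4, mul_one]
    calc y * a = a * (a⁻¹ * y * a) := by group
      _ = a * y := by rw [h6]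
  by_cases ha1 : a = 1
  · apply hn.2
    rw [← haS, ha1, one_smul]
  · have h6 : y ∈ (R : Subgroup G) := by
      rw [← h.cen_sylow hr hU R ha ha1, mem_cen]
      exact h5
    exact hy1 (inf_MM R R' hRR h6 hy)

theorem concl_aux : Concl G := by
  classical
  obtain ⟨R⟩ : Nonempty (Sylow r G) := inferInstance
  obtain ⟨R', hne, hII⟩ := h.exists_v0 hr hU R
  have hm := h.mpos
  have hRR := h.TI_bot hr hU (Ne.symm hne)
  have hI0 : Nonempty (II R R') := by
    by_contra he
    rw [not_nonempty_iff] at he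
    rw [Nat.card_of_isEmpty] at hII
    omega
  obtain ⟨v0, hv0, hR0⟩ := hI0
  have hN := h.normalizer_card hr hU (d := 1) (by rw [h.sylow_number hr hU, mul_one]) R
  rw [mul_one] at hN
  have h1 := h.MM_card hr hU R R' hRR
  rw [hN] at h1
  have hMle : Nat.card (MM R R') ≤ m := Nat.le_of_mul_le_mul_left h1 (by omega)
  have hIM := II_card (R := R) (R' := R') hv0 hR0
  have hMc : Nat.card (MM R R') = m := le_antisymm hMle (le_trans hII hIM)
  have hIc : Nat.card (II R R') = m := le_antisymm (le_trans hIM hMle) hII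
  -- every element of `MM` is a product `v0 v`
  have hprod : ∀ y ∈ MM R R', ∃ v, orderOf v = 2 ∧ y = v0 * v := by
    intro y hy
    let f : II R R' → MM R R' := fun v => ⟨v0 * v.1, II_mem hv0 hR0 v.2.1 v.2.2⟩
    have hf : Function.Injective f := by
      intro a b e
      have e1 : v0 * a.1 = v0 * b.1 := congrArg (fun z : MM R R' => (z : G)) e
      exact Subtype.ext (mul_left_cancel e1)
    haveI := Fintype.ofFinite (II R R')
    haveI := Fintype.ofFinite (MM R R')
    have hc : Fintype.card (II R R') = Fintype.card (MM R R') := by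
      rw [← Nat.card_eq_fintype_card, ← Nat.card_eq_fintype_card, hIc, hMc]
    have hbij := (Fintype.bijective_iff_injective_and_card f).2 ⟨hf, hc⟩
    obtain ⟨v, hv⟩ := hbij.2 ⟨y, hy⟩
    exact ⟨v.1, v.2.1, (congrArg (fun z : MM R R' => (z : G)) hv).symm⟩
  have hinvert : ∀ y ∈ MM R R', v0 * y * v0⁻¹ = y⁻¹ := by
    intro y hy
    obtain ⟨v, hv, rfl⟩ := hprod y hy
    rw [mul_inv_rev, inv_self_of hv, inv_self_of hv0]
    calc v0 * (v0 * v) * v0 = (v0 * v0) * v * v0 := by group
      _ = v * v0 := by rw [sq_one_of_order hv0, one_mul]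
  have hab : ∀ a ∈ MM R R', ∀ b ∈ MM R R', a * b = b * a := by
    intro a ha b hb
    have h2 := hinvert _ (Subgroup.mul_mem _ ha hb)
    have h3 := hinvert a ha
    have h4 := hinvert b hb
    have h5 : a⁻¹ * b⁻¹ = b⁻¹ * a⁻¹ := by
      calc a⁻¹ * b⁻¹ = (v0 * a * v0⁻¹) * (v0 * b * v0⁻¹) := by rw [h3, h4]
        _ = v0 * (a * b) * v0⁻¹ := by group
        _ = b⁻¹ * a⁻¹ := by rw [h2, mul_inv_rev]
    calc a * b = (b⁻¹ * a⁻¹)⁻¹ := by group
      _ = (a⁻¹ * b⁻¹)⁻¹ := by rw [h5]
      _ = b * a := by group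
  have hv0M : v0 ∉ MM R R' := by
    intro hv
    have := (mem_MM.1 hv).1
    rw [hR0] at this
    exact hne this
  have hN' : ∀ X : Subgroup G, X ≤ MM R R' → X ≠ ⊥ →
      Subgroup.normalizer (X : Set G) = MM R R' ⊔ Subgroup.zpowers v0 := by
    intro X hX hX1
    apply le_antisymm
    · intro g hg
      obtain ⟨x, hx⟩ := Subgroup.ne_bot_iff_exists_ne_one.1 hX1
      have hx1 : (x : G) ≠ 1 := fun e => hx (Subtype.ext e)
      have hxM := hX x.2
      -- `g⁻¹ x g ∈ X` fixes `R` and `R'`
      have hg' : g⁻¹ * x * g ∈ X := by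
        have := mem_norm.1 (Subgroup.inv_mem _ hg) x x.2
        rwa [inv_inv] at this
      obtain ⟨f1, f2⟩ := mem_MM.1 (hX hg')
      have g1 : (x : G) • (g • R) = g • R := by
        have h2 : (g⁻¹ * x * g) • R = g⁻¹ • ((x : G) • (g • R)) := by rw [mul_smul, mul_smul]
        rw [h2, inv_smul_eq_iff] at f1
        exact f1
      have g2 : (x : G) • (g • R') = g • R' := by
        have h2 : (g⁻¹ * x * g) • R' = g⁻¹ • ((x : G) • (g • R')) := by rw [mul_smul, mul_smul]
        rw [h2, inv_smul_eq_iff] at f2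
        exact f2
      rcases h.fix hr hU R R' hne hxM hx1 g1 with e1 | e1
      · rcases h.fix hr hU R R' hne hxM hx1 g2 with e2 | e2
        · exfalso; apply hne
          have := e2.trans e1.symm
          exact smul_left_cancel g this
        · exact Subgroup.mem_sup_left (mem_MM.2 ⟨e1, e2⟩)
      · rcases h.fix hr hU R R' hne hxM hx1 g2 with e2 | e2
        · have h3 : v0 * g ∈ MM R R' := by
            rw [mem_MM, mul_smul, mul_smul, e1, e2, hR0, swap hv0 hR0]
            exact ⟨rfl, rfl⟩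
          have h4 : g = v0⁻¹ * (v0 * g) := by group
          rw [h4]
          exact Subgroup.mul_mem _ (Subgroup.inv_mem _
            (Subgroup.mem_sup_right (Subgroup.mem_zpowers v0))) (Subgroup.mem_sup_left h3)
        · exfalso; apply hne
          have := e2.trans e1.symm
          exact smul_left_cancel g this
    · refine sup_le ?_ ?_
      · intro g hg
        rw [mem_norm]
        intro x hx
        rw [hab g hg x (hX hx), mul_inv_cancel_right]
        exact hx
      · rw [Subgroup.zpowers_le, mem_norm]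
        intro x hx
        rw [hinvert x (hX hx)]; exact X.inv_mem hx
  refine ⟨(R : Subgroup G), MM R R', ?_, ?_, hab, ?_, ?_, ?_, ?_⟩
  · rw [h.sylow_card hr hU R, h.cardG]
    have : 2 * m + 1 - 1 = 2 * m := by omega
    rw [this]; ring
  · intro x hx hx1
    exact h.cen_sylow hr hU R hx hx1
  · rw [hMc, h.sylow_card hr hU R]
  · rw [eq_bot_iff]
    intro y hy
    rw [Subgroup.mem_bot]
    exact inf_MM R R' hRR (Subgroup.mem_inf.1 hy).1 (Subgroup.mem_inf.1 hy).2
  · apply le_antisymm
    · -- cardinality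
      have hle : (R : Subgroup G) ⊔ MM R R' ≤ Subgroup.normalizer ((R : Subgroup G) : Set G) :=
        sup_le Subgroup.le_normalizer inf_le_left
      have hge : Nat.card (Subgroup.normalizer ((R : Subgroup G) : Set G)) ≤
          Nat.card ((R : Subgroup G) ⊔ MM R R' : Subgroup G) := by
        rw [hN]
        rw [show (2 * m + 1) * m = Nat.card (↥(R : Subgroup G) × MM R R') by
          rw [Nat.card_prod, h.sylow_card hr hU R, hMc]]
        refine Nat.card_le_card_of_injective (fun p : ↥(R : Subgroup G) × MM R R' =>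
          (⟨(p.1 : G) * p.2, Subgroup.mul_mem _ (Subgroup.mem_sup_left p.1.2)
            (Subgroup.mem_sup_right p.2.2)⟩ : ((R : Subgroup G) ⊔ MM R R' : Subgroup G))) ?_
        rintro ⟨⟨a, ha⟩, ⟨b, hb⟩⟩ ⟨⟨a', ha'⟩, ⟨b', hb'⟩⟩ e
        have e1 : a * b = a' * b' := congrArg (fun z :
          ((R : Subgroup G) ⊔ MM R R' : Subgroup G) => (z : G)) e
        have e2 : a'⁻¹ * a = b' * b⁻¹ := by
          calc a'⁻¹ * a = a'⁻¹ * (a * b) * b⁻¹ := by group
            _ = b' * b⁻¹ := by rw [e1]; group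
        have h1 : a'⁻¹ * a ∈ (R : Subgroup G) := Subgroup.mul_mem _ (Subgroup.inv_mem _ ha') ha
        have h2 : a'⁻¹ * a ∈ MM R R' := by
          rw [e2]; exact Subgroup.mul_mem _ hb' (Subgroup.inv_mem _ hb)
        have h3 := inf_MM R R' hRR h1 h2
        have h4 : a' = a := inv_mul_eq_one.1 h3
        have h5 : b' = b := by
          rw [h3] at e2
          exact (mul_inv_eq_one.1 e2.symm)
        subst h4; subst h5; rfl
      exact (Subgroup.eq_of_le_of_card_ge hle hge).ge
    · exact sup_le Subgroup.le_normalizer inf_le_left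
  · intro X hX hX1
    have hMb : MM R R' ≠ ⊥ := by
      intro e
      apply hX1
      rw [eq_bot_iff, ← e]; exact hX
    exact ⟨by rw [hN' X hX hX1, hN' _ le_rfl hMb], v0, hv0, hv0M, hinvert, hN' _ le_rfl hMb⟩

end Sy

include h in
theorem concl : Concl G := by
  obtain ⟨r, hr, hrd, hU⟩ := h.exists_r
  haveI : Fact r.Prime := ⟨hr⟩
  exact h.concl_aux hrd hU

end MD

theorem SD.concl {G : Type u} [Group G] [Finite G] {t s : G} {K : Subgroup G} (h : SD t s K) :
    Concl G := by
  rcases h.out with o | o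
  · exact h.caseP o
  · obtain ⟨m, hm⟩ := h.md o
    exact hm.concl

end Cfsg.Agent.H55.BswGrp
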