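import Cfsg.Agent.H55.Out13
import Cfsg.Agent.S1898
import Cfsg.Agent.S0093
import Cfsg.Agent.Solv.Frattini

set_option autoImplicit false
set_option maxHeartbeats 800000

namespace Cfsg.Agent.H55.Out

universe u

/-- automorphisms stabilising `H` -/
def stab {G : Type u} [Group G] (H : Subgroup G) : Subgroup (MulAut G) where
  carrier := {φ | ∀ x, φ x ∈ H ↔ x ∈ H}
  one_mem' := fun x => Iff.rfl
  mul_mem' := by
    intro a b ha hb x
    change a (b x) ∈ H ↔ x ∈ H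
    rw [ha, hb]
  inv_mem' := by
    intro a ha x
    have h1 : a (a⁻¹ x) = x := MulAut.apply_inv_self G a x
    rw [← ha (a⁻¹ x), h1]

theorem mem_stab {G : Type u} [Group G] [Finite G] {H : Subgroup G} {φ : MulAut G} (h : ∀ x ∈ H, φ x ∈ H) :
    φ ∈ stab H := by
  have h1 : H.map φ.toMonoidHom ≤ H := by
    rintro _ ⟨x, hx, rfl⟩
    exact h x hx
  have h2 : H.map φ.toMonoidHom = H := by
    apply Subgroup.eq_of_le_of_card_ge h1
    rw [Subgroup.card_map_of_injective φ.injective]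
  intro x
  constructor
  · intro hx
    rw [← h2] at hx
    obtain ⟨y, hy, hyx⟩ := hx
    have h4 : y = x := φ.injective hyx
    rw [← h4]; exact hy
  · exact h x

/-- restriction -/
def rst {G : Type u} [Group G] (H : Subgroup G) : stab H →* MulAut H where
  toFun φ :=
    { toFun := fun x => ⟨φ.1 x, (φ.2 x).mpr x.2⟩
      invFun := fun x => ⟨(φ⁻¹).1 x, ((φ⁻¹).2 x).mpr x.2⟩
      left_inv := fun x => Subtype.ext (MulAut.inv_apply_self G φ.1 x)
      right_inv := fun x => Subtype.ext (MulAut.apply_inv_self G φ.1 x)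
      map_mul' := fun a b => Subtype.ext (map_mul φ.1 a.1 b.1) }
  map_one' := by ext x; rfl
  map_mul' := fun a b => by ext x; rfl

theorem rst_apply {G : Type u} [Group G] (H : Subgroup G) (φ : stab H) (x : H) :
    ((rst H φ x : H) : G) = φ.1 x := rfl

theorem crit (P : Type u) [Group P] [Finite P] (hP : IsPGroup 2 P) : ∃ D E : Subgroup P,
    (∀ φ : MulAut P, ∀ x ∈ D, φ x ∈ D) ∧
    (∀ x, x ∈ E ↔ x ∈ D ∧ x ^ 4 = 1) ∧
    (∀ c : P, (∀ y ∈ D, c * y = y * c) → c ∈ D) ∧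
    (∀ x ∈ D, ∀ g : P, g * x * g⁻¹ * x⁻¹ ∈ D ∧ ∀ y ∈ D, (g * x * g⁻¹ * x⁻¹) * y = y * (g * x * g⁻¹ * x⁻¹)) ∧
    (∀ φ : MulAut P, (∀ x ∈ E, φ x = x) → ∃ k, ∀ x ∈ D, (φ ^ (2 ^ k)) x = x) := by
  haveI : Fact (Nat.Prime 2) := ⟨Nat.prime_two⟩
  obtain ⟨D, hDc, h1, h2, h3⟩ := Cfsg.Agent.S0093.result hP
  have hD2 : IsPGroup 2 D := hP.to_subgroup D
  have hchar : ∀ φ : MulAut P, ∀ x ∈ D, φ x ∈ D := by
    intro φ x hx
    have := (Subgroup.characteristic_iff_map_le.mp hDc) φ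
    exact this ⟨x, hx, rfl⟩
  have hcen : ∀ c : P, (∀ y ∈ D, c * y = y * c) → c ∈ D := by
    intro c hc
    apply h3
    rw [Subgroup.mem_centralizer_iff]
    intro y hy
    exact (hc y hy).symm
  have hcom : ∀ x ∈ D, ∀ g : P, g * x * g⁻¹ * x⁻¹ ∈ D ∧
      ∀ y ∈ D, (g * x * g⁻¹ * x⁻¹) * y = y * (g * x * g⁻¹ * x⁻¹) := by
    intro x hx g
    have h4 : g * x * g⁻¹ * x⁻¹ ∈ ⁅D, (⊤ : Subgroup P)⁆ := by
      rw [Subgroup.commutator_comm]
      exact Subgroup.commutator_mem_commutator (Subgroup.mem_top g) hx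
    have h5 := h2 h4
    refine ⟨h5.1, ?_⟩
    intro y hy
    exact ((Subgroup.mem_centralizer_iff.mp h5.2) y hy).symm
  have hsq : ∀ x ∈ D, ∀ y ∈ D, (x * x) * y = y * (x * x) := by
    intro x hx y hy
    have h4 := Cfsg.Agent.Solv.pow_mem_frattini_of_pGroup hD2 (⟨x, hx⟩ : D)
    have h5 : x * x ∈ Subgroup.centralizer (D : Set P) := by
      apply h1
      refine ⟨_, h4, ?_⟩
      change x ^ 2 = x * x
      rw [pow_two]
    exact ((Subgroup.mem_centralizer_iff.mp h5) y hy).symm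
  -- commutators of D
  have hccen : commutator D ≤ Subgroup.center D := by
    rw [commutator_def, Subgroup.commutator_le]
    intro a _ b _
    rw [Subgroup.mem_center_iff]
    intro c
    apply Subtype.ext
    exact ((hcom b.1 b.2 a.1).2 c.1 c.2).symm
  have hcel : Cfsg.IsElementaryAbelian 2 (commutator D) := by
    constructor
    · constructor
      constructor
      intro a b
      apply Subtype.ext
      exact (Subgroup.mem_center_iff.mp (hccen a.2) b.1).symm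
    · intro a ha
      rw [commutator_def] at ha
      refine Subgroup.closure_induction (p := fun a _ => a ^ 2 = 1) ?_ ?_ ?_ ?_ ha
      · rintro _ ⟨x, _, y, _, rfl⟩
        have hx2 := hsq x.1 x.2 y.1 y.2
        have hc1 := (hcom y.1 y.2 x.1).2 x.1 x.2
        apply Subtype.ext
        change (x.1 * y.1 * x.1⁻¹ * y.1⁻¹) ^ 2 = 1
        rw [pow_two]
        calc x.1 * y.1 * x.1⁻¹ * y.1⁻¹ * (x.1 * y.1 * x.1⁻¹ * y.1⁻¹)
            = (x.1 * y.1 * x.1⁻¹ * y.1⁻¹) * x.1 * (y.1 * x.1⁻¹ * y.1⁻¹) := by group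
          _ = x.1 * (x.1 * y.1 * x.1⁻¹ * y.1⁻¹) * (y.1 * x.1⁻¹ * y.1⁻¹) := by rw [hc1]
          _ = (x.1 * x.1 * y.1) * (x.1⁻¹ * x.1⁻¹ * y.1⁻¹) := by group
          _ = (y.1 * (x.1 * x.1)) * (x.1⁻¹ * x.1⁻¹ * y.1⁻¹) := by rw [hx2]
          _ = 1 := by group
      · exact one_pow 2
      · intro a b ha hb h4 h5
        have ha' : a ∈ commutator D := by rw [commutator_def]; exact ha
        have h6 : Commute a b := (Subgroup.mem_center_iff.mp (hccen ha') b).symm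
        rw [h6.mul_pow, h4, h5, one_mul]
      · intro a _ h4
        rw [inv_pow, h4, inv_one]
  obtain ⟨hA, hB⟩ := Cfsg.Agent.S1898.result hD2 hcel hccen
  let E : Subgroup P := (Subgroup.closure {g : D | g ^ 4 = 1}).map D.subtype
  have hE : ∀ x, x ∈ E ↔ x ∈ D ∧ x ^ 4 = 1 := by
    intro x
    constructor
    · rintro ⟨d, hd, rfl⟩
      refine ⟨d.2, ?_⟩
      have := hA d hd
      exact congrArg Subtype.val this
    · rintro ⟨hx, hx4⟩
      exact ⟨⟨x, hx⟩, Subgroup.subset_closure (Subtype.ext hx4), rfl⟩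
  refine ⟨D, E, hchar, hE, hcen, hcom, ?_⟩
  intro φ hφ
  have hstab : φ ∈ stab D := mem_stab (hchar φ)
  obtain ⟨k, hk⟩ := hB (rst D ⟨φ, hstab⟩) (by
    intro g hg
    apply Subtype.ext
    rw [rst_apply]
    exact hφ g.1 ((hE _).mpr ⟨g.2, congrArg Subtype.val hg⟩))
  refine ⟨k, ?_⟩
  intro x hx
  rw [← map_pow] at hk
  have h4 : (rst D (⟨φ, hstab⟩ ^ (2 ^ k)) ⟨x, hx⟩ : D) = ⟨x, hx⟩ := by rw [hk]; rfl
  have h5 := congrArg Subtype.val h4
  rw [rst_apply] at h5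
  exact h5

theorem triv_of_self_cent {G : Type u} [Group G] (P H : Subgroup G) (hP : IsPGroup 2 P) (hHP : H ≤ P)
    (hn : ∀ s ∈ P, ∀ y ∈ H, s * y * s⁻¹ ∈ H) (hc : ∀ c ∈ P, (∀ y ∈ H, c * y = y * c) → c ∈ H)
    (χ : MulAut G) (hχP : ∀ x ∈ P, χ x ∈ P) (hχ : ∀ y ∈ H, χ y = y) (m : ℕ) (hm : Odd m)
    (hχm : ∀ x ∈ P, (χ ^ m) x = x) : ∀ x ∈ P, χ x = x := by
  intro s hs
  have hcP : s⁻¹ * χ s ∈ P := P.mul_mem (P.inv_mem hs) (hχP s hs)
  have hcH : s⁻¹ * χ s ∈ H := by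
    apply hc _ hcP
    intro y hy
    have h1 := hχ _ (hn s hs y hy)
    rw [map_mul, map_mul, map_inv, hχ y hy] at h1
    calc s⁻¹ * χ s * y = s⁻¹ * (χ s * y * (χ s)⁻¹) * χ s := by group
      _ = s⁻¹ * (s * y * s⁻¹) * χ s := by rw [h1]
      _ = y * (s⁻¹ * χ s) := by group
  set c := s⁻¹ * χ s with hcdef
  have hcs : χ s = s * c := by rw [hcdef]; group
  have hcf : χ c = c := hχ c hcH
  have hpow : ∀ n : ℕ, (χ ^ n) s = s * c ^ n := by
    intro n
    induction n with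
    | zero => simp
    | succ n ih =>
      rw [pow_succ', MulAut.mul_apply, ih, map_mul, map_pow, hcf, hcs, mul_assoc, ← pow_succ']
  have h5 : c ^ m = 1 := by
    have h6 := hχm s hs
    rw [hpow] at h6
    exact mul_eq_left.mp h6
  obtain ⟨k, hk⟩ := hP ⟨c, hcP⟩
  have h7 : c ^ (2 ^ k) = 1 := congrArg Subtype.val hk
  have h8 : orderOf c ∣ m := orderOf_dvd_of_pow_eq_one h5
  have h9 : orderOf c ∣ 2 ^ k := orderOf_dvd_of_pow_eq_one h7
  have h10 : Nat.Coprime m (2 ^ k) := Nat.Coprime.pow_right k (Nat.coprime_two_right.mpr hm)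
  have h11 : c = 1 := orderOf_eq_one_iff.mp (Nat.eq_one_of_dvd_coprimes h10 h8 h9)
  rw [hcs, h11, mul_one]

end Cfsg.Agent.H55.Out
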