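import Cfsg.Agent.H55.Out14

set_option autoImplicit false
set_option maxHeartbeats 800000

namespace Cfsg.Agent.H55.Out

universe u

theorem pow4 {G : Type u} [Group G] (x : G) : x ^ 4 = (x * x) * (x * x) := by
  rw [← pow_two x, ← pow_add]

namespace HypC

variable {G : Type u} [Group G] {S : Sylow 2 G} (h : HypC S) [Finite G]

omit [Finite G] in
theorem Om_of_pow4 {x : G} (hx : x ∈ h.S0) (h4 : x ^ 4 = 1) : x * x ∈ h.Om := by
  apply h.mem_Om_of_S0 (h.S0.mul_mem hx hx)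
  rw [← pow4, h4]

theorem exists_R : ∃ R4 : Subgroup G, h.Om ≤ R4 ∧ R4 ≤ h.S0 ∧ (∀ x ∈ R4, x * x ∈ h.Om) ∧
    (∀ φ : MulAut G, (∀ x ∈ h.S0, φ x ∈ h.S0) → ∀ x ∈ R4, φ x ∈ R4) ∧
    (∀ s ∈ h.S0, ∀ x ∈ R4, s * x * s⁻¹ * x⁻¹ ∈ h.Om) ∧
    (∀ φ : MulAut G, (∀ x ∈ (S : Subgroup G), φ x ∈ (S : Subgroup G)) → (∀ x ∈ R4, φ x = x) →
      ∃ k : ℕ, ∀ x ∈ (S : Subgroup G), (φ ^ (2 ^ k)) x = x) := by
  haveI : Fact (Nat.Prime 2) := ⟨Nat.prime_two⟩
  have hS02 : IsPGroup 2 h.S0 := S.isPGroup'.to_le h.S0_le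
  obtain ⟨D, E, hchar, hE, hcen, hcom, hfaith⟩ := crit h.S0 hS02
  let R4 : Subgroup G := E.map h.S0.subtype
  have hR4 : ∀ x, x ∈ R4 ↔ ∃ hx : x ∈ h.S0, (⟨x, hx⟩ : h.S0) ∈ D ∧ x ^ 4 = 1 := by
    intro x
    constructor
    · rintro ⟨y, hy, rfl⟩
      have h1 := (hE y).mp hy
      exact ⟨y.2, h1.1, congrArg Subtype.val h1.2⟩
    · rintro ⟨hx, hxD, hx4⟩
      exact ⟨⟨x, hx⟩, (hE _).mpr ⟨hxD, Subtype.ext hx4⟩, rfl⟩
  have hcharG : ∀ φ : MulAut G, (∀ x ∈ h.S0, φ x ∈ h.S0) → ∀ x : h.S0, x ∈ D → ∀ hx' : φ x ∈ h.S0,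
      (⟨φ x, hx'⟩ : h.S0) ∈ D := by
    intro φ hφ x hx hx'
    have := hchar (rst h.S0 ⟨φ, mem_stab hφ⟩) x hx
    exact this
  have hOmD : ∀ x ∈ h.Om, ∀ hx : x ∈ h.S0, (⟨x, hx⟩ : h.S0) ∈ D := by
    intro x hxO hx
    apply hcen
    intro y _
    exact Subtype.ext (h.S0_cent y.2 hxO)
  refine ⟨R4, ?_, ?_, ?_, ?_, ?_, ?_⟩
  · intro x hx
    rw [hR4]
    refine ⟨h.Om_le_S0 hx, hOmD x hx _, ?_⟩
    rw [pow4, hx.2, one_mul]
  · rintro _ ⟨y, _, rfl⟩
    exact y.2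
  · intro x hx
    obtain ⟨hx0, -, hx4⟩ := (hR4 x).mp hx
    exact h.Om_of_pow4 hx0 hx4
  · intro φ hφ x hx
    obtain ⟨hx0, hxD, hx4⟩ := (hR4 x).mp hx
    rw [hR4]
    refine ⟨hφ x hx0, hcharG φ hφ ⟨x, hx0⟩ hxD _, ?_⟩
    rw [← map_pow, hx4, map_one]
  · -- the commutator condition
    intro s hs x hx
    obtain ⟨hx0, hxD, hx4⟩ := (hR4 x).mp hx
    have hcs := hcom ⟨x, hx0⟩ hxD ⟨s, hs⟩
    have hcS0 : s * x * s⁻¹ * x⁻¹ ∈ h.S0 :=
      h.S0.mul_mem (h.S0.mul_mem (h.S0.mul_mem hs hx0) (h.S0.inv_mem hs)) (h.S0.inv_mem hx0)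
    by_cases hz : ∃ z : h.S0, z ∈ D ∧ (∀ y ∈ D, z * y = y * z) ∧ (z : G) * z ∈ h.Om ∧ (z : G) * z ≠ 1
    · obtain ⟨z, hzD, hzc, hzO, hz1⟩ := hz
      have hxx : x * x ∈ h.Om := h.Om_of_pow4 hx0 hx4
      by_cases hxx1 : x * x = 1
      · have h1 : x ∈ h.Om := h.mem_Om_of_S0 hx0 hxx1
        have h2 : x * s = s * x := h.S0_cent hs h1
        have h3 : s * x * s⁻¹ * x⁻¹ = 1 := by rw [← h2]; group
        rw [h3]; exact h.Om.one_mem
      · obtain ⟨n, hn, hnz⟩ := h.norm2 hzO hxx hz1 hxx1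
        have hnS0 : ∀ y ∈ h.S0, (MulAut.conj n) y ∈ h.S0 := by
          intro y hy
          exact (Subgroup.mem_normalizer_iff.mp hn y).mp hy
        have hnS0' : ∀ y ∈ h.S0, (MulAut.conj n⁻¹) y ∈ h.S0 := by
          intro y hy
          exact (Subgroup.mem_normalizer_iff.mp (Subgroup.inv_mem _ hn) y).mp hy
        -- z' = n z n⁻¹
        have hz'D : (⟨(MulAut.conj n) z, hnS0 z z.2⟩ : h.S0) ∈ D := hcharG _ hnS0 z hzD _
        have hz'c : ∀ y : G, ∀ hy : y ∈ h.S0, (⟨y, hy⟩ : h.S0) ∈ D → n * z * n⁻¹ * y = y * (n * z * n⁻¹) := by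
          intro y hy hyD
          have h1 := hcharG _ hnS0' ⟨y, hy⟩ hyD (hnS0' y hy)
          have h2 : (z : G) * (n⁻¹ * y * n⁻¹⁻¹) = n⁻¹ * y * n⁻¹⁻¹ * z := congrArg Subtype.val (hzc _ h1)
          calc n * z * n⁻¹ * y = n * (z * (n⁻¹ * y * n⁻¹⁻¹)) * n⁻¹ := by group
            _ = n * (n⁻¹ * y * n⁻¹⁻¹ * z) * n⁻¹ := by rw [h2]
            _ = y * (n * z * n⁻¹) := by group
        have hz'sq : n * z * n⁻¹ * (n * z * n⁻¹) = x * x := by
          rw [← hnz]; group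
        -- x z'⁻¹ ∈ Om
        have hw : x * (n * z * n⁻¹)⁻¹ ∈ h.Om := by
          apply h.mem_Om_of_S0
          · exact h.S0.mul_mem hx0 (h.S0.inv_mem (hnS0 z z.2))
          · have h1 := hz'c x hx0 hxD
            have h2 : (n * z * n⁻¹)⁻¹ * x = x * (n * z * n⁻¹)⁻¹ := by
              rw [inv_mul_eq_iff_eq_mul, ← mul_assoc, h1]
              group
            calc x * (n * z * n⁻¹)⁻¹ * (x * (n * z * n⁻¹)⁻¹)
                = x * ((n * z * n⁻¹)⁻¹ * x) * (n * z * n⁻¹)⁻¹ := by group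
              _ = x * (x * (n * z * n⁻¹)⁻¹) * (n * z * n⁻¹)⁻¹ := by rw [h2]
              _ = (x * x) * (n * z * n⁻¹ * (n * z * n⁻¹))⁻¹ := by group
              _ = 1 := by rw [hz'sq, mul_inv_cancel]
        -- x is central in D
        have hxc : ∀ y : G, ∀ hy : y ∈ h.S0, (⟨y, hy⟩ : h.S0) ∈ D → x * y = y * x := by
          intro y hy hyD
          have h1 : (x * (n * z * n⁻¹)⁻¹) * y = y * (x * (n * z * n⁻¹)⁻¹) := h.S0_cent hy hw
          have h2 := hz'c y hy hyD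
          calc x * y = (x * (n * z * n⁻¹)⁻¹) * (n * z * n⁻¹ * y) := by group
            _ = (x * (n * z * n⁻¹)⁻¹) * (y * (n * z * n⁻¹)) := by rw [h2]
            _ = ((x * (n * z * n⁻¹)⁻¹) * y) * (n * z * n⁻¹) := by group
            _ = (y * (x * (n * z * n⁻¹)⁻¹)) * (n * z * n⁻¹) := by rw [h1]
            _ = y * x := by group
        apply h.mem_Om_of_S0 hcS0
        have h1 : s * (x * x) * s⁻¹ = x * x := by
          have := h.S0_cent hs hxx
          rw [← this]; group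
        have hcD : (⟨s * x * s⁻¹ * x⁻¹, hcS0⟩ : h.S0) ∈ D := hcs.1
        have h2 : x * (s * x * s⁻¹ * x⁻¹) = (s * x * s⁻¹ * x⁻¹) * x := hxc _ hcS0 hcD
        calc s * x * s⁻¹ * x⁻¹ * (s * x * s⁻¹ * x⁻¹)
            = x⁻¹ * (x * (s * x * s⁻¹ * x⁻¹)) * (s * x * s⁻¹ * x⁻¹) := by group
          _ = x⁻¹ * ((s * x * s⁻¹ * x⁻¹) * x) * (s * x * s⁻¹ * x⁻¹) := by rw [h2]
          _ = x⁻¹ * (s * (x * x) * s⁻¹) * x⁻¹ := by group
          _ = 1 := by rw [h1]; group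
    · push Not at hz
      have key : ∀ k : ℕ, ∀ z : h.S0, z ∈ D → (∀ y ∈ D, z * y = y * z) → z ^ (2 ^ k) = 1 → (z : G) * z = 1 := by
        intro k
        induction k with
        | zero =>
          intro z _ _ hz1
          rw [pow_zero, pow_one] at hz1
          rw [hz1]; exact one_mul 1
        | succ k ih =>
          intro z hzD hzc hzk
          have h1 : (z * z) ^ (2 ^ k) = 1 := by
            rw [← pow_two, ← pow_mul, ← pow_succ', hzk]
          have h2 := ih (z * z) (D.mul_mem hzD hzD) (by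
            intro y hy
            rw [mul_assoc, hzc y hy, ← mul_assoc, hzc y hy, mul_assoc]) h1
          apply hz z hzD hzc
          exact h.mem_Om_of_S0 (h.S0.mul_mem z.2 z.2) h2
      obtain ⟨k, hk⟩ := hS02 ⟨s * x * s⁻¹ * x⁻¹, hcS0⟩
      exact h.mem_Om_of_S0 hcS0 (key k ⟨s * x * s⁻¹ * x⁻¹, hcS0⟩ hcs.1 hcs.2 hk)
  · intro φ hφS hφR
    have hφO : ∀ x ∈ h.Om, φ x = x := by
      intro x hx
      apply hφR
      rw [hR4]
      refine ⟨h.Om_le_S0 hx, hOmD x hx _, ?_⟩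
      rw [pow4, hx.2, one_mul]
    have hφS0 : ∀ x ∈ h.S0, φ x ∈ h.S0 := by
      intro x hx
      refine ⟨hφS x hx.1, ?_⟩
      change φ x ∈ Subgroup.centralizer (h.Om : Set G)
      rw [Subgroup.mem_centralizer_iff]
      intro y hy
      have h1 := h.S0_cent hx hy
      have h2 : φ (y * x) = φ (x * y) := by rw [h1]
      rw [map_mul, map_mul, hφO y hy] at h2
      exact h2
    obtain ⟨k, hk⟩ := hfaith (rst h.S0 ⟨φ, mem_stab hφS0⟩) (by
      intro x hx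
      apply Subtype.ext
      exact hφR x.1 ⟨x, hx, rfl⟩)
    have hψD : ∀ x : h.S0, x ∈ D → (φ ^ (2 ^ k)) x = x := by
      intro x hx
      have h1 := hk x hx
      rw [← map_pow] at h1
      have h2 := congrArg Subtype.val h1
      rw [rst_apply] at h2
      exact h2
    have hψS : ∀ n : ℕ, ∀ x ∈ (S : Subgroup G), (φ ^ n) x ∈ (S : Subgroup G) := by
      intro n
      induction n with
      | zero => intro x hx; exact hx
      | succ n ih =>
        intro x hx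
        rw [pow_succ]
        exact ih _ (hφS x hx)
    have hψS0 : ∀ n : ℕ, ∀ x ∈ h.S0, (φ ^ n) x ∈ h.S0 := by
      intro n
      induction n with
      | zero => intro x hx; exact hx
      | succ n ih =>
        intro x hx
        rw [pow_succ]
        exact ih _ (hφS0 x hx)
    -- order of φ
    obtain ⟨j, m, hm, hjm⟩ := Nat.exists_eq_two_pow_mul_odd (n := orderOf (φ ^ (2 ^ k))) (orderOf_pos _).ne'
    refine ⟨k + j, ?_⟩
    set χ : MulAut G := φ ^ (2 ^ (k + j)) with hχ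
    have hχm : χ ^ m = 1 := by
      rw [hχ, pow_add, pow_mul, ← pow_mul, ← hjm, pow_orderOf_eq_one]
    have hpowfix : ∀ n : ℕ, ∀ x : G, (φ ^ (2 ^ k)) x = x → ((φ ^ (2 ^ k)) ^ n) x = x := by
      intro n x hx
      induction n with
      | zero => rfl
      | succ n ih =>
        rw [pow_succ]
        change ((φ ^ (2 ^ k)) ^ n) ((φ ^ (2 ^ k)) x) = x
        rw [hx, ih]
    have hχD : ∀ x ∈ D.map h.S0.subtype, χ x = x := by
      rintro _ ⟨x, hx, rfl⟩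
      rw [hχ, pow_add, pow_mul]
      exact hpowfix _ _ (hψD x hx)
    have hχS0 : ∀ x ∈ h.S0, χ x = x := by
      apply triv_of_self_cent h.S0 (D.map h.S0.subtype) hS02 _ _ _ χ (hψS0 _) hχD m hm (fun x _ => by rw [hχm]; rfl)
      · rintro _ ⟨y, _, rfl⟩
        exact y.2
      · rintro s hs _ ⟨y, hy, rfl⟩
        have h1 := (hcom y hy ⟨s, hs⟩).1
        have h2 := D.mul_mem h1 hy
        refine ⟨_, h2, ?_⟩
        change s * (y : G) * s⁻¹ * (y : G)⁻¹ * y = s * y * s⁻¹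
        group
      · intro c hc hcc
        refine ⟨⟨c, hc⟩, ?_, rfl⟩
        apply hcen
        intro y hy
        exact Subtype.ext (hcc _ ⟨y, hy, rfl⟩)
    apply triv_of_self_cent (S : Subgroup G) h.S0 S.isPGroup' h.S0_le _ _ χ (hψS _) hχS0 m hm (fun x _ => by rw [hχm]; rfl)
    · intro s hs y hy
      refine ⟨(S : Subgroup G).mul_mem ((S : Subgroup G).mul_mem hs hy.1) ((S : Subgroup G).inv_mem hs), ?_⟩
      exact h.cent_norm (h.S_norm_Om hs) hy.2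
    · intro c hc hcc
      refine ⟨hc, ?_⟩
      change c ∈ Subgroup.centralizer (h.Om : Set G)
      rw [Subgroup.mem_centralizer_iff]
      intro y hy
      exact (hcc y (h.Om_le_S0 hy)).symm

end HypC

end Cfsg.Agent.H55.Out
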