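import Cfsg.Agent.H55.Out12
import Cfsg.Agent.H55.Out15
import Cfsg.Prelude.Def_KGroupFacts

set_option autoImplicit false
set_option maxHeartbeats 800000

namespace Cfsg.Agent.H55.Out

universe u

theorem conj_mem_stab {G : Type u} [Group G] {H : Subgroup G} {n : G}
    (hn : n ∈ Subgroup.normalizer (H : Set G)) : MulAut.conj n ∈ stab H := by
  intro x
  exact ((Subgroup.mem_normalizer_iff.mp hn) x).symm

theorem norm_of_conj {G : Type u} [Group G] {H : Subgroup G} {n : G}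
    (hn : MulAut.conj n ∈ stab H) : n ∈ Subgroup.normalizer (H : Set G) := by
  rw [Subgroup.mem_normalizer_iff]
  intro x
  exact (hn x).symm

theorem comm_of_sq {X : Type u} [Group X] (hX : ∀ x : X, x * x = 1) (a b : X) : a * b = b * a := by
  have h1 : a⁻¹ = a := inv_eq_of_mul_eq_one_left (hX a)
  have h2 : b⁻¹ = b := inv_eq_of_mul_eq_one_left (hX b)
  have h3 : (a * b)⁻¹ = a * b := inv_eq_of_mul_eq_one_left (hX (a * b))
  rw [mul_inv_rev, h1, h2] at h3
  exact h3.symm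

namespace HypC

variable {G : Type u} [Group G] {S : Sylow 2 G} (h : HypC S)

theorem stab_Om_of_S0 : stab h.S0 ≤ stab h.Om := by
  have key : ∀ φ ∈ stab h.S0, ∀ x ∈ h.Om, φ x ∈ h.Om := by
    intro φ hφ x hx
    apply h.mem_Om_of_S0
    · exact (hφ x).mpr (h.Om_le_S0 hx)
    · rw [← map_mul, hx.2, map_one]
  intro φ hφ x
  constructor
  · intro hx
    have := key φ⁻¹ (Subgroup.inv_mem _ hφ) _ hx
    rwa [MulAut.inv_apply_self] at this
  · exact key φ hφ x

theorem stab_Om_of_S : stab (S : Subgroup G) ≤ stab h.Om := by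
  intro φ hφ x
  rw [h.mem_Om, h.mem_Om, hφ x, ← map_mul, MulEquiv.map_eq_one_iff]

theorem stab_S0_of_S : stab (S : Subgroup G) ≤ stab h.S0 := by
  have key : ∀ φ ∈ stab (S : Subgroup G), ∀ x ∈ h.S0, φ x ∈ h.S0 := by
    intro φ hφ x hx
    refine ⟨(hφ x).mpr hx.1, ?_⟩
    change φ x ∈ Subgroup.centralizer (h.Om : Set G)
    rw [Subgroup.mem_centralizer_iff]
    intro y hy
    have h1 : φ⁻¹ y ∈ h.Om := (h.stab_Om_of_S (Subgroup.inv_mem _ hφ) y).mpr hy
    have h2 := h.S0_cent hx h1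
    have h3 : φ (φ⁻¹ y * x) = φ (x * φ⁻¹ y) := by rw [h2]
    rw [map_mul, map_mul, MulAut.apply_inv_self] at h3
    exact h3
  intro φ hφ x
  constructor
  · intro hx
    have := key φ⁻¹ (Subgroup.inv_mem _ hφ) _ hx
    rwa [MulAut.inv_apply_self] at this
  · exact key φ hφ x

/-- trivial on the involutions -/
def KK (h : HypC S) : Subgroup (stab h.S0) where
  carrier := {m | ∀ x ∈ h.Om, m.1 x = x}
  one_mem' := fun x _ => rfl
  mul_mem' := by
    intro a b ha hb x hx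
    change a.1 (b.1 x) = x
    rw [hb x hx, ha x hx]
  inv_mem' := by
    intro a ha x hx
    have h1 := ha x hx
    change (a.1)⁻¹ x = x
    conv_lhs => rw [← h1]
    exact MulAut.inv_apply_self G a.1 x

/-- and on `R/Om` -/
def K1 (h : HypC S) (R : Subgroup G) (hOR : h.Om ≤ R) (hRi : ∀ φ ∈ stab h.S0, ∀ x ∈ R, φ x ∈ R) :
    Subgroup (stab h.S0) where
  carrier := {m | m ∈ h.KK ∧ ∀ x ∈ R, x⁻¹ * m.1 x ∈ h.Om}
  one_mem' := ⟨h.KK.one_mem, fun x _ => by
    change x⁻¹ * x ∈ h.Om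
    rw [inv_mul_cancel]; exact h.Om.one_mem⟩
  mul_mem' := by
    rintro a b ⟨ha, ha2⟩ ⟨hb, hb2⟩
    refine ⟨h.KK.mul_mem ha hb, ?_⟩
    intro x hx
    change x⁻¹ * a.1 (b.1 x) ∈ h.Om
    have h1 := ha2 (b.1 x) (hRi b.1 b.2 x hx)
    have h2 := hb2 x hx
    have h3 : x⁻¹ * a.1 (b.1 x) = (x⁻¹ * b.1 x) * ((b.1 x)⁻¹ * a.1 (b.1 x)) := by group
    rw [h3]
    exact h.Om.mul_mem h2 h1
  inv_mem' := by
    rintro a ⟨ha, ha2⟩
    refine ⟨h.KK.inv_mem ha, ?_⟩
    intro x hx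
    change x⁻¹ * (a.1)⁻¹ x ∈ h.Om
    have hx' : (a.1)⁻¹ x ∈ R := hRi _ (Subgroup.inv_mem _ a.2) x hx
    have h1 := ha2 _ hx'
    rw [MulAut.apply_inv_self] at h1
    have h2 := h.Om.inv_mem h1
    have h3 : (((a.1)⁻¹ x)⁻¹ * x)⁻¹ = x⁻¹ * (a.1)⁻¹ x := by group
    rwa [h3] at h2

theorem K1_normal (R : Subgroup G) (hOR : h.Om ≤ R) (hRi : ∀ φ ∈ stab h.S0, ∀ x ∈ R, φ x ∈ R) :
    (h.K1 R hOR hRi).Normal := by
  constructor
  rintro m ⟨hm, hm2⟩ g
  refine ⟨?_, ?_⟩
  · intro x hx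
    change g.1 (m.1 ((g.1)⁻¹ x)) = x
    have h1 : (g.1)⁻¹ x ∈ h.Om := (h.stab_Om_of_S0 (Subgroup.inv_mem _ g.2) x).mpr hx
    rw [hm _ h1, MulAut.apply_inv_self]
  · intro x hx
    change x⁻¹ * g.1 (m.1 ((g.1)⁻¹ x)) ∈ h.Om
    have hx' : (g.1)⁻¹ x ∈ R := hRi _ (Subgroup.inv_mem _ g.2) x hx
    have h1 := hm2 _ hx'
    have h2 := (h.stab_Om_of_S0 g.2 _).mpr h1
    rw [map_mul, map_inv, MulAut.apply_inv_self] at h2
    exact h2

theorem Inn_normal : ((Cfsg.Inn G).subgroupOf (stab h.S0)).Normal :=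
  Subgroup.Normal.subgroupOf inferInstance _

variable [Finite G]

/-- The group of automorphisms trivial on the involutions is solvable modulo `K1`. -/
theorem K_quot (FT : ∀ (X : Type u) [Group X] [Finite X], Odd (Nat.card X) → Group.IsSolvable X)
    (R : Subgroup G) (hOR : h.Om ≤ R) (hRi : ∀ φ ∈ stab h.S0, ∀ x ∈ R, φ x ∈ R) (hRS : R ≤ h.S0)
    (hsq : ∀ x ∈ R, x * x ∈ h.Om) (hcom : ∀ s ∈ h.S0, ∀ x ∈ R, s * x * s⁻¹ * x⁻¹ ∈ h.Om)
    [(h.K1 R hOR hRi).Normal] :
    Group.IsSolvable (h.KK.map (QuotientGroup.mk' (h.K1 R hOR hRi))) := by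
  haveI : Fact (Nat.Prime 2) := ⟨Nat.prime_two⟩
  haveI := h.Inn_normal
  let Om' : Subgroup R := h.Om.subgroupOf R
  haveI hOmn : Om'.Normal := by
    constructor
    intro a ha g
    have h1 : (a : G) ∈ h.Om := ha
    have h2 : (a : G) * g = g * a := h.S0_cent (hRS g.2) h1
    change (g : G) * a * (g : G)⁻¹ ∈ h.Om
    rw [← h2]
    simpa using h1
  letI iV : CommGroup (R ⧸ Om') :=
    { (inferInstance : Group (R ⧸ Om')) with
      mul_comm := comm_of_sq (by
        intro v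
        obtain ⟨x, rfl⟩ := QuotientGroup.mk_surjective v
        rw [← QuotientGroup.mk_mul, QuotientGroup.eq_one_iff]
        exact hsq x.1 x.2) }
  letI iW : CommGroup h.Om :=
    { (inferInstance : Group h.Om) with
      mul_comm := fun a b => Subtype.ext (h.Om_comm a.2 b.2) }
  have hE : Ext (Subgroup.inclusion hOR : h.Om →* R) (QuotientGroup.mk' Om' : R →* R ⧸ Om') :=
    { inj := Subgroup.inclusion_injective hOR
      surj := QuotientGroup.mk'_surjective Om'
      ex := by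
        intro x
        rw [QuotientGroup.mk'_apply, QuotientGroup.eq_one_iff]
        constructor
        · intro hx
          exact ⟨⟨x.1, hx⟩, rfl⟩
        · rintro ⟨w, rfl⟩
          exact w.2
      cen := by
        intro w x
        exact Subtype.ext (h.S0_cent (hRS x.2) w.2)
      inv := by
        intro x
        rw [QuotientGroup.mk'_apply, QuotientGroup.eq_one_iff]
        constructor
        · intro hx
          exact h.mem_Om_of_S0 (hRS x.2) (congrArg Subtype.val hx)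
        · intro hx
          have h1 : x.1 ∈ h.Om := hx
          exact Subtype.ext h1.2
      sq := by
        intro x
        rw [QuotientGroup.mk'_apply, QuotientGroup.eq_one_iff]
        exact hsq x.1 x.2 }
  have hst : stab h.S0 ≤ stab R := by
    intro φ hφ x
    constructor
    · intro hx
      have := hRi φ⁻¹ (Subgroup.inv_mem _ hφ) _ hx
      rwa [MulAut.inv_apply_self] at this
    · exact hRi φ hφ x
  let ρ : stab h.S0 →* MulAut R := (rst R).comp (Subgroup.inclusion hst)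
  have hρ : ∀ m : stab h.S0, ∀ x : R, ((ρ m x : R) : G) = m.1 x := fun m x => rfl
  refine L2 FT hE ρ ((Cfsg.Inn G).subgroupOf (stab h.S0)) h.KK (h.K1 R hOR hRi) ?_ ?_ ?_ ?_
  · intro m
    constructor
    · intro hm w
      exact Subtype.ext (hm w.1 w.2)
    · intro hm x hx
      exact congrArg Subtype.val (hm ⟨x, hx⟩)
  · intro m
    constructor
    · rintro ⟨hm, hm2⟩
      refine ⟨hm, ?_⟩
      intro x
      symm
      rw [QuotientGroup.mk'_apply, QuotientGroup.mk'_apply, QuotientGroup.eq]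
      exact hm2 x.1 x.2
    · rintro ⟨hm, hm2⟩
      refine ⟨hm, ?_⟩
      intro x hx
      have h1 := (hm2 ⟨x, hx⟩).symm
      rw [QuotientGroup.mk'_apply, QuotientGroup.mk'_apply, QuotientGroup.eq] at h1
      exact h1
  · intro a b ha hb
    obtain ⟨n, hn, hnab⟩ := h.norm2 a.2 b.2 (fun h1 => ha (Subtype.ext h1)) (fun h1 => hb (Subtype.ext h1))
    refine ⟨⟨MulAut.conj n, conj_mem_stab hn⟩, ⟨n, rfl⟩, ?_⟩
    exact Subtype.ext hnab
  · rintro ⟨m, hmst⟩ ⟨⟨g, hg⟩, hmK⟩ hmm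
    have hg' : MulAut.conj g = m := hg
    subst hg'
    obtain ⟨a, b, hb, hab⟩ := Nat.exists_eq_two_pow_mul_odd (n := orderOf g) (orderOf_pos _).ne'
    obtain ⟨Q, hQ⟩ := h.sylC
    have hgN : g ∈ Subgroup.normalizer (h.S0 : Set G) := norm_of_conj hmst
    have hgC : g ∈ Subgroup.centralizer (h.Om : Set G) := by
      rw [Subgroup.mem_centralizer_iff]
      intro y hy
      have h1 : g * y * g⁻¹ = y := hmK y hy
      rw [mul_inv_eq_iff_eq_mul] at h1
      exact h1.symm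
    have hgb : g ^ b ∈ h.S0 := by
      let x : Subgroup.centralizer (h.Om : Set G) := ⟨g ^ b, Subgroup.pow_mem _ hgC b⟩
      have hx2 : IsPGroup 2 (Subgroup.zpowers x) := by
        rw [IsPGroup.iff_card]
        have h1 : x ^ (2 ^ a) = 1 := by
          apply Subtype.ext
          change (g ^ b) ^ (2 ^ a) = 1
          rw [← pow_mul, mul_comm b, ← hab, pow_orderOf_eq_one]
        obtain ⟨k, -, hk⟩ := (Nat.dvd_prime_pow Nat.prime_two).mp (orderOf_dvd_of_pow_eq_one h1)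
        exact ⟨k, by rw [Nat.card_zpowers, hk]⟩
      have h2 := hx2.inf_normalizer_sylow Q
      have hxN : x ∈ Subgroup.normalizer ((Q : Subgroup (Subgroup.centralizer (h.Om : Set G))) : Set (Subgroup.centralizer (h.Om : Set G))) := by
        rw [hQ]
        have hgbN := Subgroup.pow_mem _ hgN b
        rw [Subgroup.mem_normalizer_iff] at hgbN ⊢
        intro y
        exact hgbN y.1
      have h3 : x ∈ Subgroup.zpowers x ⊓ (Q : Subgroup (Subgroup.centralizer (h.Om : Set G))) := by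
        rw [← h2]
        exact ⟨Subgroup.mem_zpowers x, hxN⟩
      have h4 := h3.2
      rw [hQ] at h4
      exact h4
    have hbK1 : (⟨MulAut.conj g, hmst⟩ : stab h.S0) ^ b ∈ h.K1 R hOR hRi := by
      refine ⟨h.KK.pow_mem hmK b, ?_⟩
      intro x hx
      have h1 : (((⟨MulAut.conj g, hmst⟩ : stab h.S0) ^ b).1) x = g ^ b * x * (g ^ b)⁻¹ := by
        change ((MulAut.conj g) ^ b) x = _
        rw [← map_pow]
        rfl
      rw [h1]
      have h2 := hcom _ hgb x hx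
      have h3 : g ^ b * x * (g ^ b)⁻¹ * x⁻¹ * x = x * (g ^ b * x * (g ^ b)⁻¹ * x⁻¹) := h.S0_cent (hRS hx) h2
      have h4 : x⁻¹ * (g ^ b * x * (g ^ b)⁻¹) = g ^ b * x * (g ^ b)⁻¹ * x⁻¹ := by
        calc x⁻¹ * (g ^ b * x * (g ^ b)⁻¹) = x⁻¹ * (g ^ b * x * (g ^ b)⁻¹ * x⁻¹ * x) := by group
          _ = x⁻¹ * (x * (g ^ b * x * (g ^ b)⁻¹ * x⁻¹)) := by rw [h3]
          _ = g ^ b * x * (g ^ b)⁻¹ * x⁻¹ := by group
      rw [h4]
      exact h2
    obtain ⟨c, hc⟩ := hb
    set m : stab h.S0 := ⟨MulAut.conj g, hmst⟩ with hm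
    have h5 : m = ((m * m) ^ c)⁻¹ * m ^ b := by
      rw [hc, pow_succ, pow_mul, pow_two]
      group
    rw [h5]
    exact (h.K1 R hOR hRi).mul_mem ((h.K1 R hOR hRi).inv_mem ((h.K1 R hOR hRi).pow_mem hmm c)) hbK1

end HypC

end Cfsg.Agent.H55.Out
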