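import Cfsg.Agent.H55.Out7
import Cfsg.Agent.H55.Out16

set_option autoImplicit false
set_option maxHeartbeats 800000

namespace Cfsg.Agent.H55.Out

universe u v

theorem solv_via {X : Type u} {Y : Type v} [Group X] [Group Y] (g : X →* Y) (hr : Group.IsSolvable g.range)
    (hk : Group.IsSolvable g.ker) : Group.IsSolvable X := by
  haveI := hr
  haveI := hk
  exact Group.isSolvable_of_ker_le_range g.ker.subtype g.rangeRestrict (by simp)

theorem solv_le {X : Type u} [Group X] {H K : Subgroup X} (hle : H ≤ K) (hK : Group.IsSolvable K) :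
    Group.IsSolvable H := by
  haveI := hK
  exact Group.isSolvable_of_isSolvable_injective (Subgroup.inclusion_injective hle)

theorem solv_p {X : Type u} [Group X] [Finite X] (hX : IsPGroup 2 X) : Group.IsSolvable X := by
  haveI : Fact (Nat.Prime 2) := ⟨Nat.prime_two⟩
  have := hX.isNilpotent
  infer_instance

theorem solv_of_normal_odd (FT : ∀ (X : Type u) [Group X] [Finite X], Odd (Nat.card X) → Group.IsSolvable X)
    {X : Type u} [Group X] [Finite X] (H : Subgroup X) [H.Normal] (hH : IsPGroup 2 H) (hodd : ¬ 2 ∣ H.index) :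
    Group.IsSolvable X := by
  haveI : Group.IsSolvable H := solv_p hH
  haveI : Group.IsSolvable (X ⧸ H) := by
    apply FT
    rw [← Nat.not_even_iff_odd, even_iff_two_dvd]
    exact hodd
  exact Group.isSolvable_of_ker_le_range H.subtype (QuotientGroup.mk' H) (by simp)

/-- Frattini: the stabilizer of a Sylow subgroup covers `Out G` -/
theorem out_solv {G : Type u} [Group G] [Finite G] (S : Sylow 2 G)
    (hS : Group.IsSolvable (stab (S : Subgroup G))) : Group.IsSolvable (Cfsg.Out G) := by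
  haveI : Fact (Nat.Prime 2) := ⟨Nat.prime_two⟩
  haveI := hS
  have hs : Function.Surjective ((QuotientGroup.mk' (Cfsg.Inn G)).comp (stab (S : Subgroup G)).subtype) := by
    intro q
    obtain ⟨φ, rfl⟩ := QuotientGroup.mk'_surjective _ q
    obtain ⟨g, hg⟩ := MulAction.exists_smul_eq G (φ • S) S
    have h1 : MulAut.conj g * φ ∈ stab (S : Subgroup G) := by
      apply mem_stab
      intro x hx
      have h2 : g * φ x * g⁻¹ ∈ (g • (φ • S) : Sylow 2 G) := ⟨φ x, ⟨x, hx, rfl⟩, rfl⟩
      rw [hg] at h2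
      exact h2
    refine ⟨⟨_, h1⟩, ?_⟩
    change QuotientGroup.mk' (Cfsg.Inn G) (MulAut.conj g * φ) = _
    rw [map_mul, (show QuotientGroup.mk' (Cfsg.Inn G) (MulAut.conj g) = 1 from
      (QuotientGroup.eq_one_iff _).mpr ⟨g, rfl⟩), one_mul]
  exact Group.isSolvable_of_surjective hs

/-- automorphisms fixing `S` pointwise -/
def CA {G : Type u} [Group G] (S : Subgroup G) : Subgroup (MulAut G) where
  carrier := {φ | ∀ s : G, s ∈ S → φ s = s}
  one_mem' := fun s _ => rfl
  mul_mem' := by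
    intro a b ha hb s hs
    change a (b s) = s
    rw [hb s hs, ha s hs]
  inv_mem' := by
    intro a ha s hs
    conv_lhs => rw [← ha s hs]
    exact MulAut.inv_apply_self G a s

namespace HypC

variable {G : Type u} [Group G] {S : Sylow 2 G} (h : HypC S) [Finite G]

theorem ker_solv (FT : ∀ (X : Type u) [Group X] [Finite X], Odd (Nat.card X) → Group.IsSolvable X)
    (hCA : Group.IsSolvable (CA (S : Subgroup G))) :
    Group.IsSolvable ((rst h.Om).comp (Subgroup.inclusion h.stab_Om_of_S)).ker := by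
  haveI : Fact (Nat.Prime 2) := ⟨Nat.prime_two⟩
  haveI : Finite (MulAut G) := inferInstance
  obtain ⟨R, hOR, hRS, hsq, hRi', hcom, hfaith⟩ := h.exists_R
  have hRi : ∀ φ ∈ stab h.S0, ∀ x ∈ R, φ x ∈ R := fun φ hφ x hx => hRi' φ (fun y hy => (hφ y).mpr hy) x hx
  haveI := h.K1_normal R hOR hRi
  have hq := h.K_quot FT R hOR hRi hRS hsq hcom
  let g0 := (rst h.Om).comp (Subgroup.inclusion h.stab_Om_of_S)
  have hg0 : ∀ φ : g0.ker, ∀ x ∈ h.Om, φ.1.1 x = x := by
    intro φ x hx
    have h1 : g0 φ.1 = 1 := φ.2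
    have h2 : (g0 φ.1 ⟨x, hx⟩ : h.Om) = ⟨x, hx⟩ := by rw [h1]; rfl
    exact congrArg Subtype.val h2
  let g1 : g0.ker →* stab h.S0 ⧸ h.K1 R hOR hRi :=
    (QuotientGroup.mk' (h.K1 R hOR hRi)).comp ((Subgroup.inclusion h.stab_S0_of_S).comp g0.ker.subtype)
  apply solv_via g1
  · have hle : g1.range ≤ h.KK.map (QuotientGroup.mk' (h.K1 R hOR hRi)) := by
      rintro _ ⟨φ, rfl⟩
      exact ⟨Subgroup.inclusion h.stab_S0_of_S φ.1, hg0 φ, rfl⟩
    exact solv_le hle hq
  · let g2 : g1.ker →* MulAut (S : Subgroup G) := (rst (S : Subgroup G)).comp (g0.ker.subtype.comp g1.ker.subtype)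
    have hg1 : ∀ φ : g1.ker, ∀ x ∈ R, x⁻¹ * φ.1.1.1 x ∈ h.Om := by
      intro φ x hx
      have h1 : g1 φ.1 = 1 := φ.2
      have h2 : Subgroup.inclusion h.stab_S0_of_S φ.1.1 ∈ h.K1 R hOR hRi :=
        (QuotientGroup.eq_one_iff _).mp h1
      exact h2.2 x hx
    apply solv_via g2
    · apply solv_p
      rintro ⟨_, φ, rfl⟩
      obtain ⟨k, hk⟩ := hfaith (φ.1.1.1 * φ.1.1.1) (by
        intro x hx
        exact (φ.1.1.2 _).mpr ((φ.1.1.2 _).mpr hx)) (by
        intro x hx
        change φ.1.1.1 (φ.1.1.1 x) = x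
        have h1 := hg1 φ x hx
        have h2 : φ.1.1.1 x = x * (x⁻¹ * φ.1.1.1 x) := by group
        have h3 := hg0 φ.1 _ h1
        rw [h2, map_mul, h3, h2]
        have h4 : x⁻¹ * (x * (x⁻¹ * φ.1.1.1 x)) = x⁻¹ * φ.1.1.1 x := by group
        rw [h4, mul_assoc, h1.2, mul_one])
      refine ⟨k + 1, ?_⟩
      apply Subtype.ext
      change (g2 φ) ^ (2 ^ (k + 1)) = 1
      rw [← map_pow]
      ext x
      have h5 : (((g2 (φ ^ (2 ^ (k + 1)))) x : (S : Subgroup G)) : G) = (φ.1.1.1 ^ (2 ^ (k + 1))) x := rfl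
      rw [h5, pow_succ', pow_mul, pow_two]
      exact hk x x.2
    · haveI := hCA
      let g3 : g2.ker →* CA (S : Subgroup G) :=
        { toFun := fun φ => ⟨φ.1.1.1.1, fun s hs => by
            have h1 : g2 φ.1 = 1 := φ.2
            have h2 : (g2 φ.1 ⟨s, hs⟩ : (S : Subgroup G)) = ⟨s, hs⟩ := by rw [h1]; rfl
            exact congrArg Subtype.val h2⟩
          map_one' := rfl
          map_mul' := fun a b => rfl }
      apply Group.isSolvable_of_isSolvable_injective (f := g3)
      intro a b hab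
      apply Subtype.ext
      apply Subtype.ext
      apply Subtype.ext
      apply Subtype.ext
      have h1 : (g3 a).1 = (g3 b).1 := by rw [hab]
      exact h1

end HypC

end Cfsg.Agent.H55.Out
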