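import Cfsg.Agent.H55.Out17

set_option autoImplicit false
set_option maxHeartbeats 1600000

namespace Cfsg.Agent.H55.Out

universe u v

namespace HypC

variable {G : Type u} [Group G] {S : Sylow 2 G} (h : HypC S) [Finite G]

/-- conjugation on the involutions -/
def cc (h : HypC S) : Subgroup.normalizer (h.Om : Set G) →* MulAut h.Om :=
  (rst h.Om).comp
    { toFun := fun n => ⟨MulAut.conj n.1, conj_mem_stab n.2⟩
      map_one' := Subtype.ext (map_one MulAut.conj)
      map_mul' := fun a b => Subtype.ext (map_mul MulAut.conj a.1 b.1) }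

omit [Finite G] in
theorem cc_apply (n : Subgroup.normalizer (h.Om : Set G)) (x : h.Om) :
    ((h.cc n x : h.Om) : G) = n.1 * x * n.1⁻¹ := rfl

omit [Finite G] in
/-- conjugating an inner automorphism -/
theorem conj_cc (φ : stab h.Om) (n : Subgroup.normalizer (h.Om : Set G)) (hn : φ.1 n.1 ∈ Subgroup.normalizer (h.Om : Set G)) :
    rst h.Om φ * h.cc n * (rst h.Om φ)⁻¹ = h.cc ⟨φ.1 n.1, hn⟩ := by
  rw [mul_inv_eq_iff_eq_mul]
  ext x
  change φ.1 (n.1 * x * n.1⁻¹) = φ.1 n.1 * φ.1 x * (φ.1 n.1)⁻¹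
  rw [map_mul, map_mul, map_inv]

omit [Finite G] in
theorem norm_pres (φ : stab h.Om) {n : G} (hn : n ∈ Subgroup.normalizer (h.Om : Set G)) :
    φ.1 n ∈ Subgroup.normalizer (h.Om : Set G) := by
  rw [Subgroup.mem_normalizer_iff] at hn ⊢
  intro x
  have h1 := hn ((φ.1)⁻¹ x)
  have h2 : (φ.1)⁻¹ x ∈ h.Om ↔ x ∈ h.Om := (Subgroup.inv_mem _ φ.2) x
  have h3 : φ.1 (n * (φ.1)⁻¹ x * n⁻¹) = φ.1 n * x * (φ.1 n)⁻¹ := by
    rw [map_mul, map_mul, map_inv, MulAut.apply_inv_self]
  have h4 : n * (φ.1)⁻¹ x * n⁻¹ ∈ h.Om ↔ φ.1 n * x * (φ.1 n)⁻¹ ∈ h.Om := by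
    rw [← h3]; exact (φ.2 _).symm
  rw [← h2, ← h4]
  exact h1

theorem range_solv (FT : ∀ (X : Type u) [Group X] [Finite X], Odd (Nat.card X) → Group.IsSolvable X) :
    Group.IsSolvable ((rst h.Om).comp (Subgroup.inclusion h.stab_Om_of_S)).range := by
  haveI : Fact (Nat.Prime 2) := ⟨Nat.prime_two⟩
  haveI : Finite (MulAut G) := inferInstance
  haveI : Finite (MulAut h.Om) := inferInstance
  letI iW : CommGroup h.Om :=
    { (inferInstance : Group h.Om) with
      mul_comm := fun a b => Subtype.ext (h.Om_comm a.2 b.2) }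
  let A : Subgroup (MulAut h.Om) := (rst h.Om).range
  let NN : Subgroup (MulAut h.Om) := h.cc.range
  let Y : Subgroup (MulAut h.Om) := ((rst h.Om).comp (Subgroup.inclusion h.stab_Om_of_S)).range
  have hYA : Y ≤ A := by
    rintro _ ⟨φ, rfl⟩
    exact ⟨_, rfl⟩
  have hNA : NN ≤ A := by
    rintro _ ⟨n, rfl⟩
    exact ⟨_, rfl⟩
  let N : Subgroup A := NN.subgroupOf A
  haveI hNn : N.Normal := by
    constructor
    rintro ⟨_, _⟩ ⟨n, hn⟩ ⟨_, ⟨φ, rfl⟩⟩
    refine ⟨⟨φ.1 n.1, h.norm_pres φ n.2⟩, ?_⟩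
    rw [← h.conj_cc φ n]
    have hn' : h.cc n = _ := hn
    rw [hn']
    rfl
  have hq : Group.IsSolvable (A ⧸ N) := by
    apply L1 (W := h.Om) (fun w => Subtype.ext w.2.2) A N
    intro a b ha hb
    obtain ⟨n, hn, hnab⟩ := h.norm1 a.2 b.2 (fun h1 => ha (Subtype.ext h1)) (fun h1 => hb (Subtype.ext h1))
    refine ⟨⟨⟨h.cc ⟨n, hn⟩, hNA ⟨_, rfl⟩⟩, ⟨_, rfl⟩⟩, ?_⟩
    exact Subtype.ext hnab
  haveI := hq
  let g : Y →* A ⧸ N := (QuotientGroup.mk' N).comp (Subgroup.inclusion hYA)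
  apply solv_via g
  · infer_instance
  · -- the kernel
    let Z : Subgroup (MulAut h.Om) := Y ⊓ NN
    let Sb : Subgroup (MulAut h.Om) := ((S : Subgroup G).subgroupOf (Subgroup.normalizer (h.Om : Set G))).map h.cc
    have hSbY : Sb ≤ Y := by
      rintro _ ⟨s, hs, rfl⟩
      have h1 : MulAut.conj s.1 ∈ stab (S : Subgroup G) := by
        apply mem_stab
        intro x hx
        exact (S : Subgroup G).mul_mem ((S : Subgroup G).mul_mem hs hx) ((S : Subgroup G).inv_mem hs)
      exact ⟨⟨_, h1⟩, rfl⟩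
    have hSbN : Sb ≤ NN := by
      rintro _ ⟨s, _, rfl⟩
      exact ⟨s, rfl⟩
    have hSbZ : Sb ≤ Z := le_inf hSbY hSbN
    have hZ : Group.IsSolvable Z := by
      haveI : (Sb.subgroupOf Z).Normal := by
        constructor
        rintro ⟨_, _⟩ ⟨s, hs, hs2⟩ ⟨z, ⟨φ, rfl⟩, hz2⟩
        have hφs : φ.1 s.1 ∈ (S : Subgroup G) := (φ.2 _).mpr hs
        refine ⟨⟨φ.1 s.1, h.S_norm_Om hφs⟩, hφs, ?_⟩
        have h1 := h.conj_cc (Subgroup.inclusion h.stab_Om_of_S φ) s (h.S_norm_Om hφs)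
        have hs' : h.cc s = _ := hs2
        refine h1.symm.trans ?_
        rw [hs']
        rfl
      have hSb2 : IsPGroup 2 (Sb.subgroupOf Z) := by
        apply IsPGroup.comap_of_injective _ _ (Subgroup.subtype_injective _)
        apply IsPGroup.map
        apply IsPGroup.comap_of_injective _ _ (Subgroup.subtype_injective _)
        exact S.isPGroup'
      apply solv_of_normal_odd FT (Sb.subgroupOf Z) hSb2
      intro hd
      have h1 : Sb.relIndex Z * Z.relIndex NN = Sb.relIndex NN :=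
        Subgroup.relIndex_mul_relIndex Sb Z NN hSbZ inf_le_right
      have h2 : 2 ∣ Sb.relIndex NN := by
        rw [← h1]
        exact Dvd.dvd.mul_right hd _
      let S' : Sylow 2 (Subgroup.normalizer (h.Om : Set G)) := S.subtype h.S_norm_Om
      let Q := S'.mapSurjective (f := h.cc.rangeRestrict) h.cc.rangeRestrict_surjective
      have h3 : (Q : Subgroup NN) = Sb.subgroupOf NN := by
        ext ⟨y, hy⟩
        constructor
        · rintro ⟨s, hs, hs2⟩
          exact ⟨s, hs, congrArg Subtype.val hs2⟩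
        · rintro ⟨s, hs, hs2⟩
          exact ⟨s, hs, Subtype.ext hs2⟩
      have h4 := Q.not_dvd_index
      rw [h3] at h4
      exact h4 h2
    haveI := hZ
    let g3 : g.ker →* Z :=
      { toFun := fun y => ⟨y.1.1, y.1.2, by
          have h1 : g y.1 = 1 := y.2
          have h2 : Subgroup.inclusion hYA y.1 ∈ N := (QuotientGroup.eq_one_iff _).mp h1
          exact h2⟩
        map_one' := rfl
        map_mul' := fun a b => rfl }
    apply Group.isSolvable_of_isSolvable_injective (f := g3)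
    intro a b hab
    apply Subtype.ext
    apply Subtype.ext
    have h1 : (g3 a).1 = (g3 b).1 := by rw [hab]
    exact h1

include h in
theorem stab_solv (FT : ∀ (X : Type u) [Group X] [Finite X], Odd (Nat.card X) → Group.IsSolvable X)
    (hCA : Group.IsSolvable (CA (S : Subgroup G))) : Group.IsSolvable (stab (S : Subgroup G)) :=
  solv_via _ (h.range_solv FT) (h.ker_solv FT hCA)

include h in
theorem case_c (FT : ∀ (X : Type u) [Group X] [Finite X], Odd (Nat.card X) → Group.IsSolvable X)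
    (hCA : Group.IsSolvable (CA (S : Subgroup G))) : Group.IsSolvable (Cfsg.Out G) :=
  out_solv S (h.stab_solv FT hCA)

end HypC

end Cfsg.Agent.H55.Out
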