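import Cfsg.Agent.H55.Out17
import Cfsg.Agent.S0014
import Cfsg.Agent.S4208

set_option autoImplicit false
set_option maxHeartbeats 1600000

namespace Cfsg.Agent.H55.Out

universe u v

/-- order of the automorphism group of a 2-group generated by few elements -/
theorem aut_dvd {P : Type u} [Group P] [Finite P] (hP : IsPGroup 2 P) (T : Finset P)
    (hT : Subgroup.closure (T : Set P) = ⊤) :
    (T.card ≤ 2 → ∃ a, Nat.card (MulAut P) ∣ 2 ^ a * 3) ∧ (T.card ≤ 3 → ∃ a, Nat.card (MulAut P) ∣ 2 ^ a * 21) := by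
  haveI : Fact (Nat.Prime 2) := ⟨Nat.prime_two⟩
  obtain ⟨n, hn⟩ := IsPGroup.iff_card.mp hP
  obtain ⟨r, -, hr⟩ : ∃ r ≤ n, (frattini P).index = 2 ^ r := by
    have h1 : (frattini P).index ∣ 2 ^ n := hn ▸ (frattini P).index_dvd_card
    exact (Nat.dvd_prime_pow Nat.prime_two).mp h1
  have hrT := (Cfsg.Agent.S0014.result 2 r hP hr).2 T hT
  have hd := Cfsg.Agent.S4208.result hn hr
  constructor
  · intro hT2
    have hr2 : r ≤ 2 := by omega
    refine ⟨r * (n - r) + 1, hd.trans ?_⟩
    rw [pow_add, mul_assoc]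
    apply Nat.mul_dvd_mul_left
    interval_cases r <;> simp [Finset.prod_range_succ]
  · intro hT3
    have hr3 : r ≤ 3 := by omega
    refine ⟨r * (n - r) + 3, hd.trans ?_⟩
    rw [pow_add, mul_assoc]
    apply Nat.mul_dvd_mul_left
    interval_cases r <;> simp [Finset.prod_range_succ] <;> decide

theorem solv_two_primes {X : Type u} [Group X] [Finite X] {q : ℕ} (hq : q.Prime)
    (h : ∀ r : ℕ, r.Prime → r ∣ Nat.card X → r = 2 ∨ r = q) : Group.IsSolvable X := by
  obtain ⟨a, b, hab⟩ := Cfsg.Agent.H72.exists_eq_pow_mul_pow (p := 2) (q := q) (n := Nat.card X)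
    Nat.card_pos.ne' Nat.prime_two h
  exact Cfsg.Agent.S0144.result 2 q a b Nat.prime_two hq hab

section

variable {G : Type u} [Group G] [Finite G] (S : Sylow 2 G)

theorem ker_rst_solv (hCA : Group.IsSolvable (CA (S : Subgroup G))) :
    Group.IsSolvable (rst (S : Subgroup G)).ker := by
  haveI := hCA
  let g3 : (rst (S : Subgroup G)).ker →* CA (S : Subgroup G) :=
    { toFun := fun φ => ⟨φ.1.1, fun s hs => by
        have h1 : rst (S : Subgroup G) φ.1 = 1 := φ.2
        have h2 : (rst (S : Subgroup G) φ.1 ⟨s, hs⟩ : (S : Subgroup G)) = ⟨s, hs⟩ := by rw [h1]; rfl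
        exact congrArg Subtype.val h2⟩
      map_one' := rfl
      map_mul' := fun a b => rfl }
  apply Group.isSolvable_of_isSolvable_injective (f := g3)
  intro a b hab
  apply Subtype.ext
  apply Subtype.ext
  have h1 : (g3 a).1 = (g3 b).1 := by rw [hab]
  exact h1

theorem case_a (hCA : Group.IsSolvable (CA (S : Subgroup G)))
    (hab : ∃ a b : (S : Subgroup G), Subgroup.closure ({a, b} : Set (S : Subgroup G)) = ⊤) :
    Group.IsSolvable (Cfsg.Out G) := by
  classical
  apply out_solv S
  apply solv_via (rst (S : Subgroup G))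
  · obtain ⟨a, b, hab⟩ := hab
    obtain ⟨c, hc⟩ := (aut_dvd S.isPGroup' ({a, b} : Finset (S : Subgroup G)) (by
      rw [Finset.coe_pair]; exact hab)).1 Finset.card_le_two
    haveI : Group.IsSolvable (MulAut (S : Subgroup G)) := by
      apply solv_two_primes Nat.prime_three
      intro r hr hrd
      have h1 := hrd.trans hc
      rw [hr.dvd_mul] at h1
      rcases h1 with h1 | h1
      · left; exact (Nat.prime_dvd_prime_iff_eq hr Nat.prime_two).mp (hr.dvd_of_dvd_pow h1)
      · right; exact (Nat.prime_dvd_prime_iff_eq hr Nat.prime_three).mp h1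
    infer_instance
  · exact ker_rst_solv S hCA

/-- conjugation on `S` -/
def cs (S : Sylow 2 G) : Subgroup.normalizer ((S : Subgroup G) : Set G) →* MulAut (S : Subgroup G) :=
  (rst (S : Subgroup G)).comp
    { toFun := fun n => ⟨MulAut.conj n.1, conj_mem_stab n.2⟩
      map_one' := Subtype.ext (map_one MulAut.conj)
      map_mul' := fun a b => Subtype.ext (map_mul MulAut.conj a.1 b.1) }

theorem norm_solv (FT : ∀ (X : Type u) [Group X] [Finite X], Odd (Nat.card X) → Group.IsSolvable X) :
    Group.IsSolvable (Subgroup.normalizer ((S : Subgroup G) : Set G)) := by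
  haveI : Fact (Nat.Prime 2) := ⟨Nat.prime_two⟩
  let S' : Sylow 2 (Subgroup.normalizer ((S : Subgroup G) : Set G)) := S.subtype Subgroup.le_normalizer
  have h1 : (S' : Subgroup (Subgroup.normalizer ((S : Subgroup G) : Set G))) =
    (S : Subgroup G).subgroupOf (Subgroup.normalizer ((S : Subgroup G) : Set G)) := rfl
  haveI : (S' : Subgroup (Subgroup.normalizer ((S : Subgroup G) : Set G))).Normal := by
    rw [h1]
    exact Subgroup.normal_in_normalizer
  exact solv_of_normal_odd FT _ S'.isPGroup' S'.not_dvd_index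

theorem case_b (FT : ∀ (X : Type u) [Group X] [Finite X], Odd (Nat.card X) → Group.IsSolvable X)
    (hCA : Group.IsSolvable (CA (S : Subgroup G)))
    (habc : ∃ a b c : (S : Subgroup G), Subgroup.closure ({a, b, c} : Set (S : Subgroup G)) = ⊤)
    (hg : ∃ g ∈ Subgroup.normalizer ((S : Subgroup G) : Set G), Odd (orderOf g) ∧
      g ∉ Subgroup.centralizer ((S : Subgroup G) : Set G)) :
    Group.IsSolvable (Cfsg.Out G) := by
  classical
  haveI : Finite (MulAut G) := inferInstance
  haveI : Finite (MulAut (S : Subgroup G)) := inferInstance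
  apply out_solv S
  apply solv_via (rst (S : Subgroup G))
  · obtain ⟨a, b, c, habc⟩ := habc
    obtain ⟨d, hd⟩ := (aut_dvd S.isPGroup' ({a, b, c} : Finset (S : Subgroup G)) (by
      simpa using habc)).2 Finset.card_le_three
    let X : Subgroup (MulAut (S : Subgroup G)) := (rst (S : Subgroup G)).range
    let X0 : Subgroup (MulAut (S : Subgroup G)) := (cs S).range
    have hX0X : X0 ≤ X := by
      rintro _ ⟨n, rfl⟩
      exact ⟨_, rfl⟩
    haveI hn : (X0.subgroupOf X).Normal := by
      constructor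
      rintro ⟨_, _⟩ ⟨n, hn⟩ ⟨_, ⟨φ, rfl⟩⟩
      have hφn : φ.1 n.1 ∈ Subgroup.normalizer ((S : Subgroup G) : Set G) := by
        have h1 : MulAut.conj (φ.1 n.1) ∈ stab (S : Subgroup G) := by
          have h2 : MulAut.conj (φ.1 n.1) = φ.1 * MulAut.conj n.1 * (φ.1)⁻¹ := by
            ext x
            change φ.1 n.1 * x * (φ.1 n.1)⁻¹ = φ.1 (n.1 * (φ.1)⁻¹ x * n.1⁻¹)
            rw [map_mul, map_mul, map_inv, MulAut.apply_inv_self]
          rw [h2]
          exact Subgroup.mul_mem _ (Subgroup.mul_mem _ φ.2 (conj_mem_stab n.2)) (Subgroup.inv_mem _ φ.2)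
        exact norm_of_conj h1
      refine ⟨⟨φ.1 n.1, hφn⟩, ?_⟩
      have h3 : rst (S : Subgroup G) φ * cs S n * (rst (S : Subgroup G) φ)⁻¹ = cs S ⟨φ.1 n.1, hφn⟩ := by
        rw [mul_inv_eq_iff_eq_mul]
        ext x
        change φ.1 (n.1 * x * n.1⁻¹) = φ.1 n.1 * φ.1 x * (φ.1 n.1)⁻¹
        rw [map_mul, map_mul, map_inv]
      have hn' : cs S n = _ := hn
      refine h3.symm.trans ?_
      rw [hn']
      rfl
    haveI hX0s : Group.IsSolvable (X0.subgroupOf X) := by
      haveI := norm_solv S FT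
      haveI h1 : Group.IsSolvable X0 := Group.isSolvable_of_surjective (cs S).rangeRestrict_surjective
      exact Group.isSolvable_of_isSolvable_injective (f := (Subgroup.subgroupOfEquivOfLe hX0X).toMonoidHom)
        (Subgroup.subgroupOfEquivOfLe hX0X).injective
    -- a prime divisor of the order of X0
    obtain ⟨q, hq, hqX0, hq37⟩ : ∃ q : ℕ, q.Prime ∧ q ∣ Nat.card X0 ∧ (q = 3 ∨ q = 7) := by
      obtain ⟨g, hgN, hgo, hgC⟩ := hg
      have h1 : cs S ⟨g, hgN⟩ ≠ 1 := by
        intro h1
        apply hgC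
        rw [Subgroup.mem_centralizer_iff]
        intro s hs
        have h2 : (cs S ⟨g, hgN⟩ ⟨s, hs⟩ : (S : Subgroup G)) = ⟨s, hs⟩ := by rw [h1]; rfl
        have h3 : g * s * g⁻¹ = s := congrArg Subtype.val h2
        rw [mul_inv_eq_iff_eq_mul] at h3
        exact h3.symm
      have h2 : orderOf (cs S ⟨g, hgN⟩) ≠ 1 := fun h => h1 (orderOf_eq_one_iff.mp h)
      obtain ⟨q, hq, hqd⟩ := Nat.exists_prime_and_dvd h2
      have h3 : orderOf (cs S ⟨g, hgN⟩) ∣ orderOf g := by
        have := orderOf_map_dvd (cs S) ⟨g, hgN⟩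
        rwa [← Subgroup.orderOf_coe] at this
      have hqodd : q ≠ 2 := by
        rintro rfl
        exact (Nat.not_even_iff_odd.mpr hgo) (even_iff_two_dvd.mpr (hqd.trans h3))
      have h4 : orderOf (cs S ⟨g, hgN⟩) ∣ Nat.card X0 := by
        have := orderOf_dvd_natCard (⟨cs S ⟨g, hgN⟩, ⟨_, rfl⟩⟩ : X0)
        rwa [← Subgroup.orderOf_coe] at this
      refine ⟨q, hq, hqd.trans h4, ?_⟩
      have h5 : q ∣ 2 ^ d * 21 := (hqd.trans h4).trans ((Subgroup.card_subgroup_dvd_card X0).trans hd)
      rw [hq.dvd_mul] at h5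
      rcases h5 with h5 | h5
      · exact absurd ((Nat.prime_dvd_prime_iff_eq hq Nat.prime_two).mp (hq.dvd_of_dvd_pow h5)) hqodd
      · rw [show 21 = 3 * 7 by norm_num, hq.dvd_mul] at h5
        rcases h5 with h5 | h5
        · left; exact (Nat.prime_dvd_prime_iff_eq hq Nat.prime_three).mp h5
        · right; exact (Nat.prime_dvd_prime_iff_eq hq (by norm_num)).mp h5
    have hcard : q * Nat.card (X ⧸ X0.subgroupOf X) ∣ 2 ^ d * 21 := by
      have h1 : Nat.card X = Nat.card (X ⧸ X0.subgroupOf X) * Nat.card X0 := by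
        rw [← Nat.card_congr (Subgroup.subgroupOfEquivOfLe hX0X).toEquiv]
        exact Subgroup.card_eq_card_quotient_mul_card_subgroup _
      have h2 : q * Nat.card (X ⧸ X0.subgroupOf X) ∣ Nat.card X := by
        rw [h1, mul_comm]
        exact Nat.mul_dvd_mul_left _ hqX0
      exact h2.trans ((Subgroup.card_subgroup_dvd_card X).trans hd)
    haveI hquot : Group.IsSolvable (X ⧸ X0.subgroupOf X) := by
      rcases hq37 with rfl | rfl
      · have h1 : Nat.card (X ⧸ X0.subgroupOf X) ∣ 2 ^ d * 7 := by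
          have : 2 ^ d * 21 = 3 * (2 ^ d * 7) := by ring
          rw [this] at hcard
          exact Nat.dvd_of_mul_dvd_mul_left (by norm_num) hcard
        apply solv_two_primes (q := 7) (by norm_num)
        intro r hr hrd
        have h2 := hrd.trans h1
        rw [hr.dvd_mul] at h2
        rcases h2 with h2 | h2
        · left; exact (Nat.prime_dvd_prime_iff_eq hr Nat.prime_two).mp (hr.dvd_of_dvd_pow h2)
        · right; exact (Nat.prime_dvd_prime_iff_eq hr (by norm_num)).mp h2
      · have h1 : Nat.card (X ⧸ X0.subgroupOf X) ∣ 2 ^ d * 3 := by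
          have : 2 ^ d * 21 = 7 * (2 ^ d * 3) := by ring
          rw [this] at hcard
          exact Nat.dvd_of_mul_dvd_mul_left (by norm_num) hcard
        apply solv_two_primes (q := 3) (by norm_num)
        intro r hr hrd
        have h2 := hrd.trans h1
        rw [hr.dvd_mul] at h2
        rcases h2 with h2 | h2
        · left; exact (Nat.prime_dvd_prime_iff_eq hr Nat.prime_two).mp (hr.dvd_of_dvd_pow h2)
        · right; exact (Nat.prime_dvd_prime_iff_eq hr Nat.prime_three).mp h2
    exact Group.isSolvable_of_ker_le_range (X0.subgroupOf X).subtype (QuotientGroup.mk' (X0.subgroupOf X)) (by simp)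
  · exact ker_rst_solv S hCA

end

end Cfsg.Agent.H55.Out
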