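import Cfsg.Agent.H55.Out2
import Cfsg.Agent.S2904

set_option autoImplicit false
set_option maxHeartbeats 800000

namespace Cfsg.Agent.H55.Out

universe u

variable {W : Type u} [CommGroup W]

/-- transfer of the solvability of the normalizer -/
theorem solv_sub (A : Subgroup (MulAut W)) (P : Subgroup A)
    (h : Group.IsSolvable (Subgroup.normalizer ((P.map A.subtype : Subgroup (MulAut W)) : Set (MulAut W)))) :
    Group.IsSolvable (Subgroup.normalizer (P : Set A)) := by
  haveI := h
  let f : Subgroup.normalizer (P : Set A) →* Subgroup.normalizer ((P.map A.subtype : Subgroup (MulAut W)) : Set (MulAut W)) :=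
    { toFun := fun a => ⟨a.1.1, by
        rw [Subgroup.mem_normalizer_iff]
        have ha := a.2
        rw [Subgroup.mem_normalizer_iff] at ha
        intro x
        constructor
        · rintro ⟨y, hy, rfl⟩
          exact ⟨a.1 * y * a.1⁻¹, (ha y).mp hy, rfl⟩
        · rintro ⟨y, hy, hyx⟩
          have h1 : y = a.1 * (a.1⁻¹ * y * a.1) * a.1⁻¹ := by group
          rw [h1] at hy
          refine ⟨a.1⁻¹ * y * a.1, (ha _).mpr hy, ?_⟩
          change a.1.1⁻¹ * (A.subtype y) * a.1.1 = x
          rw [hyx]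
          group⟩
      map_one' := rfl
      map_mul' := fun a b => rfl }
  apply Group.isSolvable_of_isSolvable_injective (f := f)
  intro a b hab
  apply Subtype.ext
  apply Subtype.ext
  have h1 : (f a).1 = (f b).1 := by rw [hab]
  exact h1

theorem L1_main [Finite W] (hW2 : ∀ w : W, w * w = 1) {n : ℕ} (hn : Nat.card W = 2 ^ n) (hn1 : 1 < n)
    (hn6 : n ≠ 6) (A : Subgroup (MulAut W)) (N : Subgroup A) [N.Normal]
    (htr : ∀ a b : W, a ≠ 1 → b ≠ 1 → ∃ g : N, ((g : A) : MulAut W) a = b) : Group.IsSolvable (A ⧸ N) := by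
  haveI : Finite (MulAut W) := inferInstance
  obtain ⟨r, hr, hrn, hrk⟩ := Cfsg.Agent.S2904.result 2 n (by norm_num) hn1 (by tauto) (by
    rintro ⟨rfl, m, hm⟩
    have h1 : m = 0 ∨ m = 1 ∨ 2 ≤ m := by omega
    rcases h1 with rfl | rfl | h1
    · norm_num at hm
    · norm_num at hm
    · have : 2 ^ 2 ≤ 2 ^ m := Nat.pow_le_pow_right (by norm_num) h1
      omega)
  haveI : Fact r.Prime := ⟨hr⟩
  haveI : Nontrivial W := by
    rw [← Finite.one_lt_card_iff_nontrivial, hn]
    exact Nat.one_lt_two_pow (by omega)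
  obtain ⟨w, hw⟩ := exists_ne (1 : W)
  have htr' : ∀ a b : W, a ≠ 1 → b ≠ 1 → ∃ g : N, g • a = b := htr
  have hdvd : r ∣ Nat.card N := by
    have h1 := stab_index htr' hw
    have h2 := (MulAction.stabilizer N w).index_dvd_card
    rw [h1, hn] at h2
    exact hrn.trans h2
  let R : Sylow r N := default
  apply solv_of_R N R
  apply solv_sub A
  -- nontrivial center
  have hRne : Nontrivial (R : Subgroup N) := by
    rw [← Finite.one_lt_card_iff_nontrivial]
    have h1 : r ∣ Nat.card (R : Subgroup N) := by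
      rw [R.card_eq_multiplicity]
      exact dvd_pow_self r (by
        rw [← Nat.pos_iff_ne_zero]
        exact (Nat.Prime.factorization_pos_of_dvd hr Nat.card_pos.ne' hdvd))
    exact lt_of_lt_of_le hr.one_lt (Nat.le_of_dvd Nat.card_pos h1)
  have hZ : Nontrivial (Subgroup.center (R : Subgroup N)) := R.isPGroup'.center_nontrivial
  have hrZ : r ∣ Nat.card (Subgroup.center (R : Subgroup N)) := by
    obtain ⟨k, hk⟩ := IsPGroup.iff_card.mp (R.isPGroup'.to_subgroup (Subgroup.center (R : Subgroup N)))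
    rw [hk]
    apply dvd_pow_self
    rintro rfl
    rw [pow_zero] at hk
    have := Finite.one_lt_card_iff_nontrivial.mpr hZ
    omega
  obtain ⟨x, hx⟩ := exists_prime_orderOf_dvd_card' r hrZ
  let x' : MulAut W := (((x : (R : Subgroup N)) : N) : A)
  have hx' : orderOf x' = r := by
    rw [← hx]
    change orderOf (((((x : (R : Subgroup N)) : N) : A) : MulAut W)) = orderOf x
    rw [Subgroup.orderOf_coe, Subgroup.orderOf_coe, Subgroup.orderOf_coe, Subgroup.orderOf_coe]
  have hirr := irr_of_ppd hW2 (by omega) hn hr hrn hrk x' hx'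
  have hcz : ∀ a ∈ Subgroup.zpowers x', ∀ b ∈ Subgroup.zpowers x', a * b = b * a := by
    rintro _ ⟨i, rfl⟩ _ ⟨j, rfl⟩
    exact (Commute.refl x').zpow_zpow i j |>.eq
  have hcomx : ∀ a ∈ ((R : Subgroup N).map N.subtype).map A.subtype, ∀ s ∈ Subgroup.zpowers x', a * s = s * a := by
    rintro _ ⟨_, ⟨a, ha, rfl⟩, rfl⟩ _ ⟨i, rfl⟩
    have h1 : Commute (⟨a, ha⟩ : (R : Subgroup N)) (x : (R : Subgroup N)) :=
      (Subgroup.mem_center_iff.mp x.2 ⟨a, ha⟩)
    have h2 : Commute (A.subtype (N.subtype a)) x' := by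
      have := h1.map (R : Subgroup N).subtype
      have := this.map N.subtype
      exact this.map A.subtype
    exact (h2.zpow_right i).eq
  apply norm_solvable
  · intro a ha b hb
    exact cent_comm (Subgroup.zpowers x') hcz hirr (hcomx a ha) (hcomx b hb)
  · intro U hU
    apply hirr
    intro y hy u hu
    apply hU y _ u hu
    have : Subgroup.zpowers x' ≤ ((R : Subgroup N).map N.subtype).map A.subtype := by
      rw [Subgroup.zpowers_le]
      exact ⟨_, ⟨_, (x : (R : Subgroup N)).2, rfl⟩, rfl⟩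
    exact this hy

end Cfsg.Agent.H55.Out
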