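import Cfsg.Agent.H55.Out3
import Cfsg.Agent.H43.SubGL4
import Cfsg.Agent.S0144
import Cfsg.Agent.H72.Kazarin

set_option autoImplicit false
set_option maxHeartbeats 1600000

namespace Cfsg.Agent.H55.Out

universe u

variable {W : Type u} [CommGroup W]

theorem card_mulAut_dvd [Finite W] (hW2 : ∀ w : W, w * w = 1) (hn : Nat.card W = 64) :
    Nat.card (MulAut W) ∣ 2 ^ 15 * 3 ^ 4 * 5 * 7 ^ 2 * 31 := by
  haveI : Fact (Nat.Prime 2) := ⟨Nat.prime_two⟩
  letI : Module (ZMod 2) (Additive W) := AddCommGroup.zmodModule (n := 2) (by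
    intro x
    rw [two_nsmul]
    exact hW2 x.toMul)
  haveI : Finite (Additive W) := inferInstanceAs (Finite W)
  have hfr : Module.finrank (ZMod 2) (Additive W) = 6 := by
    have h1 := Module.natCard_eq_pow_finrank (K := ZMod 2) (V := Additive W)
    rw [show Nat.card (Additive W) = 64 from hn, Nat.card_zmod] at h1
    have h2 : (2 : ℕ) ^ 6 = 2 ^ Module.finrank (ZMod 2) (Additive W) := by rw [← h1]; norm_num
    exact (Nat.pow_right_injective (le_refl 2) h2).symm
  haveI : FiniteDimensional (ZMod 2) (Additive W) := Module.finite_of_finrank_pos (by rw [hfr]; norm_num)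
  obtain ⟨e⟩ := Cfsg.Agent.H43.exists_units_equiv (W := Additive W) hfr
  let f : MulAut W →* Module.End (ZMod 2) (Additive W) :=
    { toFun := fun φ => AddMonoidHom.toZModLinearMap 2 (ev φ)
      map_one' := by ext x; rfl
      map_mul' := fun a b => by ext x; rfl }
  have hf : Function.Injective (e.toMonoidHom.comp f.toHomUnits) := by
    intro a b hab
    have h1 : f.toHomUnits a = f.toHomUnits b := e.injective hab
    have h2 : f a = f b := congrArg Units.val h1
    apply ev_inj
    apply AddMonoidHom.ext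
    intro x
    exact LinearMap.congr_fun h2 x
  have h1 := Subgroup.card_dvd_of_injective _ hf
  have h2 : Nat.card (GL (Fin 6) (ZMod 2)) = 2 ^ 15 * 3 ^ 4 * 5 * 7 ^ 2 * 31 := by
    rw [Matrix.card_GL_field]
    simp [Fin.prod_univ_succ]
  rw [h2] at h1
  exact h1

theorem cent_count {M : Type u} [Group M] [Finite M] (R : Subgroup M) {l : ℕ} [Fact l.Prime] {y : M}
    (hy : y ∈ Subgroup.normalizer (R : Set M)) (hyl : orderOf y = l) :
    Nat.card R ≡ Nat.card (R ⊓ Subgroup.centralizer {y} : Subgroup M) [MOD l] := by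
  have hP : IsPGroup l (Subgroup.zpowers y) := by
    apply IsPGroup.of_card (n := 1)
    rw [Nat.card_zpowers, hyl, pow_one]
  have hN : ∀ z : Subgroup.zpowers y, ∀ x ∈ R, z.1 * x * z.1⁻¹ ∈ R := by
    intro z x hx
    have : (z : M) ∈ Subgroup.normalizer (R : Set M) := by
      have h1 : Subgroup.zpowers y ≤ Subgroup.normalizer (R : Set M) := by
        rw [Subgroup.zpowers_le]; exact hy
      exact h1 z.2
    exact (Subgroup.mem_normalizer_iff.mp this x).mp hx
  letI : MulAction (Subgroup.zpowers y) R :=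
    { smul := fun z x => ⟨z.1 * x.1 * z.1⁻¹, hN z x.1 x.2⟩
      one_smul := fun x => Subtype.ext (by change (1 : M) * x.1 * (1 : M)⁻¹ = x.1; group)
      mul_smul := fun a b x => Subtype.ext (by
        change (a.1 * b.1) * x.1 * (a.1 * b.1)⁻¹ = a.1 * (b.1 * x.1 * b.1⁻¹) * a.1⁻¹
        group) }
  have h := hP.card_modEq_card_fixedPoints R
  have e : Nat.card (MulAction.fixedPoints (Subgroup.zpowers y) R) =
      Nat.card (R ⊓ Subgroup.centralizer {y} : Subgroup M) := by
    apply Nat.card_congr
    refine ⟨fun x => ⟨x.1.1, x.1.2, ?_⟩, fun x => ⟨⟨x.1, x.2.1⟩, ?_⟩, fun x => rfl, fun x => rfl⟩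
    · change x.1.1 ∈ Subgroup.centralizer {y}
      rw [Subgroup.mem_centralizer_singleton_iff]
      have h1 := x.2 ⟨y, Subgroup.mem_zpowers y⟩
      have h2 : y * x.1.1 * y⁻¹ = x.1.1 := congrArg Subtype.val h1
      rw [mul_inv_eq_iff_eq_mul] at h2
      first | exact h2 | exact h2.symm
    · rintro ⟨_, i, rfl⟩
      apply Subtype.ext
      change y ^ i * x.1 * (y ^ i)⁻¹ = x.1
      have h1 : x.1 ∈ Subgroup.centralizer {y} := x.2.2
      rw [Subgroup.mem_centralizer_singleton_iff] at h1
      have h2 : Commute y x.1 := by first | exact h1 | exact h1.symm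
      have h3 := h2.zpow_left i
      rw [h3.eq]
      group
  rw [← e]
  exact h

/-- a normalising element of prime order centralises when the count forces it -/
theorem cent_of_count {M : Type u} [Group M] [Finite M] (R : Subgroup M) {l : ℕ} [Fact l.Prime] {y : M}
    (hy : y ∈ Subgroup.normalizer (R : Set M)) (hyl : orderOf y = l) {p m : ℕ} (hp : p.Prime)
    (hR : Nat.card R = p ^ m) (hc : ∀ j < m, ¬ p ^ m ≡ p ^ j [MOD l]) : ∀ x ∈ R, x * y = y * x := by
  have h := cent_count R hy hyl
  have hle : (R ⊓ Subgroup.centralizer {y} : Subgroup M) ≤ R := inf_le_left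
  have hd := Subgroup.card_dvd_of_le hle
  rw [hR] at hd
  obtain ⟨j, hj, hj2⟩ := (Nat.dvd_prime_pow hp).mp hd
  rw [hj2, hR] at h
  have hjm : j = m := by
    by_contra hne
    exact hc j (by omega) h
  have heq : (R ⊓ Subgroup.centralizer {y} : Subgroup M) = R := by
    apply Subgroup.eq_of_le_of_card_ge hle
    rw [hj2, hR, hjm]
  intro x hx
  have h1 : x ∈ (R ⊓ Subgroup.centralizer {y} : Subgroup M) := by rw [heq]; exact hx
  have h2 : x ∈ Subgroup.centralizer {y} := h1.2
  rw [Subgroup.mem_centralizer_singleton_iff] at h2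
  first | exact h2 | exact h2.symm

end Cfsg.Agent.H55.Out
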