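import Cfsg.Agent.H55.Out4

set_option autoImplicit false
set_option maxHeartbeats 1600000

namespace Cfsg.Agent.H55.Out

universe u

variable {W : Type u} [CommGroup W]

theorem card_le_six [Finite W] (hW2 : ∀ w : W, w * w = 1) (hn : Nat.card W = 64) (U : Subgroup W) :
    ∃ k, k ≤ 6 ∧ Nat.card U = 2 ^ k := by
  obtain ⟨k, hk⟩ := card_pow_two hW2 U
  refine ⟨k, ?_, hk⟩
  have h2 : Nat.card U ≤ Nat.card W := Nat.card_le_card_of_injective _ Subtype.val_injective
  rw [hk, hn, show 64 = 2 ^ 6 by norm_num] at h2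
  exact (Nat.pow_le_pow_iff_right (by norm_num)).mp h2

/-- the order of a Sylow subgroup as a power with bounded exponent -/
theorem syl_bound {M : Type u} [Group M] [Finite M] {r m : ℕ} [Fact r.Prime] (R : Subgroup M)
    (hR : IsPGroup r R) {N : ℕ} (h : Nat.card R ∣ N) (hN : ¬ r ^ (m + 1) ∣ N) :
    ∃ k, k ≤ m ∧ Nat.card R = r ^ k := by
  obtain ⟨k, hk⟩ := IsPGroup.iff_card.mp hR
  refine ⟨k, ?_, hk⟩
  by_contra hlt
  push Not at hlt
  apply hN
  rw [hk] at h
  exact (pow_dvd_pow r (by omega)).trans h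

section Six

variable [Finite W] (hW2 : ∀ w : W, w * w = 1) (hn : Nat.card W = 64)
  (A : Subgroup (MulAut W)) (N : Subgroup A) [N.Normal]
  (htr : ∀ a b : W, a ≠ 1 → b ≠ 1 → ∃ g : N, ((g : A) : MulAut W) a = b)

/-- the image in `MulAut W` -/
abbrev up {A : Subgroup (MulAut W)} {N : Subgroup A} (P : Subgroup N) : Subgroup (MulAut W) :=
  (P.map N.subtype).map A.subtype

omit [Finite W] [N.Normal] in
theorem card_up (P : Subgroup N) : Nat.card (up P) = Nat.card P := by
  rw [up, Subgroup.card_map_of_injective A.subtype_injective, Subgroup.card_map_of_injective N.subtype_injective]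

omit [Finite W] [N.Normal] in
theorem isP_up {r : ℕ} (P : Subgroup N) (hP : IsPGroup r P) : IsPGroup r (up P) :=
  (hP.map _).map _

include hn htr in
theorem sylow_fix {r : ℕ} [Fact r.Prime] (hr : r ∣ 63) (R : Sylow r N) {w : W}
    (hw : w ∈ fixS (up (R : Subgroup N))) : w = 1 := by
  by_contra hw1
  haveI : Finite (MulAut W) := inferInstance
  refine fix_contra (H := N) htr hw1 R ?_ (by rw [hn]; exact hr)
  intro y hy
  exact hw _ ⟨_, ⟨y, hy, rfl⟩, rfl⟩

include hn htr in
theorem dvd_63 : 63 ∣ Nat.card N := by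
  haveI : Finite (MulAut W) := inferInstance
  haveI : Nontrivial W := by
    rw [← Finite.one_lt_card_iff_nontrivial, hn]; norm_num
  obtain ⟨w, hw⟩ := exists_ne (1 : W)
  have h1 := stab_index (H := N) htr hw
  have h2 := (MulAction.stabilizer N w).index_dvd_card
  rw [h1, hn] at h2
  exact h2

/-- fixed points of `R` in the fixed points of a commuting element -/
theorem fix_sub {r : ℕ} [Fact r.Prime] (R : Subgroup (MulAut W)) (hR : IsPGroup r R) (y : MulAut W)
    (hy : ∀ x ∈ R, x * y = y * x) :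
    Nat.card (fixS (Subgroup.zpowers y)) ≡ Nat.card (fixS R ⊓ fixS (Subgroup.zpowers y) : Subgroup W) [MOD r] := by
  apply card_fix R hR
  intro x hx u hu s hs
  have h1 : Commute x s := by
    obtain ⟨i, rfl⟩ := hs
    exact (show Commute x y from hy x hx).zpow_right i
  have h2 : (s * x) u = (x * s) u := by rw [h1.eq]
  change s (x u) = x (s u) at h2
  rw [h2, hu s hs]

end Six

end Cfsg.Agent.H55.Out
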