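import Cfsg.Agent.H55.Out5

set_option autoImplicit false
set_option maxHeartbeats 1600000

namespace Cfsg.Agent.H55.Out

universe u

variable {W : Type u} [CommGroup W] [Finite W] (hW2 : ∀ w : W, w * w = 1) (hn : Nat.card W = 64)
  (A : Subgroup (MulAut W)) (N : Subgroup A) [N.Normal]
  (htr : ∀ a b : W, a ≠ 1 → b ≠ 1 → ∃ g : N, ((g : A) : MulAut W) a = b)

include hW2 hn htr in
theorem no_5_31 {l : ℕ} (hl : l = 5 ∨ l = 31) : ¬ l ∣ Nat.card (A ⧸ N) := by
  intro hdvd
  haveI : Finite (MulAut W) := inferInstance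
  have hlp : l.Prime := by rcases hl with rfl | rfl <;> norm_num
  haveI : Fact l.Prime := ⟨hlp⟩
  haveI : Fact (Nat.Prime 7) := ⟨by norm_num⟩
  let R : Sylow 7 N := default
  obtain ⟨y, hy, hyl⟩ := exists_of_dvd N R hlp hdvd
  obtain ⟨m, hm, hRm⟩ := syl_bound (m := 2) (R : Subgroup N) R.isPGroup'
    (((R : Subgroup N).card_subgroup_dvd_card.trans (Subgroup.card_subgroup_dvd_card N)).trans
      ((Subgroup.card_subgroup_dvd_card A).trans (card_mulAut_dvd hW2 hn))) (by norm_num)
  have hcen : ∀ x ∈ (R : Subgroup N).map N.subtype, x * y = y * x := by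
    apply cent_of_count ((R : Subgroup N).map N.subtype) hy hyl (p := 7) (m := m) (by norm_num)
    · rw [Subgroup.card_map_of_injective N.subtype_injective, hRm]
    · intro j hj
      rcases hl with rfl | rfl <;> interval_cases m <;> interval_cases j <;> decide
  have hcen' : ∀ x ∈ up (R : Subgroup N), x * (y : MulAut W) = (y : MulAut W) * x := by
    rintro _ ⟨x, hx, rfl⟩
    exact congrArg A.subtype (hcen x hx)
  have h7 := fix_sub (up (R : Subgroup N)) (isP_up A N _ R.isPGroup') (y : MulAut W) hcen'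
  have hyo : orderOf (y : MulAut W) = l := by rw [Subgroup.orderOf_coe, hyl]
  have hP : IsPGroup l (Subgroup.zpowers (y : MulAut W)) := by
    apply IsPGroup.of_card (n := 1)
    rw [Nat.card_zpowers, hyo, pow_one]
  have hl2 := card_fix (Subgroup.zpowers (y : MulAut W)) hP ⊤ (fun _ _ _ _ => Subgroup.mem_top _)
  rw [inf_top_eq, Subgroup.card_top, hn] at hl2
  obtain ⟨j, hj6, hj⟩ := card_le_six hW2 hn (fixS (Subgroup.zpowers (y : MulAut W)))
  obtain ⟨i, hi6, hi⟩ := card_le_six hW2 hn (fixS (up (R : Subgroup N)) ⊓ fixS (Subgroup.zpowers (y : MulAut W)))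
  have hine : i = 0 := by
    have h1 : (fixS (up (R : Subgroup N)) ⊓ fixS (Subgroup.zpowers (y : MulAut W))) = ⊥ := by
      rw [Subgroup.eq_bot_iff_forall]
      intro w hw
      exact sylow_fix hn A N htr (by norm_num) R hw.1
    rw [h1, Subgroup.card_bot] at hi
    by_contra hi0
    have : 1 < 2 ^ i := Nat.one_lt_two_pow hi0
    omega
  have hj6' : j ≠ 6 := by
    rintro rfl
    have h4 : fixS (Subgroup.zpowers (y : MulAut W)) = ⊤ := by
      apply Subgroup.eq_top_of_card_eq
      rw [hj, hn]; norm_num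
    have h5 : (y : MulAut W) = 1 := by
      ext w
      have : w ∈ fixS (Subgroup.zpowers (y : MulAut W)) := h4 ▸ Subgroup.mem_top w
      exact this _ (Subgroup.mem_zpowers _)
    rw [h5, orderOf_one] at hyo
    exact hlp.one_lt.ne hyo
  rw [hj] at hl2 h7
  rw [hi, hine] at h7
  have : ∀ j < 6, (64 ≡ 2 ^ j [MOD 5] ∨ 64 ≡ 2 ^ j [MOD 31]) → ¬ (2 ^ j ≡ 2 ^ 0 [MOD 7]) := by decide
  exact this j (by omega) (by rcases hl with rfl | rfl <;> tauto) h7

include hW2 hn htr in
theorem no_7 (h9 : ∀ P : Sylow 3 N, Nat.card (P : Subgroup N) ≠ 9) : ¬ 7 ∣ Nat.card (A ⧸ N) := by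
  intro hdvd
  haveI : Finite (MulAut W) := inferInstance
  haveI : Fact (Nat.Prime 7) := ⟨by norm_num⟩
  haveI : Fact (Nat.Prime 3) := ⟨by norm_num⟩
  let P : Sylow 3 N := default
  obtain ⟨y, hy, hyl⟩ := exists_of_dvd N P (by norm_num) hdvd
  obtain ⟨m, hm, hRm⟩ := syl_bound (m := 4) (P : Subgroup N) P.isPGroup'
    (((P : Subgroup N).card_subgroup_dvd_card.trans (Subgroup.card_subgroup_dvd_card N)).trans
      ((Subgroup.card_subgroup_dvd_card A).trans (card_mulAut_dvd hW2 hn))) (by norm_num)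
  have hm3 : 3 ≤ m := by
    have h1 : 3 ^ 2 ∣ Nat.card N := (by norm_num : (3 : ℕ) ^ 2 ∣ 63).trans (dvd_63 hn A N htr)
    have h2 := P.pow_dvd_card_of_pow_dvd_card h1
    rw [show Nat.card P = Nat.card (P : Subgroup N) from rfl, hRm] at h2
    have h3 : 2 ≤ m := (Nat.pow_dvd_pow_iff_le_right (by norm_num)).mp h2
    have h4 : m ≠ 2 := by
      rintro rfl
      exact h9 P hRm
    omega
  have hcen : ∀ x ∈ (P : Subgroup N).map N.subtype, x * y = y * x := by
    apply cent_of_count ((P : Subgroup N).map N.subtype) hy hyl (p := 3) (m := m) (by norm_num)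
    · rw [Subgroup.card_map_of_injective N.subtype_injective, hRm]
    · intro j hj
      interval_cases m <;> interval_cases j <;> decide
  have hcen' : ∀ x ∈ up (P : Subgroup N), x * (y : MulAut W) = (y : MulAut W) * x := by
    rintro _ ⟨x, hx, rfl⟩
    exact congrArg A.subtype (hcen x hx)
  have h7 := fix_sub (up (P : Subgroup N)) (isP_up A N _ P.isPGroup') (y : MulAut W) hcen'
  have hyo : orderOf (y : MulAut W) = 7 := by rw [Subgroup.orderOf_coe, hyl]
  have hPy : IsPGroup 7 (Subgroup.zpowers (y : MulAut W)) := by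
    apply IsPGroup.of_card (n := 1)
    rw [Nat.card_zpowers, hyo, pow_one]
  have hl2 := card_fix (Subgroup.zpowers (y : MulAut W)) hPy ⊤ (fun _ _ _ _ => Subgroup.mem_top _)
  rw [inf_top_eq, Subgroup.card_top, hn] at hl2
  obtain ⟨j, hj6, hj⟩ := card_le_six hW2 hn (fixS (Subgroup.zpowers (y : MulAut W)))
  obtain ⟨i, hi6, hi⟩ := card_le_six hW2 hn (fixS (up (P : Subgroup N)) ⊓ fixS (Subgroup.zpowers (y : MulAut W)))
  have hine : i = 0 := by
    have h1 : (fixS (up (P : Subgroup N)) ⊓ fixS (Subgroup.zpowers (y : MulAut W))) = ⊥ := by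
      rw [Subgroup.eq_bot_iff_forall]
      intro w hw
      exact sylow_fix hn A N htr (by norm_num) P hw.1
    rw [h1, Subgroup.card_bot] at hi
    by_contra hi0
    have : 1 < 2 ^ i := Nat.one_lt_two_pow hi0
    omega
  have hj6' : j ≠ 6 := by
    rintro rfl
    have h4 : fixS (Subgroup.zpowers (y : MulAut W)) = ⊤ := by
      apply Subgroup.eq_top_of_card_eq
      rw [hj, hn]; norm_num
    have h5 : (y : MulAut W) = 1 := by
      ext w
      have : w ∈ fixS (Subgroup.zpowers (y : MulAut W)) := h4 ▸ Subgroup.mem_top w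
      exact this _ (Subgroup.mem_zpowers _)
    rw [h5, orderOf_one] at hyo
    norm_num at hyo
  rw [hj] at hl2 h7
  rw [hi, hine] at h7
  have hj0 : j = 0 := by
    have : ∀ j < 6, (64 ≡ 2 ^ j [MOD 7]) → (2 ^ j ≡ 2 ^ 0 [MOD 3]) → j = 0 := by decide
    exact this j (by omega) hl2 h7
  have hFy : fixS (Subgroup.zpowers (y : MulAut W)) = ⊥ := by
    apply Subgroup.eq_bot_of_card_eq
    rw [hj, hj0, pow_zero]
  -- some element of P fixes a nontrivial element
  obtain ⟨z, hz, hz1, w, hw1, hzw⟩ : ∃ z ∈ up (P : Subgroup N), z ≠ 1 ∧ ∃ w : W, w ≠ 1 ∧ z w = w := by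
    by_contra hno
    push Not at hno
    letI : MulAction (up (P : Subgroup N)) {w : W // w ≠ 1} :=
      { smul := fun z w => ⟨z.1 w.1, fun h => w.2 ((MulEquiv.map_eq_one_iff _).mp h)⟩
        one_smul := fun w => rfl
        mul_smul := fun a b w => rfl }
    have hst : ∀ b : {w : W // w ≠ 1}, MulAction.stabilizer (up (P : Subgroup N)) b = ⊥ := by
      intro b
      rw [Subgroup.eq_bot_iff_forall]
      intro z hz
      rw [MulAction.mem_stabilizer_iff] at hz
      have h1 : z.1 b.1 = b.1 := congrArg Subtype.val hz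
      by_contra hz1
      exact hno z.1 z.2 (fun h => hz1 (Subtype.ext h)) b.1 b.2 h1
    have e := MulAction.selfEquivOrbitsQuotientProd hst
    have h1 := Nat.card_congr e
    rw [Nat.card_prod, card_up, hRm] at h1
    have h2 : Nat.card {w : W // w ≠ 1} = 63 := by
      have h3 : Nat.card {w : W // w ≠ 1} = ({1}ᶜ : Set W).ncard := rfl
      rw [h3]
      have h4 := Set.ncard_add_ncard_compl ({1} : Set W)
      rw [Set.ncard_singleton] at h4
      omega
    rw [h2] at h1
    have h3 : 3 ^ 3 ∣ 63 := (pow_dvd_pow 3 hm3).trans (Dvd.intro_left _ h1.symm)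
    norm_num at h3
  have hzy : ∀ s ∈ Subgroup.zpowers (y : MulAut W), ∀ u ∈ fixS (Subgroup.zpowers z), s u ∈ fixS (Subgroup.zpowers z) := by
    intro s hs u hu t ht
    have h1 : Commute s t := by
      obtain ⟨a, rfl⟩ := hs
      obtain ⟨b, rfl⟩ := ht
      exact ((show Commute z (y : MulAut W) from hcen' z hz).symm).zpow_zpow a b
    have h2 : (t * s) u = (s * t) u := by rw [h1.eq]
    change t (s u) = s (t u) at h2
    rw [h2, hu t ht]
  have h1 := card_fix (Subgroup.zpowers (y : MulAut W)) hPy (fixS (Subgroup.zpowers z)) hzy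
  rw [hFy, bot_inf_eq, Subgroup.card_bot] at h1
  obtain ⟨k, hk6, hk⟩ := card_le_six hW2 hn (fixS (Subgroup.zpowers z))
  have hPz : IsPGroup 3 (Subgroup.zpowers z) := by
    have h2 : Subgroup.zpowers z ≤ up (P : Subgroup N) := by rw [Subgroup.zpowers_le]; exact hz
    exact (isP_up A N _ P.isPGroup').to_le h2
  have h2 := card_fix (Subgroup.zpowers z) hPz ⊤ (fun _ _ _ _ => Subgroup.mem_top _)
  rw [inf_top_eq, Subgroup.card_top, hn, hk] at h2
  rw [hk] at h1
  have hk0 : k ≠ 0 := by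
    rintro rfl
    have h3 : fixS (Subgroup.zpowers z) = ⊥ := by
      apply Subgroup.eq_bot_of_card_eq
      rw [hk, pow_zero]
    have h4 : w ∈ fixS (Subgroup.zpowers z) := by
      rintro _ ⟨a, rfl⟩
      have h5 : z ∈ MulAction.stabilizer (MulAut W) w := hzw
      exact (Subgroup.zpow_mem _ h5 a : z ^ a ∈ MulAction.stabilizer (MulAut W) w)
    rw [h3, Subgroup.mem_bot] at h4
    exact hw1 h4
  have hk6' : k ≠ 6 := by
    rintro rfl
    have h4 : fixS (Subgroup.zpowers z) = ⊤ := by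
      apply Subgroup.eq_top_of_card_eq
      rw [hk, hn]; norm_num
    apply hz1
    ext w
    have : w ∈ fixS (Subgroup.zpowers z) := h4 ▸ Subgroup.mem_top w
    exact this _ (Subgroup.mem_zpowers _)
  have : ∀ k < 6, k ≠ 0 → (2 ^ k ≡ 1 [MOD 7]) → ¬ (64 ≡ 2 ^ k [MOD 3]) := by decide
  exact this k (by omega) hk0 h1 h2

end Cfsg.Agent.H55.Out
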