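import Cfsg.Agent.H55.Out6

set_option autoImplicit false
set_option maxHeartbeats 1600000

namespace Cfsg.Agent.H55.Out

universe u

variable {W : Type u} [CommGroup W] [Finite W] (hW2 : ∀ w : W, w * w = 1) (hn : Nat.card W = 64)
  (A : Subgroup (MulAut W)) (N : Subgroup A) [N.Normal]
  (htr : ∀ a b : W, a ≠ 1 → b ≠ 1 → ∃ g : N, ((g : A) : MulAut W) a = b)

include hW2 hn htr in
theorem case_9 (P : Sylow 3 N) (h9 : Nat.card (P : Subgroup N) = 9) : Group.IsSolvable (A ⧸ N) := by
  haveI : Finite (MulAut W) := inferInstance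
  haveI : Fact (Nat.Prime 3) := ⟨by norm_num⟩
  haveI : Nontrivial W := by
    rw [← Finite.one_lt_card_iff_nontrivial, hn]; norm_num
  apply solv_of_R N P
  apply solv_sub A
  apply norm_solvable
  · have hc : IsMulCommutative (P : Subgroup N) :=
      IsPGroup.isMulCommutative_of_card_eq_prime_sq (p := 3) (by rw [h9]; norm_num)
    rintro _ ⟨_, ⟨a, ha, rfl⟩, rfl⟩ _ ⟨_, ⟨b, hb, rfl⟩, rfl⟩
    have h1 : (⟨a, ha⟩ : (P : Subgroup N)) * ⟨b, hb⟩ = ⟨b, hb⟩ * ⟨a, ha⟩ := hc.is_comm.comm _ _
    have h2 : a * b = b * a := congrArg Subtype.val h1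
    rw [← map_mul, ← map_mul, ← map_mul, ← map_mul, h2]
  · intro U hU
    obtain ⟨k, hk6, hk⟩ := card_le_six hW2 hn U
    letI : MulAction (P : Subgroup N) {u : U // u ≠ 1} :=
      { smul := fun z u => ⟨⟨((z.1 : A) : MulAut W) u.1.1, hU _ ⟨_, ⟨z.1, z.2, rfl⟩, rfl⟩ u.1.1 u.1.2⟩, fun h => u.2 (by
          have h1 : ((z.1 : A) : MulAut W) u.1.1 = 1 := congrArg Subtype.val h
          exact Subtype.ext ((MulEquiv.map_eq_one_iff _).mp h1))⟩
        one_smul := fun u => rfl
        mul_smul := fun a b u => rfl }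
    have hst : ∀ b : {u : U // u ≠ 1}, MulAction.stabilizer (P : Subgroup N) b = ⊥ := by
      intro b
      rw [Subgroup.eq_bot_iff_forall]
      intro z hz
      rw [MulAction.mem_stabilizer_iff] at hz
      have h1 : ((z.1 : A) : MulAut W) b.1.1 = b.1.1 := congrArg Subtype.val (congrArg Subtype.val hz)
      have hb1 : b.1.1 ≠ 1 := fun h => b.2 (Subtype.ext h)
      have h2 := stab_index (H := N) htr hb1
      have h3 : z.1 ∈ MulAction.stabilizer N b.1.1 := h1
      have h4 := (MulAction.stabilizer N b.1.1).card_mul_index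
      rw [h2, hn] at h4
      have h5 : orderOf z.1 ∣ Nat.card (MulAction.stabilizer N b.1.1) := by
        have := orderOf_dvd_natCard (⟨z.1, h3⟩ : MulAction.stabilizer N b.1.1)
        rwa [← Subgroup.orderOf_coe] at this
      have h6 : orderOf z.1 ∣ 9 := by
        have := orderOf_dvd_natCard z
        rw [h9, ← Subgroup.orderOf_coe] at this
        exact this
      have h7 : ¬ 3 ∣ Nat.card (MulAction.stabilizer N b.1.1) := by
        rintro ⟨c, hc⟩
        have h8 : 3 ^ 3 ∣ Nat.card N := ⟨c * 7, by rw [← h4, hc]; norm_num; ring⟩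
        have h10 := P.pow_dvd_card_of_pow_dvd_card h8
        rw [show Nat.card P = Nat.card (P : Subgroup N) from rfl, h9] at h10
        norm_num at h10
      have h8 : Nat.Coprime 9 (Nat.card (MulAction.stabilizer N b.1.1)) := by
        rw [show 9 = 3 ^ 2 by norm_num]
        apply Nat.Coprime.pow_left
        exact (Nat.Prime.coprime_iff_not_dvd (by norm_num)).mpr h7
      have h10 : orderOf z.1 = 1 := Nat.eq_one_of_dvd_coprimes h8 h6 h5
      rw [orderOf_eq_one_iff] at h10
      exact Subtype.ext h10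
    have e := MulAction.selfEquivOrbitsQuotientProd hst
    have h1 := Nat.card_congr e
    rw [Nat.card_prod, h9] at h1
    have h2 : Nat.card {u : U // u ≠ 1} = 2 ^ k - 1 := by
      have h3 : Nat.card {u : U // u ≠ 1} = ({1}ᶜ : Set U).ncard := rfl
      rw [h3]
      have h4 := Set.ncard_add_ncard_compl ({1} : Set U)
      rw [Set.ncard_singleton, hk] at h4
      omega
    rw [h2] at h1
    have h3 : 9 ∣ 2 ^ k - 1 := Dvd.intro_left _ h1.symm
    have h4 : k = 0 ∨ k = 6 := by
      have : ∀ k ≤ 6, 9 ∣ 2 ^ k - 1 → k = 0 ∨ k = 6 := by decide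
      exact this k hk6 h3
    rcases h4 with rfl | rfl
    · left
      apply Subgroup.eq_bot_of_card_eq
      rw [hk, pow_zero]
    · right
      apply Subgroup.eq_top_of_card_eq
      rw [hk, hn]; norm_num

include hW2 hn htr in
theorem L1_six : Group.IsSolvable (A ⧸ N) := by
  haveI : Finite (MulAut W) := inferInstance
  by_cases h9 : ∃ P : Sylow 3 N, Nat.card (P : Subgroup N) = 9
  · obtain ⟨P, hP⟩ := h9
    exact case_9 hW2 hn A N htr P hP
  · push Not at h9
    have h7 := no_7 hW2 hn A N htr h9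
    have h5 := no_5_31 hW2 hn A N htr (l := 5) (Or.inl rfl)
    have h31 := no_5_31 hW2 hn A N htr (l := 31) (Or.inr rfl)
    have hcard : Nat.card (A ⧸ N) ∣ 2 ^ 15 * 3 ^ 4 * 5 * 7 ^ 2 * 31 :=
      (Subgroup.card_quotient_dvd_card N).trans ((Subgroup.card_subgroup_dvd_card A).trans (card_mulAut_dvd hW2 hn))
    obtain ⟨a, b, hab⟩ := Cfsg.Agent.H72.exists_eq_pow_mul_pow (p := 2) (q := 3) (n := Nat.card (A ⧸ N))
      Nat.card_pos.ne' Nat.prime_two (by
        intro r hr hd
        have h1 := hd.trans hcard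
        rw [hr.dvd_mul, hr.dvd_mul, hr.dvd_mul, hr.dvd_mul] at h1
        rcases h1 with (((h1 | h1) | h1) | h1) | h1
        · left; exact (Nat.prime_dvd_prime_iff_eq hr Nat.prime_two).mp (hr.dvd_of_dvd_pow h1)
        · right; exact (Nat.prime_dvd_prime_iff_eq hr Nat.prime_three).mp (hr.dvd_of_dvd_pow h1)
        · exfalso
          rw [(Nat.prime_dvd_prime_iff_eq hr Nat.prime_five).mp h1] at hd
          exact h5 hd
        · exfalso
          rw [(Nat.prime_dvd_prime_iff_eq hr (by norm_num : Nat.Prime 7)).mp (hr.dvd_of_dvd_pow h1)] at hd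
          exact h7 hd
        · exfalso
          rw [(Nat.prime_dvd_prime_iff_eq hr (by norm_num : Nat.Prime 31)).mp h1] at hd
          exact h31 hd)
    exact Cfsg.Agent.S0144.result 2 3 a b Nat.prime_two Nat.prime_three hab

omit hn in
include hW2 htr in
/-- A group of automorphisms of an elementary abelian 2-group modulo a normal subgroup which is
transitive on the nontrivial elements is solvable. -/
theorem L1 : Group.IsSolvable (A ⧸ N) := by
  classical
  haveI : Finite (MulAut W) := inferInstance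
  obtain ⟨n, hn⟩ : ∃ n, Nat.card W = 2 ^ n := by
    obtain ⟨k, hk⟩ := card_pow_two hW2 (⊤ : Subgroup W)
    exact ⟨k, by rw [← hk, Subgroup.card_top]⟩
  rcases Nat.lt_or_ge 1 n with h1 | h1
  · by_cases h6 : n = 6
    · subst h6
      exact L1_six hW2 (by rw [hn]; norm_num) A N htr
    · exact L1_main hW2 hn h1 h6 A N htr
  · -- trivial automorphism group
    have hle : Nat.card W ≤ 2 := by
      rw [hn]
      calc 2 ^ n ≤ 2 ^ 1 := Nat.pow_le_pow_right (by norm_num) h1
        _ = 2 := by norm_num
    have hall : ∀ φ : MulAut W, φ = 1 := by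
      intro φ
      ext w
      change φ w = w
      by_contra hne
      have hw : w ≠ 1 := by
        rintro rfl
        exact hne (map_one φ)
      have hw2 : φ w ≠ 1 := fun h => hw ((MulEquiv.map_eq_one_iff _).mp h)
      have h3 : ({1, w, φ w} : Finset W).card = 3 := by
        rw [Finset.card_eq_three]
        exact ⟨1, w, φ w, hw.symm, hw2.symm, fun h => hne h.symm, rfl⟩
      haveI := Fintype.ofFinite W
      have h4 := Finset.card_le_univ ({1, w, φ w} : Finset W)
      rw [h3, ← Nat.card_eq_fintype_card] at h4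
      omega
    apply Group.isSolvable_of_comm
    intro a b
    obtain ⟨a, rfl⟩ := QuotientGroup.mk_surjective a
    obtain ⟨b, rfl⟩ := QuotientGroup.mk_surjective b
    have ha : a = 1 := Subtype.ext (hall a.1)
    have hb : b = 1 := Subtype.ext (hall b.1)
    rw [ha, hb]

end Cfsg.Agent.H55.Out
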